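import Groth.Agent.SGA7.DualVar.Algebra

/-!
# Sections of a smooth affine variety by two equations

`pair_smoothRelDim_iff`: for `B` smooth of relative dimension `n ≥ 2` over an algebraically closed
field, `B/(g₀, g₁)` is smooth of relative dimension `n - 2` if and only if at no rational common zero
are the differentials of `g₀`, `g₁` linearly dependent.
-/

set_option autoImplicit false
set_option linter.style.haveILetI false
universe u

open KaehlerDifferential
open Groth.SGA7.DualVar

namespace Groth.SGA7.Lef

variable {k : Type u} [Field k] {B : Type u} [CommRing B] [Algebra k B]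

/-- If functionals on differentials take the values `δ_pq` at `dg_p` modulo the `g`, then `B/(g)` is
formally smooth. -/
theorem formallySmooth_quotient_family [Algebra.FormallySmooth k B] {ι : Type} [Fintype ι] [DecidableEq ι]
    (g : ι → B) (r : ι → (Ω[B⁄k] →ₗ[B] B))
    (hr : ∀ p q, r q (D k B (g p)) - (if p = q then 1 else 0) ∈ Ideal.span (Set.range g)) :
    Algebra.FormallySmooth k (B ⧸ Ideal.span (Set.range g)) := by
  let J := Ideal.span (Set.range g)
  let S := B ⧸ J
  have hsurj : Function.Surjective (algebraMap B S) := Ideal.Quotient.mk_surjective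
  rw [Algebra.FormallySmooth.iff_split_injection (R := k) (P := B) (A := S) hsurj]
  have hker : RingHom.ker (algebraMap B S) = J := Ideal.mk_ker
  have hgker : ∀ p, g p ∈ RingHom.ker (algebraMap B S) := fun p => by
    rw [hker]; exact Ideal.subset_span ⟨p, rfl⟩
  let cls : ι → (RingHom.ker (algebraMap B S)).Cotangent := fun p =>
    (RingHom.ker (algebraMap B S)).toCotangent ⟨g p, hgker p⟩
  have hkill : ∀ q, ∀ w ∈ J, w • cls q = 0 := fun q w hw => by
    rw [← LinearMap.map_smul, Ideal.toCotangent_eq_zero, pow_two]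
    exact Ideal.mul_mem_mul (hker.symm ▸ hw) (hgker q)
  let ls : ι → (S →ₗ[B] (RingHom.ker (algebraMap B S)).Cotangent) := fun q =>
    Submodule.liftQ _ (LinearMap.toSpanSingleton B _ (cls q)) fun w hw => hkill q w hw
  let ψ := TensorProduct.lift (LinearMap.mk₂ B (fun (s : S) ω => ∑ q, r q ω • ls q s)
    (fun s s' ω => by simp only [map_add, smul_add, Finset.sum_add_distrib])
    (fun e s ω => by rw [Finset.smul_sum]; exact Finset.sum_congr rfl fun q _ => by rw [map_smul, smul_comm])
    (fun s ω ω' => by simp only [map_add, add_smul, Finset.sum_add_distrib])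
    (fun e s ω => by rw [Finset.smul_sum]; exact Finset.sum_congr rfl fun q _ => by rw [map_smul, smul_eq_mul, mul_smul]))
  refine ⟨ψ, ?_⟩
  refine LinearMap.ext fun w => ?_
  obtain ⟨⟨w, hw⟩, rfl⟩ := Ideal.toCotangent_surjective _ w
  have hwJ : w ∈ J := hker ▸ hw
  obtain ⟨v, hv⟩ := (Submodule.mem_span_range_iff_exists_fun B).1 hwJ
  have hsum : (⟨w, hw⟩ : RingHom.ker (algebraMap B S)) = ∑ p, v p • ⟨g p, hgker p⟩ := by
    apply Subtype.ext
    simp [← hv]
  rw [hsum, map_sum, map_sum, LinearMap.id_apply]
  refine Finset.sum_congr rfl fun p _ => ?_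
  rw [map_smul, map_smul]
  congr 1
  rw [LinearMap.comp_apply, kerCotangentToTensor_toCotangent, TensorProduct.lift.tmul]
  change ∑ q, r q (D k B (g p)) • ls q (Ideal.Quotient.mk _ 1) = _
  have hl1 : ∀ q, ls q (Ideal.Quotient.mk _ 1) = cls q := fun q => one_smul B (cls q)
  have h1 : ∀ q, r q (D k B (g p)) • cls q = if p = q then cls q else 0 := fun q => by
    have := hkill q _ (hr p q)
    rw [sub_smul, sub_eq_zero] at this
    rw [this, ite_smul, one_smul, zero_smul]
  simp only [hl1, h1, Finset.sum_ite_eq, Finset.mem_univ, if_true]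
  rfl

/-- Dual functionals to `dg₀`, `dg₁` modulo `(g₀, g₁)`, from independence at points. -/
theorem exists_functionals [IsAlgClosed k] [Algebra.FiniteType k B] [Algebra.FormallySmooth k B] (g : Fin 2 → B)
    (H : ∀ c : B →ₐ[k] k, (∀ p, c (g p) = 0) → ∀ t : Fin 2 → k, t ≠ 0 → ∃ D ∈ pDer c, ∑ p, t p * D (g p) ≠ 0) :
    ∃ r : Fin 2 → (Ω[B⁄k] →ₗ[B] B),
      ∀ p q, r q (D k B (g p)) - (if p = q then 1 else 0) ∈ Ideal.span (Set.range g) := by
  classical
  obtain ⟨N, ret, sec, -, -, hsec⟩ := Module.Finite.exists_comp_eq_id_of_projective B Ω[B⁄k]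
  let s : Fin 2 → Fin N → B := fun p => sec (D k B (g p))
  let m : Fin N × Fin N → B := fun x => s 0 x.1 * s 1 x.2 - s 0 x.2 * s 1 x.1
  have hI : Ideal.span (Set.range g) ⊔ Ideal.span (Set.range m) = ⊤ := by
    by_contra hne
    obtain ⟨P, hP, hle⟩ := Ideal.exists_le_maximal _ hne
    obtain ⟨c, hc⟩ := exists_point (k := k) P
    have hm : ∀ a b, c (s 0 a) * c (s 1 b) = c (s 0 b) * c (s 1 a) := fun a b => by
      have := hc _ (hle (Ideal.mem_sup_right (Ideal.subset_span ⟨(a, b), rfl⟩)))
      simpa [m, sub_eq_zero] using this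
    obtain ⟨t, ht, hts⟩ : ∃ t : Fin 2 → k, t ≠ 0 ∧ ∀ b, t 0 * c (s 0 b) + t 1 * c (s 1 b) = 0 := by
      rcases Classical.em (∀ b, c (s 0 b) = 0) with h0 | h0
      · exact ⟨![1, 0], fun h => one_ne_zero (congrFun h 0), fun b => by simp [h0 b]⟩
      · push Not at h0
        obtain ⟨a, ha⟩ := h0
        refine ⟨![- c (s 1 a), c (s 0 a)], fun h => ha (congrFun h 1), fun b => ?_⟩
        have := hm a b
        simp only [Matrix.cons_val_zero, Matrix.cons_val_one]
        linear_combination this
    obtain ⟨E, hE, hEh⟩ := H c (fun p => hc _ (hle (Ideal.mem_sup_left (Ideal.subset_span ⟨p, rfl⟩)))) t ht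
    letI : Algebra B k := c.toRingHom.toAlgebra
    haveI : IsScalarTower k B k := IsScalarTower.of_algebraMap_eq fun r => (c.commutes r).symm
    let E' : Derivation k B k := Derivation.mk' E fun a b => hE a b
    apply hEh
    have h1 : ∀ p, E (g p) = ∑ j, c (s p j) * E'.liftKaehlerDifferential (ret (Pi.single j 1)) := fun p => by
      have h0 : D k B (g p) = ret (sec (D k B (g p))) := (LinearMap.congr_fun hsec _).symm
      have h2 : E (g p) = E'.liftKaehlerDifferential (ret (s p)) := by
        rw [← h0, Derivation.liftKaehlerDifferential_comp_D]; rfl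
      rw [h2]; conv_lhs => rw [pi_eq_sum_univ' (s p), map_sum, map_sum]
      refine Finset.sum_congr rfl fun j _ => ?_
      rw [map_smul, map_smul, Algebra.smul_def]
      rfl
    simp only [h1, Fin.sum_univ_two, Finset.mul_sum, ← Finset.sum_add_distrib, ← mul_assoc, ← add_mul, hts,
      zero_mul, Finset.sum_const_zero]
  obtain ⟨x, hx, y, hy, hxy⟩ := Submodule.mem_sup.1 (show (1 : B) ∈ _ from hI.symm ▸ Submodule.mem_top)
  obtain ⟨coef, hcoef⟩ := Ideal.mem_span_range_iff_exists_fun.1 hy
  let L : Fin 2 → ((Fin N → B) →ₗ[B] B) :=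
    ![∑ e : Fin N × Fin N, coef e • (s 1 e.2 • LinearMap.proj e.1 - s 1 e.1 • LinearMap.proj e.2),
      ∑ e : Fin N × Fin N, coef e • (s 0 e.1 • LinearMap.proj e.2 - s 0 e.2 • LinearMap.proj e.1)]
  have hy1 : y - 1 ∈ Ideal.span (Set.range g) := by
    rw [show y - 1 = -x by rw [← hxy]; ring]
    exact neg_mem hx
  refine ⟨fun q => L q ∘ₗ sec, fun p q => ?_⟩
  have hval : L q (s p) = if p = q then y else 0 := by
    rw [← hcoef]
    fin_cases p <;> fin_cases q <;>
      simp [L, m, LinearMap.sum_apply, smul_eq_mul] <;>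
      first
      | exact Finset.sum_eq_zero fun e _ => by ring
      | exact Finset.sum_congr rfl fun e _ => by ring
  change L q (s p) - _ ∈ _
  rw [hval]
  split_ifs
  · exact hy1
  · simp

section

variable (J : Ideal B) (K : Type u) [Field K] [Algebra k K] [Algebra (B ⧸ J) K] [Algebra B K]
  [IsScalarTower k B K] [IsScalarTower k (B ⧸ J) K] [IsScalarTower B (B ⧸ J) K]

/-- Derivations killing an ideal. -/
def killing : Submodule K (Derivation k B K) where
  carrier := {E | ∀ b ∈ J, E b = 0}
  add_mem' := fun {E F} hE hF b hb => by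
    change E b + F b = 0
    rw [hE b hb, hF b hb, add_zero]
  zero_mem' := fun b _ => rfl
  smul_mem' := fun t E hE b hb => by
    change t • E b = 0
    rw [hE b hb, smul_zero]

/-- Derivations of the quotient are the derivations killing the ideal. -/
theorem finrank_derivation_quotient' :
    Module.finrank K (Derivation k (B ⧸ J) K) = Module.finrank K (killing J K : Submodule K (Derivation k B K)) := by
  let res : Derivation k (B ⧸ J) K →ₗ[K] Derivation k B K :=
    { toFun := fun E => E.compAlgebraMap B
      map_add' := fun _ _ => rfl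
      map_smul' := fun _ _ => rfl }
  have hres : Function.Injective res := fun E F hEF => Derivation.ext fun x => by
    obtain ⟨x, rfl⟩ := Ideal.Quotient.mk_surjective x
    exact Derivation.congr_fun hEF x
  have hrr : LinearMap.range res = killing J K := by
    apply le_antisymm
    · rintro _ ⟨E, rfl⟩ b hb
      change E (Ideal.Quotient.mk _ b) = 0
      rw [Ideal.Quotient.eq_zero_iff_mem.2 hb, map_zero]
    · intro E hE
      let L : (B ⧸ J) →ₗ[k] K :=
        { toFun := fun x => Quotient.liftOn' x (fun b => E b) fun a b hab => by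
            rw [Submodule.quotientRel_def] at hab
            have := hE (a - b) hab
            rwa [map_sub, sub_eq_zero] at this
          map_add' := by
            intro x y
            obtain ⟨x, rfl⟩ := Ideal.Quotient.mk_surjective x
            obtain ⟨y, rfl⟩ := Ideal.Quotient.mk_surjective y
            exact map_add E x y
          map_smul' := by
            intro t x
            obtain ⟨x, rfl⟩ := Ideal.Quotient.mk_surjective x
            exact E.map_smul t x }
      refine ⟨Derivation.mk' L fun a b => ?_, Derivation.ext fun _ => rfl⟩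
      obtain ⟨a, rfl⟩ := Ideal.Quotient.mk_surjective a
      obtain ⟨b, rfl⟩ := Ideal.Quotient.mk_surjective b
      rw [Algebra.smul_def, Algebra.smul_def]
      change E (a * b) = algebraMap (B ⧸ J) K (Ideal.Quotient.mk _ a) * E b +
        algebraMap (B ⧸ J) K (Ideal.Quotient.mk _ b) * E a
      rw [E.leibniz, Algebra.smul_def, Algebra.smul_def, IsScalarTower.algebraMap_apply B (B ⧸ J) K a,
        IsScalarTower.algebraMap_apply B (B ⧸ J) K b]
      rfl
  rw [← hrr]
  exact (LinearMap.finrank_range_of_inj hres).symm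

/-- Evaluation of derivations at a pair. -/
def evalPair (g : Fin 2 → B) : Derivation k B K →ₗ[K] (Fin 2 → K) where
  toFun E p := E (g p)
  map_add' _ _ := rfl
  map_smul' _ _ := rfl

end

theorem killing_span (K : Type u) [Field K] [Algebra k K] [Algebra B K] [IsScalarTower k B K] (g : Fin 2 → B)
    (hg : ∀ p, algebraMap B K (g p) = 0) :
    (killing (Ideal.span (Set.range g)) K : Submodule K (Derivation k B K)) = LinearMap.ker (evalPair K g) := by
  ext E
  refine ⟨fun hE => funext fun p => hE _ (Ideal.subset_span ⟨p, rfl⟩), fun hE b hb => ?_⟩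
  obtain ⟨v, rfl⟩ := Ideal.mem_span_range_iff_exists_fun.1 hb
  rw [map_sum]
  refine Finset.sum_eq_zero fun p _ => ?_
  rw [E.leibniz, show E (g p) = 0 from congrFun hE p, smul_zero, zero_add, Algebra.smul_def, hg, zero_mul]

/-- The criterion for a section by two equations to be smooth of relative dimension two less. -/
theorem pair_smoothRelDim_iff [IsAlgClosed k] {n : ℕ} (hn : 2 ≤ n) (hB : SmoothRelDim n k B) (g : Fin 2 → B) :
    SmoothRelDim (n - 2) k (B ⧸ Ideal.span (Set.range g)) ↔
      ∀ c : B →ₐ[k] k, (∀ p, c (g p) = 0) → ∀ t : Fin 2 → k, t ≠ 0 → ∃ D ∈ pDer c, ∑ p, t p * D (g p) ≠ 0 := by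
  classical
  haveI : Algebra.Smooth k B := finiteType_of_smoothRelDim hB
  constructor
  · intro hC c hc t ht
    let cC : (B ⧸ Ideal.span (Set.range g)) →ₐ[k] k := Ideal.Quotient.liftₐ _ c fun b hb => by
      obtain ⟨v, rfl⟩ := Ideal.mem_span_range_iff_exists_fun.1 hb
      simp [map_sum, hc]
    letI : Algebra B k := c.toRingHom.toAlgebra
    haveI : IsScalarTower k B k := IsScalarTower.of_algebraMap_eq fun r => (c.commutes r).symm
    letI : Algebra (B ⧸ Ideal.span (Set.range g)) k := cC.toRingHom.toAlgebra
    haveI : IsScalarTower k (B ⧸ Ideal.span (Set.range g)) k :=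
      IsScalarTower.of_algebraMap_eq fun r => (cC.commutes r).symm
    haveI : IsScalarTower B (B ⧸ Ideal.span (Set.range g)) k := IsScalarTower.of_algebraMap_eq fun _ => rfl
    have h1 := finrank_derivation_quotient' (k := k) (Ideal.span (Set.range g)) k
    rw [killing_span k g hc, finrank_derivation hC k] at h1
    haveI : FiniteDimensional k (Derivation k B k) :=
      FiniteDimensional.of_finrank_pos (by rw [finrank_derivation hB k]; omega)
    have h2 := LinearMap.finrank_range_add_finrank_ker (evalPair k g : Derivation k B k →ₗ[k] (Fin 2 → k))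
    rw [← h1, finrank_derivation hB k] at h2
    have htop : LinearMap.range (evalPair k g : Derivation k B k →ₗ[k] (Fin 2 → k)) = ⊤ :=
      Submodule.eq_top_of_finrank_eq (by rw [Module.finrank_pi, Fintype.card_fin]; omega)
    obtain ⟨p, hp⟩ := Function.ne_iff.1 ht
    obtain ⟨E, hE⟩ := LinearMap.range_eq_top.1 htop (Pi.single p 1)
    refine ⟨E.toLinearMap, fun a b => E.leibniz a b, ?_⟩
    have hE' : ∀ q, E.toLinearMap (g q) = (Pi.single p 1 : Fin 2 → k) q := fun q => congrFun hE q
    simpa [hE', Pi.single_apply] using hp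
  · intro H
    obtain ⟨r, hr⟩ := exists_functionals g H
    haveI : Algebra.FormallySmooth k (B ⧸ Ideal.span (Set.range g)) := formallySmooth_quotient_family g r hr
    haveI : IsNoetherianRing B := Algebra.FiniteType.isNoetherianRing k B
    haveI : Algebra.Smooth k (B ⧸ Ideal.span (Set.range g)) :=
      ⟨inferInstance, Algebra.FinitePresentation.of_finiteType.1 inferInstance⟩
    have h1 := Groth.Misc12.RelDim.smoothOfRelativeDimension k (B ⧸ Ideal.span (Set.range g)) (n - 2) ?_
    · exact (AlgebraicGeometry.HasRingHomProperty.Spec_iff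
        (P := @AlgebraicGeometry.SmoothOfRelativeDimension.{u} (n - 2))).1 h1
    intro K _ _ _ _
    letI : Algebra B K := ((algebraMap (B ⧸ Ideal.span (Set.range g)) K).comp (Ideal.Quotient.mk _)).toAlgebra
    haveI : IsScalarTower B (B ⧸ Ideal.span (Set.range g)) K := IsScalarTower.of_algebraMap_eq fun _ => rfl
    haveI : IsScalarTower k B K := IsScalarTower.of_algebraMap_eq fun x => by
      rw [IsScalarTower.algebraMap_apply k (B ⧸ Ideal.span (Set.range g)) K]; rfl
    have hJ : ∀ b ∈ Ideal.span (Set.range g), algebraMap B K b = 0 := fun b hb => by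
      change algebraMap (B ⧸ Ideal.span (Set.range g)) K (Ideal.Quotient.mk _ b) = 0
      rw [Ideal.Quotient.eq_zero_iff_mem.2 hb, map_zero]
    let D₀ : Fin 2 → Derivation k B K := fun q => ((Algebra.linearMap B K).comp (r q)).compDer (D k B)
    have hD₀ : ∀ q, evalPair K g (D₀ q) = Pi.single q 1 := fun q => funext fun p => by
      change algebraMap B K (r q (D k B (g p))) = _
      have h := hJ _ (hr p q)
      rw [map_sub, sub_eq_zero] at h
      rw [h, Pi.single_apply, apply_ite (algebraMap B K), map_one, map_zero]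
    have hrange : LinearMap.range (evalPair K g : Derivation k B K →ₗ[K] (Fin 2 → K)) = ⊤ := by
      refine LinearMap.range_eq_top.2 fun t => ⟨∑ q, t q • D₀ q, ?_⟩
      simp only [map_sum, map_smul, hD₀]
      exact (pi_eq_sum_univ' t).symm
    haveI : FiniteDimensional K (Derivation k B K) :=
      FiniteDimensional.of_finrank_pos (by rw [finrank_derivation hB K]; omega)
    have h2 := LinearMap.finrank_range_add_finrank_ker (evalPair K g : Derivation k B K →ₗ[K] (Fin 2 → K))
    rw [hrange, finrank_top, Module.finrank_pi, Fintype.card_fin, finrank_derivation hB K,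
      ← killing_span K g (fun p => hJ _ (Ideal.subset_span ⟨p, rfl⟩)),
      ← finrank_derivation_quotient' (k := k) (Ideal.span (Set.range g)) K] at h2
    omega

/-- On a curve the differentials of two functions are dependent at every point. -/
theorem exists_annihilating_of_dim_one {n : ℕ} (hn : n = 1) (hB : SmoothRelDim n k B) (c : B →ₐ[k] k)
    (g : Fin 2 → B) : ∃ t : Fin 2 → k, t ≠ 0 ∧ ∀ D ∈ pDer c, ∑ p, t p * D (g p) = 0 := by
  letI : Algebra B k := c.toRingHom.toAlgebra
  haveI : IsScalarTower k B k := IsScalarTower.of_algebraMap_eq fun r => (c.commutes r).symm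
  obtain ⟨v, -, hv⟩ := (finrank_eq_one_iff' (K := k) (V := Derivation k B k)).1
    ((finrank_derivation hB k).trans hn)
  obtain ⟨t, ht, hvt⟩ : ∃ t : Fin 2 → k, t ≠ 0 ∧ ∑ p, t p * v (g p) = 0 := by
    rcases eq_or_ne (v (g 0)) 0 with h0 | h0
    · exact ⟨![1, 0], fun h => one_ne_zero (congrFun h 0), by simp [Fin.sum_univ_two, h0]⟩
    · exact ⟨![- v (g 1), v (g 0)], fun h => h0 (congrFun h 1), by simp [Fin.sum_univ_two]; ring⟩
  refine ⟨t, ht, fun D hD => ?_⟩
  obtain ⟨a, ha⟩ := hv (Derivation.mk' D fun a b => hD a b)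
  have hDv : ∀ x, D x = a * v x := fun x => (Derivation.congr_fun ha x).symm
  simp only [hDv, mul_left_comm (t _) a, ← Finset.mul_sum]
  rw [hvt, mul_zero]

end Groth.SGA7.Lef
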