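import Groth.Agent.SGA7.DualVar.Cone
import Groth.Agent.SGA7.Lef.PairAlgebra

/-!
# Transversality of the base locus of a pencil, read on the cone
-/

set_option autoImplicit false
set_option linter.style.haveILetI false

universe u

open CategoryTheory CategoryTheory.Limits AlgebraicGeometry Opposite TopologicalSpace
open MvPolynomial
open Groth.SGA7.DualVar

namespace Groth.SGA7.Lef

variable {k : Type u} [Field k] {r : ℕ} {X : Scheme.{u}} (i : X ⟶ CohB1.ProjSpace r k) [IsClosedImmersion i]
variable {n : ℕ} [SmoothOfRelativeDimension n (i ≫ CohB1.ProjSpace.toSpec r k)]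

theorem affine_bot_iff {Y : Scheme.{u}} {U : Y.Opens} (hU : IsAffineOpen U) :
    IsEmpty U ↔ Subsingleton Γ(Y, U) := by
  constructor
  · intro h
    have : U = ⊥ := by
      ext y
      exact ⟨fun hy => (h.false ⟨y, hy⟩).elim, fun hy => absurd hy (by simp)⟩
    subst this
    infer_instance
  · intro h
    refine ⟨fun y => ?_⟩
    exact (inferInstance : IsEmpty (PrimeSpectrum Γ(Y, U))).false (hU.primeIdealOf y)

/-- Transversality of the intersection with two hypersurfaces, in charts. -/
theorem transversal_two_iff [IsAlgClosed k] (hn : 1 ≤ n) {d : ℕ} (F G : LefPen.Form r k d) :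
    LefPen.Transversal k n 2 (LefPen.secToSpec i ({F, G} : Set (LefPen.Form r k d))) ↔
      ∀ (j : Fin (r + 1)) (c : (MvPolynomial (Fin r) k ⧸ chartIdeal i j) →ₐ[k] k),
        (∀ p, c (Ideal.Quotient.mk _ (dehomog j (![F, G] p).1)) = 0) → ∀ t : Fin 2 → k, t ≠ 0 →
          ∃ D ∈ pDer c, ∑ p, t p * D (Ideal.Quotient.mk _ (dehomog j (![F, G] p).1)) ≠ 0 := by
  classical
  let s : Set (LefPen.Form r k d) := {F, G}
  let ι := LefPen.secι i s
  let A : Fin (r + 1) → X.affineOpens := fun j => ⟨i ⁻¹ᵁ LefPen.chart r k j, (chartAff j).2.preimage i⟩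
  let U : Fin (r + 1) → (LefPen.Sec i s).affineOpens := fun j => ⟨ι ⁻¹ᵁ (A j).1, (A j).2.preimage ι⟩
  have hU : ⨆ j, ((U j : (LefPen.Sec i s).Opens)) = ⊤ := by
    simp only [U, A]
    rw [← Scheme.Hom.preimage_iSup, iSup_chart]
    rfl
  let g : ∀ j : Fin (r + 1), Fin 2 → (MvPolynomial (Fin r) k ⧸ chartIdeal i j) := fun j p =>
    Ideal.Quotient.mk _ (dehomog j (![F, G] p).1)
  let φ₀ : ∀ j, (MvPolynomial (Fin r) k ⧸ chartIdeal i j) →+* Γ(X, (A j).1) := fun j =>
    Ideal.Quotient.lift _ (chartPi i j) fun a ha => ha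
  have hφ₀ : ∀ j, Function.Bijective (φ₀ j) := fun j => by
    refine ⟨?_, fun y => ?_⟩
    · rw [injective_iff_map_eq_zero]
      intro x hx
      obtain ⟨x, rfl⟩ := Ideal.Quotient.mk_surjective x
      exact Ideal.Quotient.eq_zero_iff_mem.2 hx
    · obtain ⟨p, hp⟩ := chartPi_surjective i j y
      exact ⟨Ideal.Quotient.mk _ p, hp⟩
  let φ : ∀ j, (MvPolynomial (Fin r) k ⧸ chartIdeal i j) →+* Γ(LefPen.Sec i s, (U j).1) := fun j =>
    (ι.app (A j).1).hom.comp (φ₀ j)
  have hφ : ∀ j, Function.Surjective (φ j) := fun j =>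
    ((LefPen.secIdeal i s).subschemeι_app_surjective (A j)).comp (hφ₀ j).2
  have hone : ∀ (j : Fin (r + 1)) (H : LefPen.Form r k d), ((LefPen.hypIdeal H).comap i).ideal (A j) =
      Ideal.span {φ₀ j (Ideal.Quotient.mk _ (dehomog j H.1))} := by
    intro j H
    have hhyp : (LefPen.hypIdeal H).ideal (chartAff j) = Ideal.span {LefPen.dehom H j} := by
      rw [PlaneCurve.hypIdeal_eq_zeroScheme]
      exact Variety2.Zero.zeroScheme_ideal_eq_span (PlaneCurve.isInvertible_twistProjSpace _) _ (chartAff j)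
        (PlaneCurve.gen_frame (k := k) j d) (c := LefPen.dehom H j)
        ((PlaneCurve.formHom_app_of_le H j le_rfl).trans (by rw [Groth.PicAux.resX_self, Groth.PicAux.res_self]))
    rw [BlowUpBasics.ideal_comap i _ (chartAff j) (A j) le_rfl, hhyp, Ideal.map_span, Set.image_singleton]
    congr 1
    rw [Set.singleton_eq_singleton_iff, ← affEq_eq]
    change i.appLE _ _ _ _ = Groth.ProjClosed.chartHom i (MvPolynomial.X j) (PlaneCurve.toAway j _)
    rw [PlaneCurve.toAway_affEq]
    exact (congr($(Scheme.Hom.app_eq_appLE (f := i) (U := LefPen.chart r k j)) (LefPen.dehom H j))).symm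
  have hsec : ∀ j, (LefPen.secIdeal i s).ideal (A j) = (Ideal.span (Set.range (g j))).map (φ₀ j) := by
    intro j
    have hF := hone j F
    have hG := hone j G
    rw [BlowUpBasics.ideal_comap i _ (chartAff j) (A j) le_rfl] at hF hG
    rw [LefPen.secIdeal, iSup_pair, BlowUpBasics.ideal_comap i _ (chartAff j) (A j) le_rfl,
      Scheme.IdealSheafData.ideal_sup, Pi.sup_apply, Ideal.map_sup, hF, hG, ← Ideal.span_union, Ideal.map_span]
    congr 1
    rw [← Set.range_comp]
    ext z
    simp [g, Fin.exists_fin_two, eq_comm, or_comm]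
  have hker : ∀ j, RingHom.ker (φ j) = Ideal.span (Set.range (g j)) := fun j => by
    rw [← RingHom.comap_ker, Scheme.IdealSheafData.ker_subschemeι_app, hsec, Ideal.comap_map_of_bijective _ (hφ₀ j)]
  rcases Nat.lt_or_ge n 2 with hn2 | hn2
  · have h0 : LefPen.Transversal k n 2 (LefPen.secToSpec i s) ↔ IsEmpty (LefPen.Sec i s) :=
      ⟨fun h => h.elim (fun h => absurd h.1 (by omega)) And.right, fun h => Or.inr ⟨hn2, h⟩⟩
    refine h0.trans ?_
    have hc : IsEmpty (LefPen.Sec i s) ↔ ∀ j, Ideal.span (Set.range (g j)) = ⊤ := by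
      have h1 : IsEmpty (LefPen.Sec i s) ↔ ∀ j, IsEmpty (U j).1 := by
        refine ⟨fun h j => ⟨fun y => h.false y.1⟩, fun h => ⟨fun y => ?_⟩⟩
        obtain ⟨j, hj⟩ := Opens.mem_iSup.1 (hU.symm ▸ Opens.mem_top y : y ∈ ⨆ j, ((U j : (LefPen.Sec i s).Opens)))
        exact (h j).false ⟨y, hj⟩
      refine h1.trans (forall_congr' fun j => ?_)
      rw [affine_bot_iff (U j).2, ← hker j]
      refine ⟨fun _ => RingHom.ker_eq_top_of_subsingleton _, fun h => subsingleton_of_zero_eq_one ?_⟩
      have h1 : (1 : _) ∈ RingHom.ker (φ j) := h ▸ Submodule.mem_top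
      rw [RingHom.mem_ker, map_one] at h1
      exact h1.symm
    rw [hc]
    refine forall_congr' fun j => ⟨fun h c hcg => ?_, fun h => ?_⟩
    · exfalso
      have h1 : Ideal.span (Set.range (g j)) ≤ RingHom.ker c.toRingHom :=
        Ideal.span_le.2 (by rintro _ ⟨p, rfl⟩; exact hcg p)
      rw [h] at h1
      exact one_ne_zero ((map_one c).symm.trans (h1 (Submodule.mem_top (x := 1))))
    · by_contra hne
      obtain ⟨P, hP, hle⟩ := Ideal.exists_le_maximal _ hne
      have hsm := smoothRelDim_chart (n := n) i j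
      haveI : Algebra.Smooth k (MvPolynomial (Fin r) k ⧸ chartIdeal i j) := finiteType_of_smoothRelDim hsm
      obtain ⟨c, hc'⟩ := exists_point (k := k) P
      obtain ⟨t, ht, hvt⟩ := exists_annihilating_of_dim_one (show n = 1 by omega) hsm c (g j)
      obtain ⟨D, hD, hne'⟩ := h c (fun p => hc' _ (hle (Ideal.subset_span ⟨p, rfl⟩))) t ht
      exact hne' (hvt D hD)
  · have h0 : LefPen.Transversal k n 2 (LefPen.secToSpec i s) ↔
        SmoothOfRelativeDimension (n - 2) (LefPen.secToSpec i s) :=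
      ⟨fun h => h.elim And.right fun h => absurd h.1 (by omega), fun h => Or.inl ⟨hn2, h⟩⟩
    rw [h0, HasRingHomProperty.iff_of_iSup_eq_top (P := @SmoothOfRelativeDimension.{u} (n - 2)) U hU]
    refine forall_congr' fun j => ?_
    refine (locally_appLE_iff _ (U j) (n - 2) (φ j) (hφ j) _ (hker j) fun c => appLE_scalar i ι j c).trans ?_
    exact pair_smoothRelDim_iff hn2 (smoothRelDim_chart i j) (g j)

/-- Transversality of the base locus, read on the cone. -/
theorem transversal_two_iff_coneSing [IsAlgClosed k] (hn : 1 ≤ n) {d : ℕ} (F G : LefPen.Form r k d) :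
    LefPen.Transversal k n 2 (LefPen.secToSpec i ({F, G} : Set (LefPen.Form r k d))) ↔
      ∀ (v : Fin (r + 1) → k) (s t : k), v ≠ 0 → (s ≠ 0 ∨ t ≠ 0) → eval v F.1 = 0 → eval v G.1 = 0 →
        ¬ ConeSing i (s • F + t • G) v := by
  rw [transversal_two_iff i hn]
  have hlin : ∀ (j : Fin (r + 1)) (s t : k),
      PlaneCurve.affEq j (s • F + t • G) = s • dehomog j F.1 + t • dehomog j G.1 := fun j s t => by
    rw [affEq_eq]
    simp [map_add, map_smul]
  constructor
  · intro h v s t hv hst hF hG hS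
    obtain ⟨j, hj⟩ := Function.ne_iff.1 hv
    have hS' := hS.smul i (inv_ne_zero hj)
    rw [← exists_ins_eq hj, coneSing_ins_iff] at hS'
    obtain ⟨hin, -, ht⟩ := hS'
    rw [inCone_ins] at hin
    let a : Fin r → k := fun l => (v j)⁻¹ * v (j.succAbove l)
    have hc : ∀ p, pointOf i a hin (Ideal.Quotient.mk _ p) = eval a p := pointOf_mk i a hin
    have hca : (fun l => pointOf i a hin (Ideal.Quotient.mk _ (MvPolynomial.X l))) = a :=
      funext fun l => by rw [hc, eval_X]
    have hz : ∀ H : LefPen.Form r k d, eval v H.1 = 0 → eval a (dehomog j H.1) = 0 := fun H hH => by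
      rw [eval_dehomog, exists_ins_eq hj, eval_smul ((mem_homogeneousSubmodule _ _).1 H.2), hH, mul_zero]
    obtain ⟨D, hD, hne⟩ := h j (pointOf i a hin) (fun p => by
      rw [hc]; fin_cases p <;> simp [hz, hF, hG]) ![s, t] (fun h0 => by
        rcases hst with h1 | h1
        · exact h1 (congrFun h0 0)
        · exact h1 (congrFun h0 1))
    refine hne ?_
    have hw := ht (fun l => D (Ideal.Quotient.mk _ (MvPolynomial.X l))) ((mem_chartTan i).2 fun p hp => by
      have h1 := dAt_eq_D i hD p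
      rw [hca] at h1
      rw [← h1, Ideal.Quotient.eq_zero_iff_mem.2 hp, map_zero])
    have h2 := dAt_eq_D i hD (PlaneCurve.affEq j (s • F + t • G))
    rw [hca, hw, hlin, map_add (Ideal.Quotient.mk _), ← Ideal.Quotient.mkₐ_eq_mk k, map_smul, map_smul,
      map_add D, map_smul, map_smul] at h2
    simpa [Fin.sum_univ_two] using h2
  · intro h j c hcg t ht
    by_contra hcon
    push Not at hcon
    let a : Fin r → k := fun l => c (Ideal.Quotient.mk _ (MvPolynomial.X l))
    have hc : ∀ p, c (Ideal.Quotient.mk _ p) = eval a p := fun p => by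
      have : c.comp (Ideal.Quotient.mkₐ k (chartIdeal i j)) = aeval a := algHom_ext fun l => by simp [a]
      have h' := DFunLike.congr_fun this p
      rwa [AlgHom.comp_apply, Ideal.Quotient.mkₐ_eq_mk, aeval_eq_eval] at h'
    have ha : ∀ p ∈ chartIdeal i j, eval a p = 0 := fun p hp => by
      rw [← hc, Ideal.Quotient.eq_zero_iff_mem.2 hp, map_zero]
    have hF : eval a (dehomog j F.1) = 0 := by rw [← hc]; exact hcg 0
    have hG : eval a (dehomog j G.1) = 0 := by rw [← hc]; exact hcg 1
    refine h (ins j a) (t 0) (t 1) (ins_ne_zero j a) ?_ (by rw [← eval_dehomog]; exact hF)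
      (by rw [← eval_dehomog]; exact hG) ((coneSing_ins_iff i _ j a).2 ⟨(inCone_ins i).2 ha, ?_, fun w hw => ?_⟩)
    · by_contra h0
      push Not at h0
      exact ht (funext fun p => by fin_cases p <;> simp [h0.1, h0.2])
    · simp [hlin, map_add, MvPolynomial.smul_eq_C_mul, hF, hG]
    · obtain ⟨D, hD, hDp⟩ := exists_pDer_of_chartTan i ha hw c hc
      have := hcon D hD
      rw [← hDp, hlin, map_add (Ideal.Quotient.mk _), ← Ideal.Quotient.mkₐ_eq_mk k, map_smul, map_smul,
        map_add D, map_smul, map_smul]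
      simpa [Fin.sum_univ_two] using this

end Groth.SGA7.Lef
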