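import Groth.Agent.SGA7.Lef.Place

/-!
# Linear families of hypersurfaces
-/

set_option autoImplicit false
set_option linter.style.haveILetI false

universe u

open MvPolynomial

namespace Groth.SGA7.Lef

variable {k : Type u} [Field k]

section Family

variable {A : Type*} [CommRing A] [Algebra k A] {r c : ℕ} {ι : Type} [Fintype ι]
variable (g : Fin c → MvPolynomial (Fin r) k) (φ : ι → MvPolynomial (Fin r) k) (h : ι → k)

theorem evF_const (x : Fin r → A) : aeval x (∑ e, h e • φ e) = evF φ (fun e => algebraMap k A (h e)) x := by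
  simp [evF, map_sum, Algebra.smul_def]

theorem dvF_const (x z : Fin r → A) :
    dd (∑ e, h e • φ e) x z = dvF φ (fun e => algebraMap k A (h e)) x z := by
  change ddL (k := k) x z (∑ e, h e • φ e) = _
  simp only [map_sum, map_smul]
  simp only [Algebra.smul_def]
  rfl

theorem qd_family (x w : Fin r → A) :
    qd (∑ e, h e • φ e) x w = ∑ e, algebraMap k A (h e) * qd (φ e) x w := by
  change qdL (k := k) x w (∑ e, h e • φ e) = _
  simp only [map_sum, map_smul]
  simp only [Algebra.smul_def]
  rfl

theorem bd_family (x w z : Fin r → A) :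
    bd (∑ e, h e • φ e) x w z = ∑ e, algebraMap k A (h e) * bd (φ e) x w z := by
  have h1 := qd_add_right x w z (∑ e, h e • φ e)
  rw [qd_family, qd_family, qd_family] at h1
  simp only [qd_add_right, mul_add, Finset.sum_add_distrib] at h1
  linear_combination -h1

theorem ndPt_iff_ndf (x : Fin r → A) :
    NDPt g (∑ e, h e • φ e) x ↔ NDF g φ (fun e => algebraMap k A (h e)) x := by
  simp only [NDPt, NDF, dvF_const, qd_family, bd_family]
  exact ⟨fun H lam w hl hw => H lam w hl hw.tan hw.quad hw.polar,
    fun H lam w hl h1 h2 h3 => H lam w hl ⟨h1, h2, h3⟩⟩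

variable [IsAlgClosed k]

/-- Non-degeneracy persists in field extensions. -/
theorem ndf_base_change {a : Fin r → k} (hnd : NDPt g (∑ e, h e • φ e) a) {K : Type*} [Field K] [Algebra k K] :
    NDF g φ (fun e => algebraMap k K (h e)) fun l => algebraMap k K (a l) := by
  classical
  set f := ∑ e, h e • φ e
  let T : Submodule k (Fin r → k) :=
    { carrier := {z | ∀ p, dd (g p) a z = 0}
      add_mem' := fun {z z'} hz hz' p => by rw [dd_add_right, hz p, hz' p, add_zero]
      zero_mem' := fun p => by simp [dd]
      smul_mem' := fun t z hz p => by rw [dd_smul_right, hz p, mul_zero] }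
  let b := Module.finBasis k T
  let Y : Fin c ⊕ Fin r → MvPolynomial (Fin c ⊕ Fin r) k := X
  let lamP : Fin c → MvPolynomial (Fin c ⊕ Fin r) k := fun p => X (Sum.inl p)
  let wP : Fin r → MvPolynomial (Fin c ⊕ Fin r) k := fun l => X (Sum.inr l)
  let aP : Fin r → MvPolynomial (Fin c ⊕ Fin r) k := fun l => C (a l)
  let cP : Fin r → Fin r → MvPolynomial (Fin c ⊕ Fin r) k := fun l => Pi.single l 1
  let bP : Fin (Module.finrank k T) → Fin r → MvPolynomial (Fin c ⊕ Fin r) k := fun i l => C ((b i).1 l)
  let eqs : Fin r ⊕ Fin c ⊕ Unit ⊕ Fin (Module.finrank k T) → MvPolynomial (Fin c ⊕ Fin r) k :=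
    Sum.elim (fun l => dd f aP (cP l) - ∑ p, lamP p * dd (g p) aP (cP l))
      (Sum.elim (fun p => dd (g p) aP wP)
        (Sum.elim (fun _ => qd f aP wP - ∑ p, lamP p * qd (g p) aP wP)
          fun i => bd f aP wP (bP i) - ∑ p, lamP p * bd (g p) aP wP (bP i)))
  intro lam w hlam hw
  -- the evaluation of the equations
  have key : ∀ {B : Type u} [CommRing B] [Algebra k B] (ψ : MvPolynomial (Fin c ⊕ Fin r) k →ₐ[k] B),
      (∀ l, (fun m => ψ (cP l m)) = Pi.single l 1) ∧ (fun l => ψ (aP l)) = (fun l => algebraMap k B (a l)) := by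
    intro B _ _ ψ
    exact ⟨fun l => funext fun m => by simp [cP, Pi.single_apply, apply_ite ψ],
      funext fun l => by simp [aP, ← MvPolynomial.algebraMap_eq]⟩
  funext l₀
  simp only [Pi.zero_apply]
  have hh : aeval (Sum.elim lam w) (X (Sum.inr l₀) : MvPolynomial (Fin c ⊕ Fin r) k) = 0 := by
    refine aeval_eq_zero_of_zeros (Ideal.span (Set.range eqs)) (fun z hz => ?_) _ (fun G hG => ?_)
    · have he : ∀ m, eval z (eqs m) = 0 := fun m => hz _ (Ideal.subset_span ⟨m, rfl⟩)
      let ψ : MvPolynomial (Fin c ⊕ Fin r) k →ₐ[k] k := aeval z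
      have hψ : ∀ G, eval z G = ψ G := fun G => by rw [aeval_eq_eval]
      obtain ⟨hc, hA⟩ := key ψ
      have hwz : (fun l => ψ (wP l)) = fun l => z (Sum.inr l) := funext fun l => by simp [ψ, wP]
      have h0 := hnd (fun p => z (Sum.inl p)) (fun l => z (Sum.inr l)) ?_ ?_ ?_ ?_
      · rw [eval_X]; exact congrFun h0 l₀
      · intro y
        have hl : ∀ l, dd f a (Pi.single l 1) = ∑ p, z (Sum.inl p) * dd (g p) a (Pi.single l 1) := fun l => by
          have := he (Sum.inl l)
          simp only [eqs, Sum.elim_inl, hψ, map_sub, map_sum, map_mul, map_dd, hc, hA, sub_eq_zero] at this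
          simpa [ψ, lamP] using this
        conv_lhs => rw [pi_eq_sum_univ' y, dd_sum_right]
        conv_rhs => rw [pi_eq_sum_univ' y]
        simp only [dd_sum_right, dd_smul_right, hl, Finset.mul_sum]
        rw [Finset.sum_comm]
        exact Finset.sum_congr rfl fun p _ => Finset.sum_congr rfl fun l _ => by ring
      · intro p
        have := he (Sum.inr (Sum.inl p))
        simp only [eqs, Sum.elim_inl, Sum.elim_inr, hψ, map_dd, hA, hwz] at this
        simpa using this
      · have := he (Sum.inr (Sum.inr (Sum.inl ())))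
        simp only [eqs, Sum.elim_inl, Sum.elim_inr, hψ, map_sub, map_sum, map_mul, map_qd, hA, hwz] at this
        simpa [ψ, lamP] using this
      · intro y hy
        have hl : ∀ i, bd f a (fun l => z (Sum.inr l)) (b i).1 -
            ∑ p, z (Sum.inl p) * bd (g p) a (fun l => z (Sum.inr l)) (b i).1 = 0 := fun i => by
          have := he (Sum.inr (Sum.inr (Sum.inr i)))
          simp only [eqs, Sum.elim_inr, hψ, map_sub, map_sum, map_mul, map_bd, hA, hwz] at this
          simpa [ψ, lamP, bP] using this
        have hy' : y = ∑ i, b.repr ⟨y, hy⟩ i • (b i).1 := by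
          have h6 := congrArg (Submodule.subtype T) (b.sum_repr ⟨y, hy⟩)
          rw [map_sum] at h6
          exact h6.symm.trans (Finset.sum_congr rfl fun i _ => map_smul _ _ _)
        rw [hy']
        simp only [bd_sum_right, bd_smul_right, Finset.mul_sum]
        rw [Finset.sum_comm, ← Finset.sum_sub_distrib]
        refine Finset.sum_eq_zero fun i _ => ?_
        rw [show (∑ p, z (Sum.inl p) * (b.repr ⟨y, hy⟩ i * bd (g p) a (fun l => z (Sum.inr l)) (b i).1)) =
          b.repr ⟨y, hy⟩ i * ∑ p, z (Sum.inl p) * bd (g p) a (fun l => z (Sum.inr l)) (b i).1 by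
            rw [Finset.mul_sum]; exact Finset.sum_congr rfl fun p _ => by ring, ← mul_sub, hl, mul_zero]
    · suffices hsuff : ∀ m, aeval (Sum.elim lam w) (eqs m) = 0 from
        (Ideal.span_le (I := RingHom.ker (aeval (Sum.elim lam w) : MvPolynomial (Fin c ⊕ Fin r) k →ₐ[k] K))).2
          (by rintro _ ⟨m, rfl⟩; exact hsuff m) hG
      let ψ : MvPolynomial (Fin c ⊕ Fin r) k →ₐ[k] K := aeval (Sum.elim lam w)
      have hwz : (fun l => ψ (wP l)) = w := funext fun l => by simp [ψ, wP]
      have hlz : ∀ p, ψ (lamP p) = lam p := fun p => by simp [ψ, lamP]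
      have hA : (fun l => ψ (aP l)) = fun l => algebraMap k K (a l) :=
        funext fun l => by simp [ψ, aP, ← MvPolynomial.algebraMap_eq]
      rintro (l | p | _ | i)
      · change ψ (dd f aP (cP l) - ∑ p, lamP p * dd (g p) aP (cP l)) = 0
        simp only [map_sub, map_sum, map_mul, map_dd, hA, hlz, sub_eq_zero]
        rw [dvF_const]
        exact hlam _
      · change ψ (dd (g p) aP wP) = 0
        rw [map_dd, hA, hwz]
        exact hw.tan p
      · change ψ (qd f aP wP - ∑ p, lamP p * qd (g p) aP wP) = 0
        simp only [map_sub, map_sum, map_mul, map_qd, hA, hlz, hwz]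
        rw [qd_family]
        exact hw.quad
      · change ψ (bd f aP wP (bP i) - ∑ p, lamP p * bd (g p) aP wP (bP i)) = 0
        simp only [map_sub, map_sum, map_mul, map_bd, hA, hlz, hwz]
        rw [bd_family]
        refine hw.polar _ fun p => ?_
        have := (b i).2 p
        have h1 := map_dd (Algebra.ofId k K) (g p) a (b i).1
        simp only [this, map_zero, Algebra.ofId_apply] at h1
        simpa [ψ, bP, ← MvPolynomial.algebraMap_eq] using h1.symm
  simpa using hh

end Family

end Groth.SGA7.Lef
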