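import Groth.Agent.SGA7.Lef.Place

/-!
# Singular points along an ultrapower
-/

set_option autoImplicit false
set_option linter.style.haveILetI false

universe u

open MvPolynomial

namespace Groth.SGA7.Lef

variable {k : Type u} [Field k]

section Germ

variable {α : Type u} (U : Ultrafilter α) {K : Type u} [Field K] [Algebra k K] (gm : (α → k) →ₐ[k] K)

theorem germ_aeval {m : ℕ} (a : α → Fin m → k) (p : MvPolynomial (Fin m) k) :
    aeval (fun l => gm fun s => a s l) p = gm fun s => eval (a s) p := by
  rw [← MvPolynomial.comp_aeval_apply]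
  congr 1
  funext s
  have : (Pi.evalAlgHom k (fun _ : α => k) s).comp (aeval fun l => fun s => a s l) = aeval (a s) :=
    algHom_ext fun l => by simp
  rw [← aeval_eq_eval]
  exact AlgHom.congr_fun this p

variable (hgm : ∀ f f', gm f = gm f' ↔ ∀ᶠ s in U, f s = f' s) (hgs : Function.Surjective gm)
variable {r c : ℕ} {ι : Type} [Fintype ι]
variable (g : Fin c → MvPolynomial (Fin r) k) (φ : ι → MvPolynomial (Fin r) k)
variable (h : α → ι → k) (a : α → Fin r → k) (lam : α → Fin c → k)

include hgm hgs in
theorem sing_germ (H : ∀ᶠ s in U, SingF g φ (h s) (a s) (lam s)) :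
    SingF g φ (fun e => gm fun s => h s e) (fun l => gm fun s => a s l) fun p => gm fun s => lam s p := by
  refine ⟨fun p => ?_, ?_, fun z => ?_⟩
  · rw [germ_aeval, ← map_zero gm, hgm]
    filter_upwards [H] with s hs
    have := hs.zero_g p
    rwa [aeval_eq_eval] at this
  · rw [← map_evF φ gm (fun e s => h s e) (fun l s => a s l), ← map_zero gm, hgm]
    filter_upwards [H] with s hs
    exact (map_evF φ (Pi.evalAlgHom k (fun _ : α => k) s) (fun e s => h s e) (fun l s => a s l)).trans hs.zero_f
  · choose z' hz' using fun l => hgs (z l)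
    obtain rfl : (fun l => gm (z' l)) = z := funext hz'
    rw [← map_dvF φ gm (fun e s => h s e) (fun l s => a s l) z']
    have hd : ∀ p, gm (dd (g p) (fun l s => a s l) z') =
        dd (g p) (fun l => gm fun s => a s l) fun l => gm (z' l) := fun p => map_dd gm (g p) (fun l s => a s l) z'
    simp only [← hd, ← map_mul, ← map_sum]
    rw [hgm]
    filter_upwards [H] with s hs
    refine (map_dvF φ (Pi.evalAlgHom k (fun _ : α => k) s) (fun e s => h s e) (fun l s => a s l) z').trans ((hs.grad fun l => z' l s).trans ?_)
    rw [Finset.sum_apply]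
    refine Finset.sum_congr rfl fun p _ => ?_
    exact congrArg (lam s p * ·) (map_dd (Pi.evalAlgHom k (fun _ : α => k) s) (g p) (fun l s => a s l) z').symm

include hgm hgs in
theorem degen_germ (w : α → Fin r → k) (H : ∀ᶠ s in U, DegenAt g φ (h s) (a s) (lam s) (w s)) :
    DegenAt g φ (fun e => gm fun s => h s e) (fun l => gm fun s => a s l) (fun p => gm fun s => lam s p)
      fun l => gm fun s => w s l := by
  refine ⟨fun p => ?_, ?_, fun z hz => ?_⟩
  · rw [← map_dd gm (g p) (fun l s => a s l) (fun l s => w s l), ← map_zero gm, hgm]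
    filter_upwards [H] with s hs
    exact (map_dd (Pi.evalAlgHom k (fun _ : α => k) s) (g p) (fun l s => a s l) (fun l s => w s l)).trans (hs.tan p)
  · rw [← map_qForm g φ gm (fun e s => h s e) (fun l s => a s l) (fun l s => w s l) (fun p s => lam s p), ← map_zero gm, hgm]
    filter_upwards [H] with s hs
    exact (map_qForm g φ (Pi.evalAlgHom k (fun _ : α => k) s) (fun e s => h s e) (fun l s => a s l) (fun l s => w s l)
      (fun p s => lam s p)).trans hs.quad
  · choose z' hz' using fun l => hgs (z l)
    obtain rfl : (fun l => gm (z' l)) = z := funext hz'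
    have hz2 : ∀ᶠ s in U, ∀ p, dd (g p) (a s) (fun l => z' l s) = 0 := by
      rw [Filter.eventually_all]
      intro p
      have h1 := hz p
      rw [← map_dd gm (g p) (fun l s => a s l) z', ← map_zero gm, hgm] at h1
      filter_upwards [h1] with s hs
      exact (map_dd (Pi.evalAlgHom k (fun _ : α => k) s) (g p) (fun l s => a s l) z').symm.trans hs
    rw [← map_bForm g φ gm (fun e s => h s e) (fun l s => a s l) (fun l s => w s l) (fun p s => lam s p) z', ← map_zero gm, hgm]
    filter_upwards [H, hz2] with s hs hs'
    exact (map_bForm g φ (Pi.evalAlgHom k (fun _ : α => k) s) (fun e s => h s e) (fun l s => a s l) (fun l s => w s l)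
      (fun p s => lam s p) z').trans (hs.polar _ hs')

end Germ

end Groth.SGA7.Lef
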