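import Groth.Agent.SGA7.Lef.Criterion
import Groth.Agent.Calg4.SmoothReduced

/-!
# Hypersurfaces with one ordinary quadratic singularity, read on the cone
-/

set_option autoImplicit false
set_option linter.style.haveILetI false

universe u

open CategoryTheory CategoryTheory.Limits AlgebraicGeometry Opposite TopologicalSpace
open MvPolynomial
open Groth.SGA7.DualVar

namespace Groth.SGA7.Lef

variable {k : Type u} [Field k] {r : ℕ} {X : Scheme.{u}} (i : X ⟶ CohB1.ProjSpace r k) [IsClosedImmersion i]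
variable {n : ℕ} [SmoothOfRelativeDimension n (i ≫ CohB1.ProjSpace.toSpec r k)]
variable {d : ℕ} (H : LefPen.Form r k d)

theorem coneSing_iff_chart {j : Fin (r + 1)} {a : Fin r → k} :
    ConeSing i H (ins j a) ↔ a ∈ chartPts i j ∧ eval a (dehomog j H.1) = 0 ∧
      ∀ w ∈ chartTan i j a, dd (dehomog j H.1) a w = 0 := by
  rw [coneSing_ins_iff, inCone_ins, affEq_eq]
  simp only [dAt_eq_dd, mem_chartPts]

/-- The multipliers at a singular point. -/
theorem LocEq.exists_lam {j : Fin (r + 1)} (L : LocEq i n j) {a : Fin r → k} (ha : a ∈ chartPts i j)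
    (hu : eval a L.u ≠ 0) {f : MvPolynomial (Fin r) k} (hs : ∀ w ∈ chartTan i j a, dd f a w = 0) :
    ∃ lam : Fin (r - n) → k, ∀ z, dd f a z = ∑ p, lam p * dd (L.g p) a z := by
  classical
  choose w hw using fun p => L.surjective_dd ha hu (Pi.single p 1)
  refine ⟨fun p => dd f a (w p), fun z => ?_⟩
  let z' : Fin r → k := z - ∑ p, dd (L.g p) a z • w p
  have hlin : ∀ (F : MvPolynomial (Fin r) k),
      dd F a z' = dd F a z - ∑ p, dd (L.g p) a z * dd F a (w p) := fun F => by
    simp only [z', ← dAt_eq_dd, map_sub, map_sum, map_smul, smul_eq_mul]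
  have hz' : z' ∈ chartTan i j a := (L.chartTan_eq ha hu).2 fun q => by
    rw [hlin]
    simp [hw, Pi.single_apply]
  have h := hs z' hz'
  rw [hlin, sub_eq_zero] at h
  rw [h]
  exact Finset.sum_congr rfl fun p _ => mul_comm _ _

variable {H}

/-- A non-degenerate singular point has no neighbourhood inside the hypersurface. -/
theorem NDPt.not_mul_mem (hn : 1 ≤ n) {j : Fin (r + 1)} (L : LocEq i n j) {a : Fin r → k} (ha : a ∈ chartPts i j)
    (hu : eval a L.u ≠ 0) {f u : MvPolynomial (Fin r) k} (hf : eval a f = 0)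
    (hs : ∀ w ∈ chartTan i j a, dd f a w = 0) (hnd : NDPt L.g f a) (hu' : eval a u ≠ 0) :
    u * f ∉ chartIdeal i j := by
  intro hmem
  obtain ⟨t, ht⟩ := L.gen _ hmem
  rw [← mul_assoc] at ht
  set U := L.u * u
  have hU : eval a U ≠ 0 := by rw [map_mul]; exact mul_ne_zero hu hu'
  have hg : ∀ p, eval a (L.g p) = 0 := fun p => ha _ (L.mem p)
  have hd : ∀ z, eval a U * dd f a z = ∑ p, eval a (t p) * dd (L.g p) a z := by
    intro z
    have h := congrArg (ddL (k := k) a z) ht
    rw [map_sum] at h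
    change dd (U * f) a z = ∑ p, dd (t p * L.g p) a z at h
    simpa [dd_mul, aeval_eq_eval, hf, hg] using h
  have hq : ∀ w, (∀ p, dd (L.g p) a w = 0) →
      qd f a w - ∑ p, (eval a U)⁻¹ * eval a (t p) * qd (L.g p) a w = 0 := by
    intro w hw
    have h0 : dd f a w = 0 := hs w ((L.chartTan_eq ha hu).2 hw)
    have h := congrArg (qdL (k := k) a w) ht
    rw [map_sum] at h
    change qd (U * f) a w = ∑ p, qd (t p * L.g p) a w at h
    simp only [qd_mul, aeval_eq_eval, hf, hg, hw, h0, mul_zero, zero_add] at h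
    rw [sub_eq_zero]
    simp only [mul_assoc, ← Finset.mul_sum, ← h]
    field_simp
  obtain ⟨w, hw, hw0⟩ : ∃ w ∈ chartTan i j a, w ≠ 0 := by
    have h := finrank_chartTan (n := n) i ((inCone_ins i).2 ha)
    by_contra hcon
    push Not at hcon
    rw [(Submodule.eq_bot_iff _).2 hcon, finrank_bot] at h
    omega
  have hwg := (L.chartTan_eq ha hu).1 hw
  refine hw0 (hnd (fun p => (eval a U)⁻¹ * eval a (t p)) w (fun z => ?_) hwg (hq w hwg) fun z hz => ?_)
  · simp only [mul_assoc, ← Finset.mul_sum, ← hd]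
    field_simp
  · have h1 := hq (w + z) fun p => by rw [dd_add_right, hwg, hz, add_zero]
    simp only [qd_add_right, mul_add, Finset.sum_add_distrib] at h1
    linear_combination h1 - hq w hwg - hq z hz

variable [IsAlgClosed k] [IrreducibleSpace X]

include n in
/-- A hypersurface containing an open piece of `X` contains `X`. -/
theorem mem_chartIdeal_of_mul_mem {j j' : Fin (r + 1)} {a a' u : _} (ha : a ∈ chartPts i j)
    (ha' : a' ∈ chartPts i j') (hu : eval a' u ≠ 0) (h : u * dehomog j' H.1 ∈ chartIdeal i j') :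
    dehomog j H.1 ∈ chartIdeal i j := by
  have hall : ∀ b ∈ chartPts i j', eval b (dehomog j' H.1) = 0 := by
    rcases chart_irreducible i (p := u) (q := dehomog j' H.1) (fun b hb => by rw [← map_mul]; exact hb _ h) with h1 | h1
    · exact absurd (h1 a' ha') hu
    · exact h1
  have hj : ∀ b ∈ chartPts i j, eval b (dehomog j H.1) = 0 := by
    rcases chart_irreducible i (p := dehomog j (MvPolynomial.X j')) (q := dehomog j H.1) (fun b hb => by
      rcases eq_or_ne (ins j b j') 0 with h0 | h0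
      · rw [eval_dehomog, eval_X, h0, zero_mul]
      · refine mul_eq_zero_of_right _ ?_
        have hC := ((inCone_ins i).2 hb).smul i (ins j b j')⁻¹
        rw [← exists_ins_eq h0, inCone_ins] at hC
        have h2 := hall _ hC
        rw [eval_dehomog, exists_ins_eq h0, DualVar.eval_smul ((mem_homogeneousSubmodule _ _).1 H.2)] at h2
        rw [eval_dehomog]
        exact (mul_eq_zero.1 h2).resolve_left (pow_ne_zero _ (inv_ne_zero h0))) with h1 | h1
    · obtain ⟨c, hc, hc'⟩ := exists_overlap i ha' ha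
      exact absurd (h1 c hc) hc'
    · exact h1
  haveI : Algebra.Smooth k (MvPolynomial (Fin r) k ⧸ chartIdeal i j) :=
    finiteType_of_smoothRelDim (smoothRelDim_chart (n := n) i j)
  haveI := Calg4.isReduced_of_smooth_field k (MvPolynomial (Fin r) k ⧸ chartIdeal i j)
  have hrad : (chartIdeal i j).IsRadical := Ideal.isRadical_iff_quotient_reduced _ |>.2 inferInstance
  rw [← hrad.radical, ← vanishingIdeal_zeroLocus_eq_radical (K := k), mem_vanishingIdeal_iff]
  intro b hb
  rw [aeval_eq_eval]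
  exact hj b fun p hp => by rw [← aeval_eq_eval]; exact mem_zeroLocus_iff.1 hb p hp

theorem le_r (ha : ∃ v : Fin (r + 1) → k, v ≠ 0 ∧ InCone i v) : n ≤ r := by
  obtain ⟨v, hv, hC⟩ := ha
  obtain ⟨j, hj⟩ := Function.ne_iff.1 hv
  have hC' := hC.smul i (v j)⁻¹
  rw [← exists_ins_eq hj] at hC'
  have h := Submodule.finrank_le (chartTan i j (fun l => (v j)⁻¹ * v (j.succAbove l)))
  rw [finrank_chartTan (n := n) i hC', Module.finrank_pi, Fintype.card_fin] at h
  exact h

variable (H)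

omit [IsClosedImmersion i] [IsAlgClosed k] [IrreducibleSpace X] in
theorem exists_ins_of_coneSing {v : Fin (r + 1) → k} (hv : v ≠ 0) (hS : ConeSing i H v) :
    ∃ (j : Fin (r + 1)) (a : Fin r → k) (t : k), t ≠ 0 ∧ ins j a = t • v ∧ ConeSing i H (ins j a) := by
  obtain ⟨j, hj⟩ := Function.ne_iff.1 hv
  exact ⟨j, _, (v j)⁻¹, inv_ne_zero hj, exists_ins_eq hj, exists_ins_eq hj ▸ hS.smul i (inv_ne_zero hj)⟩

include n in
/-- One non-degenerate singular line in one chart is enough. -/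
theorem oneOrdQuad_of_ndPt (hn : 1 ≤ n)
    (huniq : ∀ v v' : Fin (r + 1) → k, v ≠ 0 → v' ≠ 0 → ConeSing i H v → ConeSing i H v' → ∃ t : k, v' = t • v)
    {j : Fin (r + 1)} {a : Fin r → k} (L : LocEq i n j) (hS' : ConeSing i H (ins j a)) (hu : eval a L.u ≠ 0)
    (hdet : (minor L.g L.e a).det ≠ 0) (hND : NDPt L.g (dehomog j H.1) a) :
    LefPen.OneOrdQuad k n i H := by
  classical
  obtain ⟨m, rfl⟩ : ∃ m, n = m + 1 := ⟨n - 1, by omega⟩
  haveI := locallyOfFinitePresentation_secToSpec (i := i) (H := H)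
  haveI := jacobsonSpace_sec (i := i) (H := H)
  obtain ⟨ha, hf, hs⟩ := (coneSing_iff_chart i H).1 hS'
  have hrn : m + 1 ≤ r := le_r i ⟨_, ins_ne_zero j a, hS'.1⟩
  obtain ⟨y, hP⟩ := exists_pointAt ha hf
  obtain ⟨lam, hlam⟩ := L.exists_lam i ha hu hs
  have hns : ¬ LefPen.SmoothAt (LefPen.secToSpec i ({H} : Set (LefPen.Form r k d))) y := fun hsm => by
    obtain ⟨u, hu', hmem⟩ := hP.exists_mul_mem (n := m + 1) hs hsm
    exact NDPt.not_mul_mem i hn L ha hu hf hs hND hu' hmem
  refine ⟨y, ?_, (hP.isOrdQuadSing_iff rfl hrn L hu hdet hlam).2 hND⟩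
  set Z := {y' | LefPen.SmoothAt (LefPen.secToSpec i ({H} : Set (LefPen.Form r k d))) y'}
  have hZ : IsClosed Zᶜ := (Scheme.Hom.isOpen_smoothLocus _).isClosed_compl
  have hcl : Zᶜ ∩ closedPoints (LefPen.Sec i ({H} : Set (LefPen.Form r k d))) = {y} := by
    refine Set.Subset.antisymm (fun y' hy' => ?_) fun y' hy' => ?_
    · obtain ⟨j', a', hP'⟩ := exists_chart_of_isClosed (mem_closedPoints_iff.1 hy'.2)
      obtain ⟨ha', hf'⟩ := hP'.mem_zeros
      have hS'' : ConeSing i H (ins j' a') := (coneSing_iff_chart i H).2 ⟨ha', hf', fun w hw => by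
        by_contra hne
        exact hy'.1 (hP'.smoothAt (n := m + 1) hw hne)⟩
      obtain ⟨s, hs'⟩ := huniq _ _ (ins_ne_zero j a) (ins_ne_zero j' a') hS' hS''
      exact hP.eq_of_ins hP' hs'
    · rw [Set.mem_singleton_iff] at hy'
      subst hy'
      exact ⟨hns, hP.isClosed⟩
  have h := JacobsonSpace.closure_inter_closedPoints_eq_closure hZ.isLocallyClosed
  rw [hcl, closure_eq_iff_isClosed.2 hP.isClosed, hZ.closure_eq] at h
  rw [← compl_compl Z, ← h]

include n in
/-- Exactly one singular line, non-degenerate there. -/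
theorem oneOrdQuad_iff (hn : 1 ≤ n) :
    LefPen.OneOrdQuad k n i H ↔
      (∃ v : Fin (r + 1) → k, v ≠ 0 ∧ ConeSing i H v) ∧
      (∀ v v' : Fin (r + 1) → k, v ≠ 0 → v' ≠ 0 → ConeSing i H v → ConeSing i H v' → ∃ t : k, v' = t • v) ∧
      ∀ (j : Fin (r + 1)) (a : Fin r → k) (L : LocEq i n j), ConeSing i H (ins j a) → eval a L.u ≠ 0 →
        (minor L.g L.e a).det ≠ 0 → NDPt L.g (dehomog j H.1) a := by
  classical
  obtain ⟨m, rfl⟩ : ∃ m, n = m + 1 := ⟨n - 1, by omega⟩
  haveI := locallyOfFinitePresentation_secToSpec (i := i) (H := H)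
  haveI := jacobsonSpace_sec (i := i) (H := H)
  constructor
  · rintro ⟨y, hset, hord⟩
    have hns : ¬ LefPen.SmoothAt (LefPen.secToSpec i ({H} : Set (LefPen.Form r k d))) y := fun h => by
      have : y ∈ {y' | LefPen.SmoothAt (LefPen.secToSpec i ({H} : Set (LefPen.Form r k d))) y'} := h
      rw [hset] at this
      exact this rfl
    obtain ⟨j, a, hP⟩ := exists_chart_of_isClosed hord.1
    obtain ⟨ha, hf⟩ := hP.mem_zeros
    have hs : ∀ w ∈ chartTan i j a, dd (dehomog j H.1) a w = 0 := fun w hw => by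
      by_contra hne
      exact hns (hP.smoothAt (n := m + 1) hw hne)
    have hS : ConeSing i H (ins j a) := (coneSing_iff_chart i H).2 ⟨ha, hf, hs⟩
    have hrn : m + 1 ≤ r := le_r i ⟨_, ins_ne_zero j a, hS.1⟩
    obtain ⟨L, hu, hdet⟩ := exists_locEq i (m + 1) ha
    obtain ⟨lam, hlam⟩ := L.exists_lam i ha hu hs
    have hnd : NDPt L.g (dehomog j H.1) a :=
      (hP.isOrdQuadSing_iff rfl hrn L hu hdet hlam).1 hord
    have hline : ∀ v' : Fin (r + 1) → k, v' ≠ 0 → ConeSing i H v' →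
        ∃ (j' : Fin (r + 1)) (a' : Fin r → k) (t : k), t ≠ 0 ∧ ins j' a' = t • v' ∧ PointAt i H j' y a' := by
      intro v' hv' hS'
      obtain ⟨j', a', t, ht, he, hS''⟩ := exists_ins_of_coneSing i H hv' hS'
      obtain ⟨ha', hf', hs'⟩ := (coneSing_iff_chart i H).1 hS''
      obtain ⟨y', hP'⟩ := exists_pointAt ha' hf'
      rcases eq_or_ne y' y with rfl | hne
      · exact ⟨j', a', t, ht, he, hP'⟩
      · exfalso
        have hsm : y' ∈ {y' | LefPen.SmoothAt (LefPen.secToSpec i ({H} : Set (LefPen.Form r k d))) y'} := by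
          rw [hset]; exact hne
        obtain ⟨u, hu', hmem⟩ := hP'.exists_mul_mem (n := m + 1) hs' hsm
        have := mem_chartIdeal_of_mul_mem (n := m + 1) i ha ha' hu' hmem
        exact NDPt.not_mul_mem i hn L ha hu hf hs hnd (u := 1) (by simp) (by rwa [one_mul])
    refine ⟨⟨_, ins_ne_zero j a, hS⟩, fun v v' hv hv' h h' => ?_, fun j' a' L' hS' hu' hdet' => ?_⟩
    · obtain ⟨j₁, a₁, t₁, ht₁, he₁, hP₁⟩ := hline v hv h
      obtain ⟨j₂, a₂, t₂, ht₂, he₂, hP₂⟩ := hline v' hv' h'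
      refine ⟨t₂⁻¹ * (ins j₂ a₂ j₁ * t₁), ?_⟩
      rw [← smul_smul, ← smul_smul, ← he₁, ← hP₁.ins_eq hP₂, he₂, smul_smul, inv_mul_cancel₀ ht₂, one_smul]
    · obtain ⟨j₁, a₁, t₁, -, he₁, hP₁⟩ := hline _ (ins_ne_zero j' a') hS'
      obtain ⟨ha', hf', hs'⟩ := (coneSing_iff_chart i H).1 hS'
      obtain ⟨y', hP'⟩ := exists_pointAt ha' hf'
      obtain rfl : y = y' := hP'.eq_of_ins hP₁ he₁
      obtain ⟨lam', hlam'⟩ := L'.exists_lam i ha' hu' hs'
      exact (hP'.isOrdQuadSing_iff rfl hrn L' hu' hdet' hlam').1 hord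
  · rintro ⟨⟨v, hv, hS⟩, huniq, hnd⟩
    obtain ⟨j, a, t, -, -, hS'⟩ := exists_ins_of_coneSing i H hv hS
    obtain ⟨L, hu, hdet⟩ := exists_locEq i (m + 1) ((coneSing_iff_chart i H).1 hS').1
    exact oneOrdQuad_of_ndPt i H hn huniq L hS' hu hdet (hnd j a L hS' hu hdet)

end Groth.SGA7.Lef
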