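import Groth.Agent.SGA7.Forms
import Groth.Agent.SGA7.Lef.OneQuad
import Groth.Agent.SGA7.Lef.Family
import Groth.Agent.SGA7.Lef.Germ

/-!
# Hypersurfaces near one with a single ordinary quadratic singularity

Near such a hypersurface, one which is not transversal again has a single ordinary quadratic
singularity.
-/

set_option autoImplicit false
set_option linter.style.haveILetI false

universe u

open CategoryTheory CategoryTheory.Limits AlgebraicGeometry Opposite TopologicalSpace
open MvPolynomial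
open Groth.SGA7.DualVar

namespace Groth.SGA7.Lef

variable {k : Type u} [Field k]

/-- The minor as a polynomial. -/
noncomputable def minorPoly {r c : ℕ} (g : Fin c → MvPolynomial (Fin r) k) (e : Fin c → Fin r) :
    MvPolynomial (Fin r) k :=
  (Matrix.of fun q p => pderiv (e q) (g p) : Matrix (Fin c) (Fin c) (MvPolynomial (Fin r) k)).det

theorem aeval_minorPoly {A : Type*} [CommRing A] [Algebra k A] {r c : ℕ} (g : Fin c → MvPolynomial (Fin r) k)
    (e : Fin c → Fin r) (x : Fin r → A) : aeval x (minorPoly g e) = (minor g e x).det := by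
  rw [minorPoly, AlgHom.map_det]
  rfl

variable [IsAlgClosed k] {r : ℕ} {X : Scheme.{u}} (i : X ⟶ CohB1.ProjSpace r k) [IsClosedImmersion i]
variable {n : ℕ} [SmoothOfRelativeDimension n (i ≫ CohB1.ProjSpace.toSpec r k)]
variable {d : ℕ}

/-- Local equations valid at a point of a chart over a field extension. -/
theorem exists_locEq_field {j : Fin (r + 1)} {K : Type u} [Field K] [Algebra k K] (x : Fin r → K)
    (hx : ∀ G ∈ chartIdeal i j, aeval x G = 0) :
    ∃ L : LocEq i n j, aeval x L.u ≠ 0 ∧ (minor L.g L.e x).det ≠ 0 := by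
  obtain ⟨G, hG, hne⟩ := exists_aeval_ne_zero
    (chartIdeal i j ⊔ Ideal.span (Set.range fun L : LocEq i n j => L.u * minorPoly L.g L.e)) (fun a => by
      by_contra hcon
      push Not at hcon
      obtain ⟨L, hu, hdet⟩ := exists_locEq i n (show a ∈ chartPts i j from
        fun p hp => hcon p (Ideal.mem_sup_left hp))
      have := hcon _ (Ideal.mem_sup_right (Ideal.subset_span ⟨L, rfl⟩))
      rw [← aeval_eq_eval, map_mul, aeval_minorPoly] at this
      exact hdet ((mul_eq_zero.1 this).resolve_left (by rwa [aeval_eq_eval]))) x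
  by_contra hcon
  push Not at hcon
  refine hne (RingHom.mem_ker.1 ((sup_le (fun p hp => hx p hp) (Ideal.span_le.2 ?_) :
    _ ≤ RingHom.ker (aeval x : MvPolynomial (Fin r) k →ₐ[k] K)) hG))
  rintro _ ⟨L, rfl⟩
  rw [SetLike.mem_coe, RingHom.mem_ker, map_mul, aeval_minorPoly]
  rcases eq_or_ne (aeval x L.u) 0 with h | h
  · rw [h, zero_mul]
  · rw [hcon L h, mul_zero]

/-- The forms in coordinates, in a chart. -/
noncomputable def famBasis (j : Fin (r + 1)) (e : {e : Fin (r + 1) →₀ ℕ | e.degree = d}) :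
    MvPolynomial (Fin r) k :=
  dehomog j (Forms.monBasis r k d e).1

theorem dehomog_eq_sum [Fintype {e : Fin (r + 1) →₀ ℕ | e.degree = d}] (j : Fin (r + 1))
    (H : LefPen.Form r k d) :
    dehomog j H.1 = ∑ e, (Forms.monBasis r k d).repr H e • famBasis j e := by
  conv_lhs => rw [← (Forms.monBasis r k d).sum_repr H]
  rw [AddSubmonoidClass.coe_finsetSum, map_sum]
  exact Finset.sum_congr rfl fun e _ => by rw [SetLike.val_smul, map_smul, famBasis]

theorem singF_of_coneSing [Fintype {e : Fin (r + 1) →₀ ℕ | e.degree = d}] {H : LefPen.Form r k d}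
    {j : Fin (r + 1)} {a : Fin r → k} (L : LocEq i n j) (hS : ConeSing i H (ins j a)) (hu : eval a L.u ≠ 0) :
    ∃ lam, SingF L.g (famBasis j) ((Forms.monBasis r k d).repr H) a lam := by
  obtain ⟨ha, hf, hs⟩ := (coneSing_iff_chart i H).1 hS
  obtain ⟨lam, hlam⟩ := L.exists_lam i ha hu hs
  refine ⟨lam, fun p => by rw [aeval_eq_eval]; exact ha _ (L.mem p), ?_, fun z => ?_⟩
  · rw [dehomog_eq_sum, ← aeval_eq_eval, evF_const] at hf
    simpa using hf
  · have := hlam z
    rw [dehomog_eq_sum, dvF_const] at this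
    simpa using this

section Centre

variable [Fintype {e : Fin (r + 1) →₀ ℕ | e.degree = d}]
variable {α : Type u} (U : Ultrafilter α) {K : Type u} [Field K] [Algebra k K] (gm : (α → k) →ₐ[k] K)
  (hgm : ∀ f f', gm f = gm f' ↔ ∀ᶠ s in U, f s = f' s) (hgs : Function.Surjective gm)
  (O : ValuationSubring K) [Algebra k O] [IsScalarTower k O K]
  (Hs : α → LefPen.Form r k d) {H₀ : LefPen.Form r k d} {j₀ : Fin (r + 1)} {a₀ : Fin r → k}

include n hgm hgs in
/-- Singular points of nearby members tend to the singular point. -/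
theorem exists_centre
    (hh : ∀ e, ∃ m : O, IsLocalRing.residue O m = algebraMap k _ ((Forms.monBasis r k d).repr H₀ e) ∧
      (m : K) = gm fun s => (Forms.monBasis r k d).repr (Hs s) e)
    (huniq : ∀ v : Fin (r + 1) → k, ConeSing i H₀ v → ∃ t : k, v = t • ins j₀ a₀)
    (v : α → Fin (r + 1) → k) (hv : ∀ᶠ s in U, v s ≠ 0 ∧ ConeSing i (Hs s) (v s)) :
    (∀ᶠ s in U, v s j₀ ≠ 0) ∧ ∃ x : Fin r → O, (∀ l, IsLocalRing.residue O (x l) = algebraMap k _ (a₀ l)) ∧
      ∀ l, (x l : K) = gm fun s => (v s j₀)⁻¹ * v s (j₀.succAbove l) := by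
  classical
  choose h hhres hhK using hh
  have hne : ∃ j, ∀ᶠ s in U, v s j ≠ 0 := by
    by_contra hcon
    push Not at hcon
    have hall : ∀ᶠ s in U, ∀ j, v s j = 0 := Filter.eventually_all.2 hcon
    obtain ⟨s, hs, hs'⟩ := (hall.and hv).exists
    exact hs'.1 (funext hs)
  let V : Fin (r + 1) → K := fun j => gm fun s => v s j
  have hV : ∀ j, (∀ᶠ s in U, v s j ≠ 0) ↔ V j ≠ 0 := fun j => by
    rw [← not_iff_not, not_not, ← Ultrafilter.eventually_not]
    simp only [not_not]
    change _ ↔ gm (fun s => v s j) = 0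
    rw [← map_zero gm, hgm]
    rfl
  obtain ⟨j, hj⟩ := hne
  obtain ⟨j₁, -, hmax⟩ := Finset.exists_max_image (Finset.univ : Finset (Fin (r + 1)))
    (fun l => O.valuation (V l)) ⟨j, Finset.mem_univ _⟩
  have hVj : V j₁ ≠ 0 := fun h0 => (hV j).1 hj (by
    have := hmax j (Finset.mem_univ _)
    rwa [h0, map_zero, nonpos_iff_eq_zero, Valuation.zero_iff] at this)
  have hv₁ : ∀ᶠ s in U, v s j₁ ≠ 0 := (hV j₁).2 hVj
  -- the normalised vector
  let w : Fin (r + 1) → α → k := fun l s => (v s j₁)⁻¹ * v s l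
  have hwV : ∀ l, gm (w l) = (V j₁)⁻¹ * V l := fun l => by
    rw [eq_inv_mul_iff_mul_eq₀ hVj]
    change gm (fun s => v s j₁) * gm _ = _
    rw [← map_mul, hgm]
    filter_upwards [hv₁] with s hs
    simp [w, hs]
  have hwO : ∀ l, gm (w l) ∈ O := fun l => by
    rw [← O.valuation_le_one_iff, hwV, map_mul, map_inv₀, ← div_eq_inv_mul]
    exact div_le_one_of_le₀ (hmax l (Finset.mem_univ _)) zero_le
  let W : Fin (r + 1) → O := fun l => ⟨gm (w l), hwO l⟩
  let a : α → Fin r → k := fun s l => w (j₁.succAbove l) s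
  let x : Fin r → O := fun l => W (j₁.succAbove l)
  have hins : ∀ᶠ s in U, ins j₁ (a s) = (v s j₁)⁻¹ • v s := by
    filter_upwards [hv₁] with s hs
    exact exists_ins_eq hs
  have hSing : ∀ᶠ s in U, ConeSing i (Hs s) (ins j₁ (a s)) := by
    filter_upwards [hins, hv, hv₁] with s hs hs' hs''
    rw [hs]
    exact hs'.2.smul i (inv_ne_zero hs'')
  let res : O →ₐ[k] IsLocalRing.ResidueField O := IsScalarTower.toAlgHom k O _
  let val : O →ₐ[k] K := IsScalarTower.toAlgHom k O K
  have hval : Function.Injective val := Subtype.val_injective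
  have hxK : (fun l => val (x l)) = fun l => gm fun s => a s l := rfl
  have hI : ∀ G ∈ chartIdeal i j₁, aeval x G = 0 := fun G hG => hval (by
    rw [map_aeval_eq, hxK, germ_aeval, map_zero, ← map_zero gm, hgm]
    filter_upwards [hSing] with s hs
    exact ((coneSing_iff_chart i (Hs s)).1 hs).1 G hG)
  obtain ⟨L, hu, hdet⟩ := exists_locEq_field (n := n) i (fun l => res (x l)) fun G hG => by
    rw [← map_aeval_eq, hI G hG, map_zero]
  have hdetO : IsUnit (minor L.g L.e x).det := by
    have : res (minor L.g L.e x).det ≠ 0 := by rwa [AlgHom.map_det, map_minor]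
    rw [← IsLocalRing.notMem_maximalIdeal]
    exact fun hmem => this ((IsLocalRing.residue_eq_zero_iff _).2 hmem)
  have huK : ∀ᶠ s in U, eval (a s) L.u ≠ 0 := by
    by_contra hcon
    refine hu ?_
    rw [← map_aeval_eq]
    have : aeval x L.u = 0 := hval (by
      rw [map_aeval_eq, hxK, germ_aeval, map_zero, ← map_zero gm, hgm]
      filter_upwards [Ultrafilter.eventually_not.2 hcon] with s hs
      simpa using hs)
    rw [this, map_zero]
  have hlam : ∀ s, ∃ lam, ConeSing i (Hs s) (ins j₁ (a s)) → eval (a s) L.u ≠ 0 →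
      SingF L.g (famBasis j₁) ((Forms.monBasis r k d).repr (Hs s)) (a s) lam := fun s => by
    by_cases hs : ConeSing i (Hs s) (ins j₁ (a s)) ∧ eval (a s) L.u ≠ 0
    · obtain ⟨lam, hl⟩ := singF_of_coneSing i L hs.1 hs.2
      exact ⟨lam, fun _ _ => hl⟩
    · exact ⟨0, fun h1 h2 => absurd ⟨h1, h2⟩ hs⟩
  choose lam hlam using hlam
  have hK : SingF L.g (famBasis j₁) (fun e => val (h e)) (fun l => val (x l)) fun p => gm fun s => lam s p := by
    have : (fun e => val (h e)) = fun e => gm fun s => (Forms.monBasis r k d).repr (Hs s) e := funext hhK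
    rw [this, hxK]
    refine sing_germ U gm hgm hgs L.g (famBasis j₁) _ a lam ?_
    filter_upwards [hSing, huK] with s hs hs'
    exact hlam s hs hs'
  obtain ⟨dinv, hdinv⟩ := hdetO.exists_right_inv
  let Λ : Fin (r - n) → O := fun p => dinv * dvF (famBasis (k := k) (d := d) j₁) h x (cramer L.g L.e x p)
  have hΛ : (fun p => val (Λ p)) = fun p => gm fun s => lam s p := funext fun p => by
    have h1 := lam_mul_det L.g (famBasis j₁) L.e (fun l => val (x l)) hK p
    have h2 : (fun l => val (cramer L.g L.e x p l)) = cramer L.g L.e (fun l => val (x l)) p := by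
      funext l
      simp only [cramer, Finset.sum_apply, Pi.smul_apply, smul_eq_mul, map_sum, map_mul, ← map_minor,
        ← AlgHom.map_adjugate, Pi.single_apply, apply_ite val, map_one, map_zero]
      rfl
    rw [← h2, ← map_dvF, ← map_minor, ← AlgHom.map_det] at h1
    rw [map_mul, ← h1, mul_comm, mul_assoc, ← map_mul, hdinv, map_one, mul_one]
  have hO : SingF L.g (famBasis j₁) h x Λ := SingF.of_injective L.g (famBasis j₁) val h x Λ hval (by
    rw [hΛ]; exact hK)
  have hκ := hO.map_of_surjective L.g (famBasis j₁) res h x Λ IsLocalRing.residue_surjective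
  -- the specialisation lies on the singular line
  let f₀ := dehomog j₁ H₀.1
  let σ := Fin r ⊕ Fin (r - n)
  let xP : Fin r → MvPolynomial σ k := fun l => MvPolynomial.X (Sum.inl l)
  let lP : Fin (r - n) → MvPolynomial σ k := fun p => MvPolynomial.X (Sum.inr p)
  let eqs : Option (Fin r) → MvPolynomial σ k := fun o => o.elim (aeval xP f₀)
    fun l => dd f₀ xP (Pi.single l 1) - ∑ p, lP p * dd (L.g p) xP (Pi.single l 1)
  let Y : Fin (r + 1) → MvPolynomial (Fin r) k := fun l => PlaneCurve.affCoord j₁ l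
  have hY : ∀ l, aeval (fun m => res (x m)) (Y l) = res (W l) := fun l => by
    refine Fin.succAboveCases j₁ ?_ (fun m => ?_) l
    · have : W j₁ = 1 := Subtype.ext (by
        change gm (w j₁) = 1
        rw [hwV, inv_mul_cancel₀ hVj])
      simp [Y, PlaneCurve.affCoord, this]
    · simp [Y, PlaneCurve.affCoord, x]
  let ξ : σ → IsLocalRing.ResidueField O := Sum.elim (fun l => res (x l)) fun p => res (Λ p)
  have hξ : (fun l => aeval ξ (xP l)) = fun l => res (x l) := funext fun l => by simp [xP, ξ]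
  have hline : ∀ l, res (W l) = algebraMap k _ (ins j₀ a₀ l) * res (W j₀) := by
    intro l
    let T := Y l - C (ins j₀ a₀ l) * Y j₀
    have h0 : aeval ξ (aeval xP (L.u * minorPoly L.g L.e * T)) = 0 := by
      refine aeval_eq_zero_of_zeros
        ((chartIdeal i j₁).map (aeval xP) ⊔ Ideal.span (Set.range eqs)) (fun z hz => ?_) ξ (fun G hG => ?_)
      · let b : Fin r → k := fun m => z (Sum.inl m)
        let ψ : MvPolynomial σ k →ₐ[k] k := aeval z
        have hψ : ∀ G, eval z G = ψ G := fun G => by rw [aeval_eq_eval]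
        have hb : (fun m => ψ (xP m)) = b := funext fun m => by simp [ψ, xP, b]
        rw [hψ, map_aeval_eq, hb, aeval_eq_eval, map_mul]
        rcases eq_or_ne (eval b (L.u * minorPoly L.g L.e)) 0 with h0 | h0
        · rw [h0, zero_mul]
        refine mul_eq_zero_of_right _ ?_
        rw [map_mul] at h0
        have hbI : b ∈ chartPts i j₁ := fun G hG => by
          have := hz _ (Ideal.mem_sup_left (Ideal.mem_map_of_mem (aeval xP) hG))
          rwa [hψ, map_aeval_eq, hb, aeval_eq_eval] at this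
        have he : ∀ o, ψ (eqs o) = 0 := fun o => by
          rw [← hψ]; exact hz _ (Ideal.mem_sup_right (Ideal.subset_span ⟨o, rfl⟩))
        have hf0 : eval b f₀ = 0 := by
          have := he none
          simp only [eqs, Option.elim, map_aeval_eq, hb, aeval_eq_eval] at this
          exact this
        have hgrad : ∀ y ∈ chartTan i j₁ b, dd f₀ b y = 0 := by
          intro y hy
          have hy' := (L.chartTan_eq hbI (left_ne_zero_of_mul h0)).1 hy
          have hl : ∀ m, dd f₀ b (Pi.single m 1) = ∑ p, z (Sum.inr p) * dd (L.g p) b (Pi.single m 1) := fun m => by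
            have := he (some m)
            have hs : (fun q => ψ ((Pi.single m 1 : Fin r → MvPolynomial σ k) q)) = Pi.single m 1 :=
              funext fun q => by simp [Pi.single_apply, apply_ite ψ]
            simp only [eqs, Option.elim, map_sub, map_sum, map_mul, map_dd, hb, hs, sub_eq_zero] at this
            simpa [ψ, lP] using this
          calc dd f₀ b y = ∑ p, z (Sum.inr p) * dd (L.g p) b y := by
                conv_lhs => rw [pi_eq_sum_univ' y, dd_sum_right]
                conv_rhs => rw [pi_eq_sum_univ' y]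
                simp only [dd_sum_right, dd_smul_right, hl, Finset.mul_sum]
                rw [Finset.sum_comm]
                exact Finset.sum_congr rfl fun p _ => Finset.sum_congr rfl fun l _ => by ring
            _ = 0 := Finset.sum_eq_zero fun p _ => by rw [hy' p, mul_zero]
        obtain ⟨t, ht⟩ := huniq _ ((coneSing_iff_chart i H₀).2 ⟨hbI, hf0, hgrad⟩)
        have hYb : ∀ m, eval b (Y m) = ins j₁ b m := fun m => by
          refine Fin.succAboveCases j₁ ?_ (fun q => ?_) m <;> simp [Y, PlaneCurve.affCoord, ins]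
        rw [map_sub, map_mul, eval_C, hYb, hYb, ht]
        simp [ins]
        ring
      · refine (sup_le (Ideal.map_le_iff_le_comap.2 fun p hp => ?_) (Ideal.span_le.2 ?_) :
          _ ≤ RingHom.ker (aeval ξ : MvPolynomial σ k →ₐ[k] IsLocalRing.ResidueField O)) hG
        · rw [Ideal.mem_comap, RingHom.mem_ker, map_aeval_eq, hξ, ← map_aeval_eq, hI p hp, map_zero]
        · rintro _ ⟨o, rfl⟩
          rw [SetLike.mem_coe, RingHom.mem_ker]
          have hh0 : (fun e => res (h e)) = fun e => algebraMap k _ ((Forms.monBasis r k d).repr H₀ e) :=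
            funext hhres
          cases o with
          | none =>
            simp only [eqs, Option.elim, map_aeval_eq, hξ]
            rw [show f₀ = ∑ e, (Forms.monBasis r k d).repr H₀ e • famBasis j₁ e from dehomog_eq_sum j₁ H₀,
              evF_const, ← hh0]
            exact hκ.zero_f
          | some m =>
            have hs : (fun q => aeval ξ ((Pi.single m 1 : Fin r → MvPolynomial σ k) q)) = Pi.single m 1 :=
              funext fun q => by simp [Pi.single_apply, apply_ite (aeval ξ)]
            simp only [eqs, Option.elim, map_sub, map_sum, map_mul, map_dd, hξ, hs, sub_eq_zero]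
            rw [show f₀ = ∑ e, (Forms.monBasis r k d).repr H₀ e • famBasis j₁ e from dehomog_eq_sum j₁ H₀,
              dvF_const, ← hh0, hκ.grad]
            simp [ξ, lP]
    rw [map_aeval_eq, hξ, map_mul, map_mul, aeval_minorPoly] at h0
    have := (mul_eq_zero.1 h0).resolve_left (mul_ne_zero hu hdet)
    rw [map_sub, map_mul, aeval_C, hY, hY, sub_eq_zero] at this
    exact this
  have hW0 : res (W j₀) ≠ 0 := fun h0 => by
    have h1 := hline j₁
    rw [h0, mul_zero] at h1
    have : W j₁ = 1 := Subtype.ext (by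
      change gm (w j₁) = 1
      rw [hwV, inv_mul_cancel₀ hVj])
    rw [this, map_one] at h1
    exact one_ne_zero h1
  have hWu : IsUnit (W j₀) := by
    rw [← IsLocalRing.notMem_maximalIdeal]
    exact fun hmem => hW0 ((IsLocalRing.residue_eq_zero_iff _).2 hmem)
  have hVj₀ : V j₀ ≠ 0 := fun h0 => by
    have h1 : val (W j₀) ≠ 0 := (hWu.map val).ne_zero
    refine h1 ?_
    change gm (w j₀) = 0
    rw [hwV, h0, mul_zero]
  refine ⟨(hV j₀).2 hVj₀, fun l => (hWu.unit⁻¹ : Oˣ) * W (j₀.succAbove l), fun l => ?_, fun l => ?_⟩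
  · change res ((hWu.unit⁻¹ : Oˣ) * W (j₀.succAbove l)) = _
    rw [map_mul, hline, mul_left_comm, ← map_mul]
    simp [ins]
  · have hmul : gm (w j₀) * ((hWu.unit⁻¹ : Oˣ) : O).1 = 1 := congrArg Subtype.val (hWu.mul_val_inv)
    change ((hWu.unit⁻¹ : Oˣ) : O).1 * gm (w (j₀.succAbove l)) = _
    rw [eq_inv_of_mul_eq_one_right hmul, hwV, hwV]
    have h1 : (gm fun s => (v s j₀)⁻¹ * v s (j₀.succAbove l)) = (V j₀)⁻¹ * V (j₀.succAbove l) := by
      rw [eq_inv_mul_iff_mul_eq₀ hVj₀]
      change gm (fun s => v s j₀) * gm _ = _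
      rw [← map_mul, hgm]
      filter_upwards [(hV j₀).2 hVj₀] with s hs
      simp [hs]
    rw [h1]
    field_simp

end Centre

variable [IrreducibleSpace X]

include n in
/-- The hypersurfaces with one ordinary quadratic singularity are open in the dual variety. -/
theorem relOpen_oneOrdQuad (hn : 1 ≤ n) (H₀ : LefPen.Form r k d) (hH₀ : LefPen.OneOrdQuad k n i H₀) :
    ∃ f : LefPen.Form r k d → k, LefPen.IsPolyFun k f ∧ f H₀ ≠ 0 ∧
      ∀ H : LefPen.Form r k d, ¬ LefPen.Transversal k n 1 (LefPen.secToSpec i ({H} : Set (LefPen.Form r k d))) →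
        f H ≠ 0 → LefPen.OneOrdQuad k n i H := by
  classical
  haveI : Fintype {e : Fin (r + 1) →₀ ℕ | e.degree = d} := Fintype.ofFinite _
  by_contra hcon
  push Not at hcon
  let α := {H : LefPen.Form r k d //
    ¬ LefPen.Transversal k n 1 (LefPen.secToSpec i ({H} : Set (LefPen.Form r k d))) ∧ ¬ LefPen.OneOrdQuad k n i H}
  let mb := Forms.monBasis r k d
  obtain ⟨K, _, _, U, gm, O, hgs, hgm, hkO, hcoord⟩ :=
    exists_limit (α := α) (fun s e => mb.repr s.1 e) (fun e => mb.repr H₀ e) (fun f hf => by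
      obtain ⟨H, hH1, hH2, hH3⟩ := hcon (fun H => eval (fun e => mb.repr H e) f) (by
        simpa [aeval_eq_eval] using Forms.isPolyFun_aeval (V := LefPen.Form r k d) f
          (g := fun e H => mb.repr H e) fun e => Forms.isPolyFun_linear (mb.coord e)) hf
      exact ⟨⟨H, hH1, hH3⟩, hH2⟩)
  letI : Algebra k O := ((algebraMap k K).codRestrict O.toSubring hkO).toAlgebra
  haveI : IsScalarTower k O K := IsScalarTower.of_algebraMap_eq fun _ => rfl
  let res : O →ₐ[k] IsLocalRing.ResidueField O := IsScalarTower.toAlgHom k O _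
  let val : O →ₐ[k] K := IsScalarTower.toAlgHom k O K
  have hval : Function.Injective val := Subtype.val_injective
  have hh : ∀ e, ∃ m : O, IsLocalRing.residue O m = algebraMap k _ (mb.repr H₀ e) ∧
      (m : K) = gm fun s => mb.repr s.1 e := fun e => by
    obtain ⟨m, hm, hmK⟩ := hcoord e
    refine ⟨m + algebraMap k O (mb.repr H₀ e), ?_, ?_⟩
    · rw [map_add, (IsLocalRing.residue_eq_zero_iff m).2 hm, zero_add]; rfl
    · change (m : K) + algebraMap k K _ = _
      rw [hmK, sub_add_cancel]
  obtain ⟨⟨v₀, hv₀, hS₀⟩, huniq₀, hnd₀⟩ := (oneOrdQuad_iff i H₀ hn).1 hH₀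
  obtain ⟨j₀, a₀, t₀, ht₀, he₀, hS₀'⟩ := exists_ins_of_coneSing i H₀ hv₀ hS₀
  obtain ⟨L, hu₀, hdet₀⟩ := exists_locEq i n ((coneSing_iff_chart i H₀).1 hS₀').1
  have hnd : NDPt L.g (∑ e, mb.repr H₀ e • famBasis j₀ e) a₀ := by
    rw [← dehomog_eq_sum]; exact hnd₀ j₀ a₀ L hS₀' hu₀ hdet₀
  have hndκ := ndf_base_change L.g (famBasis j₀) (fun e => mb.repr H₀ e) hnd (K := IsLocalRing.ResidueField O)
  have hline₀ : ∀ v : Fin (r + 1) → k, ConeSing i H₀ v → ∃ t : k, v = t • ins j₀ a₀ := fun v hv => by
    rcases eq_or_ne v 0 with rfl | hne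
    · exact ⟨0, (zero_smul _ _).symm⟩
    · exact huniq₀ _ v (ins_ne_zero j₀ a₀) hne hS₀' hv
  have hcentre := exists_centre (n := n) i U gm hgm hgs O (fun s : α => s.1) hh hline₀
  choose h hhres hhK using hh
  have hhres' : (fun e => res (h e)) = fun e => algebraMap k _ (mb.repr H₀ e) := funext hhres
  -- at a nearby point the local equations are valid
  have hvalid : ∀ (a : α → Fin r → k) (x : Fin r → O),
      (∀ l, (x l : K) = gm fun s => a s l) → (∀ l, res (x l) = algebraMap k _ (a₀ l)) →
      IsUnit (minor L.g L.e x).det ∧ ∀ᶠ s in U, eval (a s) L.u ≠ 0 ∧ (minor L.g L.e (a s)).det ≠ 0 := by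
    intro a x hxK hxres
    have hr : (fun l => res (x l)) = fun l => Algebra.ofId k (IsLocalRing.ResidueField O) (a₀ l) := funext hxres
    have h1 : ∀ p, eval a₀ p ≠ 0 → IsUnit (aeval x p) ∧ ∀ᶠ s in U, eval (a s) p ≠ 0 := by
      intro p hp
      have hne : res (aeval x p) ≠ 0 := by
        rw [map_aeval_eq, hr, ← map_aeval_eq, aeval_eq_eval]
        simpa using hp
      have hu : IsUnit (aeval x p) := by
        rw [← IsLocalRing.notMem_maximalIdeal]
        exact fun hmem => hne ((IsLocalRing.residue_eq_zero_iff _).2 hmem)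
      refine ⟨hu, ?_⟩
      by_contra hc
      refine (hu.map val).ne_zero ?_
      rw [map_aeval_eq, show (fun l => val (x l)) = fun l => gm fun s => a s l from funext hxK, germ_aeval,
        ← map_zero gm, hgm]
      filter_upwards [Ultrafilter.eventually_not.2 hc] with s hs
      simpa using hs
    have hd₀ : eval a₀ (minorPoly L.g L.e) ≠ 0 := by rwa [← aeval_eq_eval, aeval_minorPoly]
    obtain ⟨hdu, hde⟩ := h1 _ hd₀
    refine ⟨by rwa [aeval_minorPoly] at hdu, ?_⟩
    filter_upwards [(h1 _ hu₀).2, hde] with s h2 h3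
    exact ⟨h2, by rwa [← aeval_minorPoly, aeval_eq_eval]⟩
  -- multipliers along the valuation
  have hsing : ∀ (a : α → Fin r → k) (x : Fin r → O) (lam : α → Fin (r - n) → k),
      (∀ l, (x l : K) = gm fun s => a s l) → IsUnit (minor L.g L.e x).det →
      (∀ᶠ s in U, SingF L.g (famBasis j₀) (mb.repr s.1) (a s) (lam s)) →
      ∃ Λ : Fin (r - n) → O, SingF L.g (famBasis j₀) h x Λ ∧ ∀ p, (Λ p : K) = gm fun s => lam s p := by
    intro a x lam hxK hdet hs
    have hK : SingF L.g (famBasis j₀) (fun e => val (h e)) (fun l => val (x l)) fun p => gm fun s => lam s p := by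
      rw [show (fun e => val (h e)) = fun e => gm fun s => mb.repr s.1 e from funext hhK,
        show (fun l => val (x l)) = fun l => gm fun s => a s l from funext hxK]
      exact sing_germ U gm hgm hgs L.g (famBasis j₀) _ a lam hs
    obtain ⟨dinv, hdinv⟩ := hdet.exists_right_inv
    let Λ : Fin (r - n) → O := fun p => dinv * dvF (famBasis (k := k) (d := d) j₀) h x (cramer L.g L.e x p)
    have hΛ : (fun p => val (Λ p)) = fun p => gm fun s => lam s p := funext fun p => by
      have h1 := lam_mul_det L.g (famBasis j₀) L.e (fun l => val (x l)) hK p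
      have h2 : (fun l => val (cramer L.g L.e x p l)) = cramer L.g L.e (fun l => val (x l)) p := by
        funext l
        simp only [cramer, Finset.sum_apply, Pi.smul_apply, smul_eq_mul, map_sum, map_mul, ← map_minor,
          ← AlgHom.map_adjugate, Pi.single_apply, apply_ite val, map_one, map_zero]
        rfl
      rw [← h2, ← map_dvF, ← map_minor, ← AlgHom.map_det] at h1
      rw [map_mul, ← h1, mul_comm, mul_assoc, ← map_mul, hdinv, map_one, mul_one]
    exact ⟨Λ, SingF.of_injective L.g (famBasis j₀) val h x Λ hval (by rw [hΛ]; exact hK), congrFun hΛ⟩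
  have hwit : ∀ s : α, ∃ v v' : Fin (r + 1) → k, v ≠ 0 ∧ ConeSing i s.1 v ∧ v' ≠ 0 ∧ ConeSing i s.1 v' ∧
      ((∀ w w' : Fin (r + 1) → k, w ≠ 0 → w' ≠ 0 → ConeSing i s.1 w → ConeSing i s.1 w' → ∃ t : k, w' = t • w) ∨
        ∀ t : k, v' ≠ t • v) := by
    intro s
    obtain ⟨v, hv, hS⟩ : ∃ v : Fin (r + 1) → k, v ≠ 0 ∧ ConeSing i s.1 v := by
      by_contra hc
      push Not at hc
      exact s.2.1 ((transversal_iff_coneSing i hn s.1).2 hc)
    by_cases hu : ∀ w w' : Fin (r + 1) → k, w ≠ 0 → w' ≠ 0 → ConeSing i s.1 w → ConeSing i s.1 w' →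
        ∃ t : k, w' = t • w
    · exact ⟨v, v, hv, hS, hv, hS, Or.inl hu⟩
    · push Not at hu
      obtain ⟨w, w', hw, hw', hwS, hwS', hne⟩ := hu
      exact ⟨w, w', hw, hwS, hw', hwS', Or.inr hne⟩
  choose v v' hv hS hv' hS' hcase using hwit
  obtain ⟨hv0, x, hxres, hxK⟩ := hcentre v (Filter.Eventually.of_forall fun s => ⟨hv s, hS s⟩)
  obtain ⟨hv0', y, hyres, hyK⟩ := hcentre v' (Filter.Eventually.of_forall fun s => ⟨hv' s, hS' s⟩)
  let a : α → Fin r → k := fun s l => (v s j₀)⁻¹ * v s (j₀.succAbove l)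
  let a' : α → Fin r → k := fun s l => (v' s j₀)⁻¹ * v' s (j₀.succAbove l)
  have hins : ∀ (w : α → Fin (r + 1) → k), (∀ s, ConeSing i s.1 (w s)) → (∀ᶠ s in U, w s j₀ ≠ 0) →
      ∀ᶠ s in U, ConeSing i s.1 (ins j₀ fun l => (w s j₀)⁻¹ * w s (j₀.succAbove l)) := fun w hw hw0 => by
    filter_upwards [hw0] with s hs
    rw [exists_ins_eq hs]
    exact (hw s).smul i (inv_ne_zero hs)
  obtain ⟨hdx, hvx⟩ := hvalid a x hxK hxres
  obtain ⟨hdy, hvy⟩ := hvalid a' y hyK hyres
  have hlam : ∀ (b : α → Fin r → k) (s : α), ∃ lam, ConeSing i s.1 (ins j₀ (b s)) → eval (b s) L.u ≠ 0 →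
      SingF L.g (famBasis j₀) (mb.repr s.1) (b s) lam := fun b s => by
    by_cases hs : ConeSing i s.1 (ins j₀ (b s)) ∧ eval (b s) L.u ≠ 0
    · obtain ⟨lam, hl⟩ := singF_of_coneSing i L hs.1 hs.2
      exact ⟨lam, fun _ _ => hl⟩
    · exact ⟨0, fun h1 h2 => absurd ⟨h1, h2⟩ hs⟩
  choose lam hlam using hlam
  obtain ⟨Λ, hΛ, -⟩ := hsing a x (lam a) hxK hdx (by
    filter_upwards [hins v hS hv0, hvx] with s h1 h2
    exact hlam a s h1 h2.1)
  obtain ⟨M, hM, -⟩ := hsing a' y (lam a') hyK hdy (by
    filter_upwards [hins v' hS' hv0', hvy] with s h1 h2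
    exact hlam a' s h1 h2.1)
  have hxres' : (fun l => res (x l)) = fun l => algebraMap k _ (a₀ l) := funext hxres
  rcases Ultrafilter.em U (fun s => ∀ t : k, v' s ≠ t • v s) with htwo | hone
  · -- two singular points
    have hxy := eq_of_sing L.g (famBasis j₀) (k := k) L.e (fun l => (hxres l).trans (hyres l).symm) hdx hΛ hM
      (by rw [hhres', hxres']; exact hndκ)
    have heq : ∀ᶠ s in U, ∀ l, a s l = a' s l := Filter.eventually_all.2 fun l => by
      rw [← hgm, ← hxK, ← hyK, hxy]
    obtain ⟨s, hs, hs1, hs2, hs3⟩ := (heq.and (hv0.and (hv0'.and htwo))).exists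
    refine hs3 (v' s j₀ * (v s j₀)⁻¹) ?_
    have h1 := exists_ins_eq hs1
    have h2 := exists_ins_eq hs2
    rw [show (fun l => (v s j₀)⁻¹ * v s (j₀.succAbove l)) = fun l => (v' s j₀)⁻¹ * v' s (j₀.succAbove l) from
      funext hs, h2] at h1
    rw [mul_smul, ← h1, smul_smul, mul_inv_cancel₀ hs2, one_smul]
  · -- one degenerate singular point
    have hbad : ∀ᶠ s in U, ¬ NDF L.g (famBasis j₀) (fun e => mb.repr s.1 e) (a s) := by
      filter_upwards [hins v hS hv0, hvx, hone] with s h1 h2 h3 h4
      refine s.2.2 (oneOrdQuad_of_ndPt i s.1 hn ((hcase s).resolve_right h3) L h1 h2.1 h2.2 ?_)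
      rw [dehomog_eq_sum, ndPt_iff_ndf]
      simpa using h4
    have hw : ∀ s : α, ∃ (l : Fin (r - n) → k) (w : Fin r → k),
        ¬ NDF L.g (famBasis j₀) (fun e => mb.repr s.1 e) (a s) →
          (∀ z, dvF (famBasis j₀) (fun e => mb.repr s.1 e) (a s) z = ∑ p, l p * dd (L.g p) (a s) z) ∧
          DegenAt L.g (famBasis j₀) (fun e => mb.repr s.1 e) (a s) l w ∧ w ≠ 0 := fun s => by
      by_cases hs : NDF L.g (famBasis j₀) (fun e => mb.repr s.1 e) (a s)
      · exact ⟨0, 0, fun h => absurd hs h⟩
      · have hs' := hs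
        simp only [NDF, not_forall, exists_prop] at hs'
        obtain ⟨l, w, h1, h2, h3⟩ := hs'
        exact ⟨l, w, fun _ => ⟨h1, h2, h3⟩⟩
    choose l w hlw using hw
    have hne : ∃ q, ∀ᶠ s in U, w s q ≠ 0 := by
      by_contra hc
      push Not at hc
      have hall : ∀ᶠ s in U, ∀ q, w s q = 0 := Filter.eventually_all.2 hc
      obtain ⟨s, hs, hs'⟩ := (hall.and hbad).exists
      exact (hlw s hs').2.2 (funext hs)
    obtain ⟨q, hq⟩ := hne
    let W : Fin r → K := fun q => gm fun s => w s q
    obtain ⟨q₀, -, hmax⟩ := Finset.exists_max_image (Finset.univ : Finset (Fin r))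
      (fun q => O.valuation (W q)) ⟨q, Finset.mem_univ _⟩
    have hWq : W q₀ ≠ 0 := fun h0 => by
      have := hmax q (Finset.mem_univ _)
      rw [h0, map_zero, nonpos_iff_eq_zero, Valuation.zero_iff] at this
      change gm (fun s => w s q) = 0 at this
      rw [← map_zero gm, hgm] at this
      obtain ⟨s, hs, hs'⟩ := (this.and hq).exists
      exact hs' hs
    have hq₀ : ∀ᶠ s in U, w s q₀ ≠ 0 := by
      by_contra hc
      refine hWq ?_
      change gm (fun s => w s q₀) = 0
      rw [← map_zero gm, hgm]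
      filter_upwards [Ultrafilter.eventually_not.2 hc] with s hs
      simpa using hs
    let w' : α → Fin r → k := fun s q => (w s q₀)⁻¹ * w s q
    have hwO : ∀ q, gm (fun s => w' s q) ∈ O := fun q => by
      have : gm (fun s => w' s q) = (W q₀)⁻¹ * W q := by
        rw [eq_inv_mul_iff_mul_eq₀ hWq]
        change gm (fun s => w s q₀) * gm _ = _
        rw [← map_mul, hgm]
        filter_upwards [hq₀] with s hs
        simp [w', hs]
      rw [← O.valuation_le_one_iff, this, map_mul, map_inv₀, ← div_eq_inv_mul]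
      exact div_le_one_of_le₀ (hmax q (Finset.mem_univ _)) zero_le
    obtain ⟨N, hN, hNK⟩ := hsing a x l hxK hdx (by
      filter_upwards [hins v hS hv0, hvx, hbad] with s h1 h2 h3
      have h4 := hlam a s h1 h2.1
      exact ⟨h4.zero_g, h4.zero_f, (hlw s h3).1⟩)
    have hdK : DegenAt L.g (famBasis j₀) (fun e => val (h e)) (fun m => val (x m)) (fun p => val (N p))
        fun q => val ⟨_, hwO q⟩ := by
      rw [show (fun e => val (h e)) = fun e => gm fun s => mb.repr s.1 e from funext hhK,
        show (fun m => val (x m)) = fun m => gm fun s => a s m from funext hxK,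
        show (fun p => val (N p)) = fun p => gm fun s => l s p from funext hNK]
      refine degen_germ U gm hgm hgs L.g (famBasis j₀) _ a l w' ?_
      filter_upwards [hbad] with s hs
      obtain ⟨-, hd, -⟩ := hlw s hs
      have hw' : w' s = (w s q₀)⁻¹ • w s := rfl
      refine ⟨fun p => by rw [hw', dd_smul_right, hd.tan, mul_zero], ?_, fun z hz => ?_⟩
      · rw [qForm, hw']
        simp only [qd_smul_right]
        have h5 := hd.quad
        rw [qForm] at h5
        have e1 : ∀ e : {e : Fin (r + 1) →₀ ℕ | e.degree = d},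
            mb.repr s.1 e * (((w s q₀)⁻¹) ^ 2 * qd (famBasis (k := k) j₀ e) (a s) (w s)) =
            ((w s q₀)⁻¹) ^ 2 * (mb.repr s.1 e * qd (famBasis (k := k) j₀ e) (a s) (w s)) := fun e => by ring
        have e2 : ∀ p, l s p * (((w s q₀)⁻¹) ^ 2 * qd (L.g p) (a s) (w s)) =
            ((w s q₀)⁻¹) ^ 2 * (l s p * qd (L.g p) (a s) (w s)) := fun p => by ring
        simp only [e1, e2, ← Finset.mul_sum, ← mul_sub, h5, mul_zero]
      · rw [bForm, hw']
        have h5 := hd.polar z hz
        rw [bForm] at h5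
        have hb : ∀ F : MvPolynomial (Fin r) k, bd F (a s) ((w s q₀)⁻¹ • w s) z = (w s q₀)⁻¹ * bd F (a s) (w s) z := fun F => by
          rw [bd_comm, bd_smul_right, bd_comm]
        have e1 : ∀ e : {e : Fin (r + 1) →₀ ℕ | e.degree = d},
            mb.repr s.1 e * ((w s q₀)⁻¹ * bd (famBasis (k := k) j₀ e) (a s) (w s) z) =
            (w s q₀)⁻¹ * (mb.repr s.1 e * bd (famBasis (k := k) j₀ e) (a s) (w s) z) := fun e => by ring
        have e2 : ∀ p, l s p * ((w s q₀)⁻¹ * bd (L.g p) (a s) (w s) z) =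
            (w s q₀)⁻¹ * (l s p * bd (L.g p) (a s) (w s) z) := fun p => by ring
        simp only [hb, e1, e2, ← Finset.mul_sum, ← mul_sub, h5, mul_zero]
    have hdO : DegenAt L.g (famBasis j₀) h x N fun q => ⟨_, hwO q⟩ := by
      refine ⟨fun p => hval (by rw [map_dd, map_zero]; exact hdK.tan p),
        hval (by rw [map_qForm, map_zero]; exact hdK.quad), fun z hz => hval ?_⟩
      rw [map_bForm, map_zero]
      exact hdK.polar _ fun p => by rw [← map_dd, hz, map_zero]
    refine not_degenerate L.g (famBasis j₀) (k := k) L.e (l₀ := q₀) (Subtype.ext ?_) hdx hN hdO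
      (by rw [hhres', hxres']; exact hndκ)
    change gm (fun s => w' s q₀) = 1
    rw [← map_one gm, hgm]
    filter_upwards [hq₀] with s hs
    simp [w', hs]

end Groth.SGA7.Lef
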