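import Groth.Agent.SGA7.DualVar.Open
import Groth.Agent.SGA7.Lef.BaseLocus
import Groth.Agent.SGA7.Lef.Near

/-!
# The Lefschetz pencils form an open set
-/

set_option autoImplicit false
set_option linter.style.haveILetI false

universe u

open CategoryTheory CategoryTheory.Limits AlgebraicGeometry Opposite TopologicalSpace
open MvPolynomial
open Groth.SGA7.DualVar

namespace Groth.SGA7.Lef

variable {k : Type u} [Field k] {r : ℕ} {X : Scheme.{u}} (i : X ⟶ CohB1.ProjSpace r k) {d : ℕ}

/-- A non-zero multiple of a form defines the same hypersurface. -/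
theorem hypIdeal_smul (H : LefPen.Form r k d) {t : k} (ht : t ≠ 0) :
    LefPen.hypIdeal (t • H) = LefPen.hypIdeal H := by
  unfold LefPen.hypIdeal
  congr 1
  funext U
  refine iInf_congr fun j => ?_
  congr 1
  have key : ∀ G : LefPen.Form r k d, LefPen.dehom G j =
      (Proj.awayToSection (CohB1.polyGrading r k) (MvPolynomial.X j)).hom
        (PlaneCurve.toAway j (dehomog j G.1)) := fun G => by
    rw [← affEq_eq, PlaneCurve.toAway_affEq]
    rfl
  have hu : IsUnit ((Proj.awayToSection (CohB1.polyGrading r k) (MvPolynomial.X j)).hom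
      (PlaneCurve.toAway j (C t : MvPolynomial (Fin r) k))) :=
    (((isUnit_iff_ne_zero.2 ht).map C).map (PlaneCurve.toAway j)).map _
  obtain ⟨u, hu, h⟩ : ∃ u, IsUnit u ∧ LefPen.dehom (t • H) j = u * LefPen.dehom H j := ⟨_, hu, by
    rw [key, key, SetLike.val_smul, map_smul, MvPolynomial.smul_eq_C_mul, map_mul, map_mul]; rfl⟩
  rw [h, map_mul]
  exact Ideal.span_singleton_mul_left_unit (hu.map _) _

theorem secIdeal_smul (H : LefPen.Form r k d) {t : k} (ht : t ≠ 0) :
    LefPen.secIdeal i ({t • H} : Set (LefPen.Form r k d)) = LefPen.secIdeal i {H} := by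
  simp only [LefPen.secIdeal, iSup_singleton, hypIdeal_smul H ht]

theorem oneOrdQuad_smul {n : ℕ} {H : LefPen.Form r k d} {t : k} (ht : t ≠ 0)
    (h : LefPen.OneOrdQuad k n i H) : LefPen.OneOrdQuad k n i (t • H) := by
  let Q : X.IdealSheafData → Prop := fun I => ∃ y : I.subscheme,
    {y' | LefPen.SmoothAt (I.subschemeι ≫ i ≫ CohB1.ProjSpace.toSpec r k) y'} = ({y}ᶜ : Set I.subscheme) ∧
      LefPen.IsOrdQuadSing k (n - 1) (I.subschemeι ≫ i ≫ CohB1.ProjSpace.toSpec r k) y
  have e : ∀ G : LefPen.Form r k d, LefPen.OneOrdQuad k n i G ↔ Q (LefPen.secIdeal i {G}) := fun _ => Iff.rfl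
  rw [e, secIdeal_smul i H ht, ← e]
  exact h

theorem transversal_smul_iff {n : ℕ} (H : LefPen.Form r k d) {t : k} (ht : t ≠ 0) :
    LefPen.Transversal k n 1 (LefPen.secToSpec i ({t • H} : Set (LefPen.Form r k d))) ↔
      LefPen.Transversal k n 1 (LefPen.secToSpec i {H}) := by
  simp only [LefPen.Transversal, LefPen.secToSpec, LefPen.secι, LefPen.Sec]
  rw [secIdeal_smul i H ht]

theorem coneSing_smul_form {H : LefPen.Form r k d} {v : Fin (r + 1) → k} (h : ConeSing i H v) (t : k) :
    ConeSing i (t • H) v := by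
  refine ⟨h.1, by simp [MvPolynomial.smul_eq_C_mul, h.2.1], fun w hw => ?_⟩
  have h2 := LinearMap.mem_ker.1 (h.2.2 hw)
  rw [LinearMap.mem_ker, SetLike.val_smul, MvPolynomial.smul_eq_C_mul, dAt_mul, h2]
  simp [dAt_apply (MvPolynomial.C t)]

/-- A polynomial in the coordinates of a form from a polynomial function. -/
theorem exists_coord_poly [Fintype {e : Fin (r + 1) →₀ ℕ | e.degree = d}] {S : Set (LefPen.Form r k d)}
    (hS : LefPen.IsZOpen k S) {H₀ : LefPen.Form r k d} (hH₀ : H₀ ∈ S) :
    ∃ P : MvPolynomial {e : Fin (r + 1) →₀ ℕ | e.degree = d} k,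
      eval (fun e => (Forms.monBasis r k d).repr H₀ e) P ≠ 0 ∧
      ∀ H, eval (fun e => (Forms.monBasis r k d).repr H e) P ≠ 0 → H ∈ S := by
  obtain ⟨f, hf, hf0, hfS⟩ := hS H₀ hH₀
  obtain ⟨P, hP⟩ := exists_poly_comp hf (fun e => MvPolynomial.X e) fun e => Forms.monBasis r k d e
  have key : ∀ H, eval (fun e => (Forms.monBasis r k d).repr H e) P = f H := fun H => by
    rw [hP]
    simp only [eval_X]
    rw [(Forms.monBasis r k d).sum_repr]
  exact ⟨P, by rwa [key], fun H hH => hfS H (by rwa [key] at hH)⟩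

/-- Polynomials in the coordinates of a pair of forms are polynomial functions. -/
theorem isPolyFun_pair (P : MvPolynomial (Fin 2 × {e : Fin (r + 1) →₀ ℕ | e.degree = d}) k) :
    LefPen.IsPolyFun k fun FG : LefPen.Form r k d × LefPen.Form r k d =>
      eval (fun x => (Forms.monBasis r k d).repr (![FG.1, FG.2] x.1) x.2) P := by
  simpa [aeval_eq_eval] using Forms.isPolyFun_aeval (V := LefPen.Form r k d × LefPen.Form r k d) P
    (g := fun x FG => (Forms.monBasis r k d).repr (![FG.1, FG.2] x.1) x.2) fun x => by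
      obtain ⟨q, e⟩ := x
      fin_cases q
      · exact Forms.isPolyFun_linear
          (((Forms.monBasis r k d).coord e).comp (LinearMap.fst k (LefPen.Form r k d) (LefPen.Form r k d)))
      · exact Forms.isPolyFun_linear
          (((Forms.monBasis r k d).coord e).comp (LinearMap.snd k (LefPen.Form r k d) (LefPen.Form r k d)))

section Normalize

variable [IsAlgClosed k] {α : Type u} (U : Ultrafilter α) {K : Type u} [Field K] [Algebra k K] (gm : (α → k) →ₐ[k] K)
  (hgm : ∀ f f', gm f = gm f' ↔ ∀ᶠ s in U, f s = f' s) (O : ValuationSubring K)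

omit [IsAlgClosed k] in
include hgm in
/-- A family of non-zero vectors, scaled into the valuation ring. -/
theorem exists_normalize {m : ℕ} (v : α → Fin m → k) (hv : ∀ᶠ s in U, v s ≠ 0) :
    ∃ j, (∀ᶠ s in U, v s j ≠ 0) ∧ ∀ l, gm (fun s => (v s j)⁻¹ * v s l) ∈ O := by
  classical
  have hne : ∃ j, ∀ᶠ s in U, v s j ≠ 0 := by
    by_contra hcon
    push Not at hcon
    have hall : ∀ᶠ s in U, ∀ j, v s j = 0 := Filter.eventually_all.2 hcon
    obtain ⟨s, hs, hs'⟩ := (hall.and hv).exists
    exact hs' (funext hs)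
  let V : Fin m → K := fun j => gm fun s => v s j
  have hV : ∀ j, (∀ᶠ s in U, v s j ≠ 0) ↔ V j ≠ 0 := fun j => by
    rw [← not_iff_not, not_not, ← Ultrafilter.eventually_not]
    simp only [not_not]
    change _ ↔ gm (fun s => v s j) = 0
    rw [← map_zero gm, hgm]
    rfl
  obtain ⟨j, hj⟩ := hne
  obtain ⟨j₁, -, hmax⟩ := Finset.exists_max_image (Finset.univ : Finset (Fin m))
    (fun l => O.valuation (V l)) ⟨j, Finset.mem_univ _⟩
  have hVj : V j₁ ≠ 0 := fun h0 => (hV j).1 hj (by
    have := hmax j (Finset.mem_univ _)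
    rwa [h0, map_zero, nonpos_iff_eq_zero, Valuation.zero_iff] at this)
  refine ⟨j₁, (hV j₁).2 hVj, fun l => ?_⟩
  have hwV : gm (fun s => (v s j₁)⁻¹ * v s l) = (V j₁)⁻¹ * V l := by
    rw [eq_inv_mul_iff_mul_eq₀ hVj]
    change gm (fun s => v s j₁) * gm _ = _
    rw [← map_mul, hgm]
    filter_upwards [(hV j₁).2 hVj] with s hs
    simp [hs]
  rw [← O.valuation_le_one_iff, hwV, map_mul, map_inv₀, ← div_eq_inv_mul]
  exact div_le_one_of_le₀ (hmax l (Finset.mem_univ _)) zero_le

end Normalize

section Eval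

variable {A : Type*} [CommRing A] [Algebra k A] {A' : Type*} [CommRing A'] [Algebra k A'] (ψ : A →ₐ[k] A')
  {c : ℕ} (g : Fin c → MvPolynomial (Fin r) k) (e : Fin c → Fin r) (x : Fin r → A)

theorem map_proj (z : Fin r → A) :
    (fun l => ψ (proj g e x z l)) = proj g e (fun l => ψ (x l)) fun l => ψ (z l) := by
  funext l
  simp only [proj, cramer, Pi.add_apply, Pi.smul_apply, Finset.sum_apply, smul_eq_mul, map_add, map_mul,
    map_sum, map_neg, map_one, AlgHom.map_det, map_minor, map_dd, ← map_minor, ← AlgHom.map_adjugate,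
    Pi.single_apply, apply_ite ψ, map_zero]
  rfl

theorem map_aeval_eq' {σ : Type*} (y : σ → A) (p : MvPolynomial σ k) : ψ (aeval y p) = aeval (fun l => ψ (y l)) p :=
  MvPolynomial.comp_aeval_apply y ψ p

theorem map_single (l : Fin r) : (fun m => ψ ((Pi.single l 1 : Fin r → A) m)) = Pi.single l 1 :=
  funext fun m => by simp [Pi.single_apply, apply_ite ψ]

theorem dd_proj_sum (F : MvPolynomial (Fin r) k) (y : Fin r → A) :
    ∑ l, y l * dd F x (proj g e x (Pi.single l 1)) = (minor g e x).det * dd F x y -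
      ∑ p, dd (g p) x y * dd F x (cramer g e x p) := by
  classical
  have hy : ∀ G : MvPolynomial (Fin r) k, dd G x y = ∑ l, y l * dd G x (Pi.single l 1) := fun G => by
    conv_lhs => rw [pi_eq_sum_univ' y, dd_sum_right]
    simp only [dd_smul_right]
  simp only [proj, dd_add_right, dd_smul_right, dd_sum_right, hy]
  simp only [mul_add, Finset.sum_add_distrib, Finset.mul_sum, Finset.sum_mul, sub_eq_add_neg, ← Finset.sum_neg_distrib]
  congr 1
  · exact Finset.sum_congr rfl fun l _ => by ring
  · rw [Finset.sum_comm]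
    exact Finset.sum_congr rfl fun p _ => Finset.sum_congr rfl fun l _ => by ring

end Eval

variable [IsClosedImmersion i] {n : ℕ} [SmoothOfRelativeDimension n (i ≫ CohB1.ProjSpace.toSpec r k)]
variable [IsAlgClosed k]

/-- The forms which are transversal or have one ordinary quadratic singularity form an open set. -/
theorem isZOpen_good [IrreducibleSpace X] (hn : 1 ≤ n) :
    LefPen.IsZOpen k {H : LefPen.Form r k d |
      LefPen.Transversal k n 1 (LefPen.secToSpec i ({H} : Set (LefPen.Form r k d))) ∨ LefPen.OneOrdQuad k n i H} := by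
  rintro H (hH | hH)
  · obtain ⟨f, hf, hf0, hfS⟩ := isZOpen_transversal (n := n) i hn d H hH
    exact ⟨f, hf, hf0, fun w hw => Or.inl (hfS w hw)⟩
  · obtain ⟨f, hf, hf0, hfS⟩ := relOpen_oneOrdQuad i hn H hH
    exact ⟨f, hf, hf0, fun w hw => (Classical.em _).imp_right fun h => hfS w h hw⟩

/-- Near a transversal base locus, the base locus is transversal. -/
theorem exists_nbhd_baseLocus (hn : 1 ≤ n) (F₀ G₀ : LefPen.Form r k d)
    (h₀ : LefPen.Transversal k n 2 (LefPen.secToSpec i ({F₀, G₀} : Set (LefPen.Form r k d)))) :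
    ∃ f : LefPen.Form r k d × LefPen.Form r k d → k, LefPen.IsPolyFun k f ∧ f (F₀, G₀) ≠ 0 ∧
      ∀ FG, f FG ≠ 0 → LefPen.Transversal k n 2 (LefPen.secToSpec i ({FG.1, FG.2} : Set (LefPen.Form r k d))) := by
  classical
  haveI : Fintype {e : Fin (r + 1) →₀ ℕ | e.degree = d} := Fintype.ofFinite _
  by_contra hcon
  push Not at hcon
  let mb := Forms.monBasis r k d
  let α := {FG : LefPen.Form r k d × LefPen.Form r k d //
    ¬ LefPen.Transversal k n 2 (LefPen.secToSpec i ({FG.1, FG.2} : Set (LefPen.Form r k d)))}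
  obtain ⟨K, _, _, U, gm, O, hgs, hgm, hkO, hcoord⟩ :=
    exists_limit (α := α) (σ := Fin 2 × {e : Fin (r + 1) →₀ ℕ | e.degree = d})
      (fun s x => mb.repr (![s.1.1, s.1.2] x.1) x.2) (fun x => mb.repr (![F₀, G₀] x.1) x.2) (fun P hP => by
      obtain ⟨FG, h1, h2⟩ := hcon _ (isPolyFun_pair P) hP
      exact ⟨⟨FG, h2⟩, h1⟩)
  letI : Algebra k O := ((algebraMap k K).codRestrict O.toSubring hkO).toAlgebra
  haveI : IsScalarTower k O K := IsScalarTower.of_algebraMap_eq fun _ => rfl
  let res : O →ₐ[k] IsLocalRing.ResidueField O := IsScalarTower.toAlgHom k O _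
  let val : O →ₐ[k] K := IsScalarTower.toAlgHom k O K
  have hval : Function.Injective val := Subtype.val_injective
  have hh : ∀ x : Fin 2 × {e : Fin (r + 1) →₀ ℕ | e.degree = d}, ∃ m : O,
      res m = algebraMap k _ (mb.repr (![F₀, G₀] x.1) x.2) ∧
      val m = gm fun s => mb.repr (![s.1.1, s.1.2] x.1) x.2 := fun x => by
    obtain ⟨m, hm, hmK⟩ := hcoord x
    refine ⟨m + algebraMap k O (mb.repr (![F₀, G₀] x.1) x.2), ?_, ?_⟩
    · change IsLocalRing.residue O _ = _
      rw [map_add, (IsLocalRing.residue_eq_zero_iff m).2 hm, zero_add]; rfl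
    · change (m : K) + algebraMap k K _ = _
      rw [hmK, sub_add_cancel]
  choose h hhres hhK using hh
  have hwit : ∀ s : α, ∃ (v : Fin (r + 1) → k) (c : Fin 2 → k), v ≠ 0 ∧ c ≠ 0 ∧ eval v s.1.1.1 = 0 ∧
      eval v s.1.2.1 = 0 ∧ ConeSing i (c 0 • s.1.1 + c 1 • s.1.2) v := fun s => by
    have := s.2
    rw [transversal_two_iff_coneSing i hn] at this
    push Not at this
    obtain ⟨v, a, b, hv, hab, hF, hG, hS⟩ := this
    refine ⟨v, ![a, b], hv, fun h0 => ?_, hF, hG, hS⟩
    rcases hab with h1 | h1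
    · exact h1 (congrFun h0 0)
    · exact h1 (congrFun h0 1)
  choose v c hv hc hvF hvG hvS using hwit
  obtain ⟨j, hvj, hxO⟩ := exists_normalize U gm hgm O v (Filter.Eventually.of_forall hv)
  obtain ⟨q, hcq, hcO⟩ := exists_normalize U gm hgm O c (Filter.Eventually.of_forall hc)
  let a : α → Fin r → k := fun s l => (v s j)⁻¹ * v s (j.succAbove l)
  let x : Fin r → O := fun l => ⟨_, hxO (j.succAbove l)⟩
  let w : α → Fin 2 → k := fun s p => (c s q)⁻¹ * c s p
  let W : Fin 2 → O := fun p => ⟨_, hcO p⟩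
  let Hs : α → LefPen.Form r k d := fun s => w s 0 • s.1.1 + w s 1 • s.1.2
  have hev : ∀ᶠ s in U, ConeSing i (Hs s) (ins j (a s)) ∧ eval (a s) (dehomog j s.1.1.1) = 0 ∧
      eval (a s) (dehomog j s.1.2.1) = 0 := by
    filter_upwards [hvj] with s hs
    have hins : ins j (a s) = (v s j)⁻¹ • v s := exists_ins_eq hs
    refine ⟨?_, ?_, ?_⟩
    · have h1 := (coneSing_smul_form i (hvS s) (c s q)⁻¹).smul i (inv_ne_zero hs)
      rw [← hins, smul_add, smul_smul, smul_smul] at h1
      exact h1
    all_goals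
      rw [eval_dehomog, hins, eval_smul ((mem_homogeneousSubmodule _ _).1 (Subtype.prop _))]
      simp [hvF, hvG]
  have hxK : (fun l => val (x l)) = fun l => gm fun s => a s l := rfl
  have hI : ∀ G ∈ chartIdeal i j, aeval x G = 0 := fun G hG => hval (by
    rw [map_aeval_eq, hxK, germ_aeval, map_zero, ← map_zero gm, hgm]
    filter_upwards [hev] with s hs
    exact ((coneSing_iff_chart i (Hs s)).1 hs.1).1 G hG)
  obtain ⟨L, hu, hdet⟩ := exists_locEq_field (n := n) i (fun l => res (x l)) fun G hG => by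
    rw [← map_aeval_eq, hI G hG, map_zero]
  have huK : ∀ᶠ s in U, eval (a s) L.u ≠ 0 := by
    by_contra hcon'
    refine hu ?_
    rw [← map_aeval_eq]
    have : aeval x L.u = 0 := hval (by
      rw [map_aeval_eq, hxK, germ_aeval, map_zero, ← map_zero gm, hgm]
      filter_upwards [Ultrafilter.eventually_not.2 hcon'] with s hs
      simpa using hs)
    rw [this, map_zero]
  let φ := famBasis (k := k) (d := d) j
  -- the identities in the valuation ring, checked in the ring of all families
  let aa : Fin r → α → k := fun l s => a s l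
  let evs : α → ((α → k) →ₐ[k] k) := fun s => Pi.evalAlgHom k (fun _ : α => k) s
  have hpush : ∀ y : α → k, (∀ᶠ s in U, evs s y = 0) → gm y = 0 := fun y hy => by
    rw [← map_zero gm, hgm]
    exact hy
  have hzero : ∀ p : Fin 2, evF φ (fun e => h (p, e)) x = 0 := fun p => hval (by
    rw [map_evF, map_zero, hxK, show (fun e => val (h (p, e))) = fun e => gm fun s => mb.repr (![s.1.1, s.1.2] p) e from
      funext fun e => hhK (p, e), ← map_evF]
    refine hpush _ ?_
    filter_upwards [hev] with s hs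
    rw [map_evF]
    have h1 : eval (a s) (dehomog j (![s.1.1, s.1.2] p).1) = 0 := by fin_cases p <;> simp [hs.2.1, hs.2.2]
    rw [dehomog_eq_sum, ← aeval_eq_eval, evF_const] at h1
    simpa [evs] using h1)
  let hH : {e : Fin (r + 1) →₀ ℕ | e.degree = d} → O := fun e => W 0 * h (0, e) + W 1 * h (1, e)
  have hHK : (fun e => val (hH e)) = fun e => gm fun s => mb.repr (Hs s) e := funext fun e => by
    rw [map_add, map_mul, map_mul, hhK, hhK]
    change gm (fun s => w s 0) * _ + gm (fun s => w s 1) * _ = _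
    rw [← map_mul, ← map_mul, ← map_add]
    congr 1
  have htan : ∀ l, dvF φ hH x (proj L.g L.e x (Pi.single l 1)) = 0 := fun l => hval (by
    rw [map_dvF, map_zero, map_proj, map_single, hHK, hxK, ← map_single gm l, ← map_proj, ← map_dvF]
    refine hpush _ ?_
    filter_upwards [hev, huK] with s hs hs'
    rw [map_dvF, map_proj, map_single]
    obtain ⟨ha, -, ht⟩ := (coneSing_iff_chart i (Hs s)).1 hs.1
    have h1 := ht (proj L.g L.e (a s) (Pi.single l 1)) ((L.chartTan_eq ha hs').2 fun p => dd_proj _ _ _ _ p)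
    rw [dehomog_eq_sum, dvF_const] at h1
    simpa [evs] using h1)
  -- the polynomial system over `k`
  let σ := Fin r ⊕ Fin 2
  let P := MvPolynomial σ k
  let xP : Fin r → P := fun l => MvPolynomial.X (Sum.inl l)
  let tP : Fin 2 → P := fun p => MvPolynomial.X (Sum.inr p)
  let cP : Fin 2 → {e : Fin (r + 1) →₀ ℕ | e.degree = d} → P := fun p e => algebraMap k P (mb.repr (![F₀, G₀] p) e)
  let hP : {e : Fin (r + 1) →₀ ℕ | e.degree = d} → P := fun e => tP 0 * cP 0 e + tP 1 * cP 1 e
  let eqs : (Fin 2 ⊕ Fin r) ⊕ Unit → P := Sum.elim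
    (Sum.elim (fun p => evF φ (cP p) xP) fun l => dvF φ hP xP (proj L.g L.e xP (Pi.single l 1))) fun _ => tP q - 1
  let ξ : σ → IsLocalRing.ResidueField O := Sum.elim (fun l => res (x l)) fun p => res (W p)
  let Ξ : P →ₐ[k] IsLocalRing.ResidueField O := aeval ξ
  have hΞX : ∀ y, Ξ (MvPolynomial.X y) = ξ y := fun y => MvPolynomial.aeval_X ξ y
  have hξx : (fun l => Ξ (xP l)) = fun l => res (x l) := funext fun l => hΞX _
  have hξc : ∀ p, (fun e => Ξ (cP p e)) = fun e => res (h (p, e)) := fun p => funext fun e => by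
    rw [hhres]; exact Ξ.commutes _
  have hξh : (fun e => Ξ (hP e)) = fun e => res (hH e) := funext fun e => by
    simp only [hP, hH, map_add, map_mul, congrFun (hξc 0) e, congrFun (hξc 1) e, tP, hΞX]
    rfl
  have hWq : W q = 1 := Subtype.ext (by
    change gm (fun s => (c s q)⁻¹ * c s q) = 1
    rw [← map_one gm, hgm]
    filter_upwards [hcq] with s hs
    simp [hs])
  have key : aeval ξ (aeval xP (L.u * minorPoly L.g L.e)) = 0 := by
    refine aeval_eq_zero_of_zeros ((chartIdeal i j).map (aeval xP) ⊔ Ideal.span (Set.range eqs))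
      (fun z hz => ?_) ξ (fun G hG => ?_)
    · let ψ : P →ₐ[k] k := aeval z
      let b : Fin r → k := fun l => z (Sum.inl l)
      have hψ : ∀ G, eval z G = ψ G := fun G => (congrFun (aeval_eq_eval z) G).symm
      have hψX : ∀ y, ψ (MvPolynomial.X y) = z y := fun y => MvPolynomial.aeval_X z y
      have hb : (fun l => ψ (xP l)) = b := funext fun l => hψX _
      rw [hψ, map_aeval_eq, hb, aeval_eq_eval]
      by_contra h0
      rw [map_mul] at h0
      have hbI : b ∈ chartPts i j := fun G hG => by
        have := hz _ (Ideal.mem_sup_left (Ideal.mem_map_of_mem (aeval xP) hG))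
        rwa [hψ, map_aeval_eq, hb, aeval_eq_eval] at this
      have he : ∀ o, ψ (eqs o) = 0 := fun o => by
        rw [← hψ]; exact hz _ (Ideal.mem_sup_right (Ideal.subset_span ⟨o, rfl⟩))
      have hψc : ∀ p, (fun e => ψ (cP p e)) = fun e => mb.repr (![F₀, G₀] p) e := fun p =>
        funext fun e => by simp [cP, ψ]
      have hbz : ∀ p, eval b (dehomog j (![F₀, G₀] p).1) = 0 := fun p => by
        have := he (Sum.inl (Sum.inl p))
        simp only [eqs, Sum.elim_inl, map_evF, hb, hψc] at this
        rw [dehomog_eq_sum, ← aeval_eq_eval, evF_const]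
        simpa using this
      let H := z (Sum.inr 0) • F₀ + z (Sum.inr 1) • G₀
      have hψh : (fun e => ψ (hP e)) = fun e => mb.repr H e := funext fun e => by
        simp [hP, H, tP, cP, hψX, map_add, map_smul]
      have hdet' : (minor L.g L.e b).det ≠ 0 := fun h1 => right_ne_zero_of_mul h0 (by
        rw [← aeval_eq_eval, aeval_minorPoly, h1])
      have hS : ConeSing i H (ins j b) := by
        refine (coneSing_iff_chart i H).2 ⟨hbI, ?_, fun y hy => ?_⟩
        · have h1 := hbz 0
          have h2 := hbz 1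
          simp only [Matrix.cons_val_zero, Matrix.cons_val_one] at h1 h2
          simp [H, map_add, MvPolynomial.smul_eq_C_mul, h1, h2]
        · have hy' := (L.chartTan_eq hbI (left_ne_zero_of_mul h0)).1 hy
          have h1 : ∀ l, dd (dehomog j H.1) b (proj L.g L.e b (Pi.single l 1)) = 0 := fun l => by
            have := he (Sum.inl (Sum.inr l))
            simp only [eqs, Sum.elim_inl, Sum.elim_inr, map_dvF, map_proj, map_single, hb, hψh] at this
            rw [dehomog_eq_sum, dvF_const]
            simpa using this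
          have h2 := dd_proj_sum L.g L.e b (dehomog j H.1) y
          simp only [h1, mul_zero, Finset.sum_const_zero, hy', zero_mul, sub_zero] at h2
          exact (mul_eq_zero.1 h2.symm).resolve_left hdet'
      have hq1 : z (Sum.inr q) = 1 := by
        have := he (Sum.inr ())
        simpa [eqs, tP, hψX, sub_eq_zero] using this
      refine (transversal_two_iff_coneSing i hn F₀ G₀).1 h₀ (ins j b) _ _ (ins_ne_zero j b) ?_
        (by rw [← eval_dehomog]; exact hbz 0) (by rw [← eval_dehomog]; exact hbz 1) hS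
      by_contra h3
      push Not at h3
      fin_cases q <;> simp_all
    · refine (sup_le (Ideal.map_le_iff_le_comap.2 fun p hp => ?_) (Ideal.span_le.2 ?_) :
        _ ≤ RingHom.ker (aeval ξ : P →ₐ[k] IsLocalRing.ResidueField O)) hG
      · rw [Ideal.mem_comap, RingHom.mem_ker]
        change Ξ (aeval xP p) = 0
        rw [map_aeval_eq, hξx, ← map_aeval_eq, hI p hp, map_zero]
      · rintro _ ⟨o, rfl⟩
        rw [SetLike.mem_coe, RingHom.mem_ker]
        change Ξ (eqs o) = 0
        rcases o with ((p | l) | _)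
        · simp only [eqs, Sum.elim_inl]
          rw [map_evF, hξx, hξc, ← map_evF, hzero, map_zero]
        · simp only [eqs, Sum.elim_inl, Sum.elim_inr]
          rw [map_dvF, map_proj, map_single, hξx, hξh, ← map_single res l, ← map_proj, ← map_dvF, htan, map_zero]
        · simp only [eqs, Sum.elim_inr]
          simp [tP, hΞX, ξ, hWq]
  change Ξ (aeval xP (L.u * minorPoly L.g L.e)) = 0 at key
  rw [map_aeval_eq, hξx, map_mul, aeval_minorPoly] at key
  exact mul_ne_zero hu hdet key

/-- The Lefschetz pencils form an open set. -/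
theorem isZOpen_isLefschetzPencil [IrreducibleSpace X] (hn : 1 ≤ n) :
    LefPen.IsZOpen k {FG : LefPen.Form r k d × LefPen.Form r k d |
      LefPen.IsLefschetzPencil k n i d FG.1 FG.2} := by
  classical
  haveI : Fintype {e : Fin (r + 1) →₀ ℕ | e.degree = d} := Fintype.ofFinite _
  let mb := Forms.monBasis r k d
  let E := {e : Fin (r + 1) →₀ ℕ | e.degree = d}
  rintro ⟨F₀, G₀⟩ ⟨hind, hbase, hfin, hmem⟩
  obtain ⟨fb, hfb, hfb0, hfbS⟩ := exists_nbhd_baseLocus (n := n) i hn F₀ G₀ hbase
  -- independence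
  obtain ⟨b, hb⟩ := VectorBundles.Elim.exists_det_submatrix_ne_zero
    (Matrix.of fun e p => mb.repr (![F₀, G₀] p) e : Matrix E (Fin 2) k) (fun t ht => by
      refine funext (Fintype.linearIndependent_iff.1 hind t (mb.repr.injective (Finsupp.ext fun e => ?_)))
      have := ht e
      simp only [Matrix.of_apply, Fin.sum_univ_two] at this ⊢
      simp only [map_add, map_smul, map_zero, Finsupp.add_apply, Finsupp.smul_apply, Finsupp.coe_zero,
        Pi.zero_apply, smul_eq_mul]
      linear_combination this)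
  let M : LefPen.Form r k d × LefPen.Form r k d → Matrix (Fin 2) (Fin 2) k := fun FG =>
    Matrix.of fun p p' => mb.repr (![FG.1, FG.2] p') (b p)
  have hfi : LefPen.IsPolyFun k fun FG => (M FG).det := Forms.isPolyFun_det M fun p p' => by
    simpa [M] using isPolyFun_pair (r := r) (k := k) (d := d) (MvPolynomial.X (p', b p))
  have hfi0 : (M (F₀, G₀)).det ≠ 0 := hb
  have hindep : ∀ FG, (M FG).det ≠ 0 → LinearIndependent k ![FG.1, FG.2] := fun FG hdet => by
    refine Fintype.linearIndependent_iff.2 fun t ht => congrFun (Matrix.eq_zero_of_mulVec_eq_zero hdet ?_)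
    funext p
    have := congrArg (fun H => mb.repr H (b p)) ht
    simpa [Matrix.mulVec, dotProduct, M, Fin.sum_univ_two, mul_comm] using this
  -- a transversal member
  obtain ⟨c₀, hc₀⟩ := hfin.exists_notMem
  simp only [Set.mem_ofPred_eq, not_not] at hc₀
  obtain ⟨P₀, hP₀, hP₀S⟩ := exists_coord_poly (isZOpen_transversal (n := n) i hn d) hc₀
  let memb : k → MvPolynomial E k →ₐ[k] MvPolynomial (Fin 2 × E) k := fun c =>
    aeval fun e => MvPolynomial.X (0, e) + C c * MvPolynomial.X (1, e)
  have hmembs : ∀ (c : k) (P : MvPolynomial E k) (F G : LefPen.Form r k d),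
      eval (fun x => mb.repr (![F, G] x.1) x.2) (memb c P) = eval (fun e => mb.repr (F + c • G) e) P :=
    fun c P F G => by
      rw [← aeval_eq_eval, ← aeval_eq_eval, ← AlgHom.comp_apply]
      congr 1
      exact algHom_ext fun e => by simp [memb]
  have hfm : LefPen.IsPolyFun k fun FG : LefPen.Form r k d × LefPen.Form r k d =>
      eval (fun e => mb.repr (FG.1 + c₀ • FG.2) e) P₀ := by
    rw [show (fun FG : LefPen.Form r k d × LefPen.Form r k d =>
      eval (fun e => mb.repr (FG.1 + c₀ • FG.2) e) P₀) =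
      fun FG => eval (fun x => mb.repr (![FG.1, FG.2] x.1) x.2) (memb c₀ P₀) from
      funext fun FG => (hmembs c₀ P₀ FG.1 FG.2).symm]
    exact isPolyFun_pair _
  have hfinite : ∀ F G : LefPen.Form r k d, eval (fun e => mb.repr (F + c₀ • G) e) P₀ ≠ 0 →
      {c : k | ¬ LefPen.Transversal k n 1 (LefPen.secToSpec i ({F + c • G} : Set (LefPen.Form r k d)))}.Finite := by
    intro F G hne
    let q : Polynomial k := aeval (fun e => Polynomial.C (mb.repr F e) + Polynomial.X * Polynomial.C (mb.repr G e)) P₀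
    have hq : ∀ c, q.eval c = eval (fun e => mb.repr (F + c • G) e) P₀ := fun c => by
      rw [← Polynomial.coe_aeval_eq_eval, ← aeval_eq_eval, ← AlgHom.comp_apply]
      congr 1
      exact algHom_ext fun e => by simp; ring
    refine (q.roots.toFinset.finite_toSet).subset fun c hc => ?_
    rw [Finset.mem_coe, Multiset.mem_toFinset, Polynomial.mem_roots fun h0 => hne (by rw [← hq, h0, Polynomial.eval_zero])]
    change q.eval c = 0
    by_contra hqc
    exact hc (hP₀S _ (by rwa [hq] at hqc))
  -- the singular members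
  obtain ⟨fs, hfs, hfs0, hfsS⟩ : ∃ f : LefPen.Form r k d × LefPen.Form r k d → k, LefPen.IsPolyFun k f ∧
      f (F₀, G₀) ≠ 0 ∧ ∀ FG, f FG ≠ 0 → ∀ H ∈ LefPen.members k FG.1 FG.2,
        ¬ LefPen.Transversal k n 1 (LefPen.secToSpec i ({H} : Set (LefPen.Form r k d))) →
          LefPen.OneOrdQuad k n i H := by
    by_contra hcon
    push Not at hcon
    let α := {FG : LefPen.Form r k d × LefPen.Form r k d // ∃ H ∈ LefPen.members k FG.1 FG.2,
      ¬ LefPen.Transversal k n 1 (LefPen.secToSpec i ({H} : Set (LefPen.Form r k d))) ∧ ¬ LefPen.OneOrdQuad k n i H}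
    obtain ⟨K, _, _, U, gm, O, hgs, hgm, hkO, hcoord⟩ :=
      exists_limit (α := α) (σ := Fin 2 × E)
        (fun s x => mb.repr (![s.1.1, s.1.2] x.1) x.2) (fun x => mb.repr (![F₀, G₀] x.1) x.2) (fun P hP => by
        obtain ⟨FG, h1, H, h2, h3⟩ := hcon _ (isPolyFun_pair P) hP
        exact ⟨⟨FG, H, h2, h3⟩, h1⟩)
    letI : Algebra k O := ((algebraMap k K).codRestrict O.toSubring hkO).toAlgebra
    haveI : IsScalarTower k O K := IsScalarTower.of_algebraMap_eq fun _ => rfl
    let res : O →ₐ[k] IsLocalRing.ResidueField O := IsScalarTower.toAlgHom k O _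
    let val : O →ₐ[k] K := IsScalarTower.toAlgHom k O K
    have hval : Function.Injective val := Subtype.val_injective
    have hh : ∀ x : Fin 2 × E, ∃ m : O,
        res m = algebraMap k _ (mb.repr (![F₀, G₀] x.1) x.2) ∧
        val m = gm fun s => mb.repr (![s.1.1, s.1.2] x.1) x.2 := fun x => by
      obtain ⟨m, hm, hmK⟩ := hcoord x
      refine ⟨m + algebraMap k O (mb.repr (![F₀, G₀] x.1) x.2), ?_, ?_⟩
      · change IsLocalRing.residue O _ = _
        rw [map_add, (IsLocalRing.residue_eq_zero_iff m).2 hm, zero_add]; rfl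
      · change (m : K) + algebraMap k K _ = _
        rw [hmK, sub_add_cancel]
    choose h hhres hhK using hh
    -- a family of bad forms whose limit is good is impossible
    have hgood : ∀ (H' : α → LefPen.Form r k d) (P : MvPolynomial E k) (h' : E → O),
        (∀ e, val (h' e) = gm fun s => mb.repr (H' s) e) →
        (∀ H, eval (fun e => mb.repr H e) P ≠ 0 →
          LefPen.Transversal k n 1 (LefPen.secToSpec i ({H} : Set (LefPen.Form r k d))) ∨ LefPen.OneOrdQuad k n i H) →
        (∀ᶠ s in U, ¬ (LefPen.Transversal k n 1 (LefPen.secToSpec i ({H' s} : Set (LefPen.Form r k d))) ∨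
          LefPen.OneOrdQuad k n i (H' s))) →
        aeval (fun e => res (h' e)) P = 0 := by
      intro H' P h' hK hP hbad
      have h0 : aeval h' P = 0 := hval (by
        rw [map_aeval_eq', show (fun e => val (h' e)) = fun e => gm fun s => mb.repr (H' s) e from funext hK,
          ← map_aeval_eq', map_zero, ← map_zero gm, hgm]
        filter_upwards [hbad] with s hs
        by_contra hne
        refine hs (hP _ fun h1 => hne ?_)
        change Pi.evalAlgHom k (fun _ : α => k) s (aeval _ P) = 0
        rw [map_aeval_eq', aeval_eq_eval]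
        exact h1)
      rw [← map_aeval_eq', h0, map_zero]
    obtain ⟨H, hHs, hHT, hHQ⟩ : ∃ H : α → LefPen.Form r k d, (∀ s, H s ∈ LefPen.members k s.1.1 s.1.2) ∧
        (∀ s, ¬ LefPen.Transversal k n 1 (LefPen.secToSpec i ({H s} : Set (LefPen.Form r k d)))) ∧
        ∀ s, ¬ LefPen.OneOrdQuad k n i (H s) :=
      ⟨fun s => s.2.choose, fun s => s.2.choose_spec.1, fun s => s.2.choose_spec.2.1, fun s => s.2.choose_spec.2.2⟩
    have hmk : ∀ s, ∃ c : k, H s = s.1.2 ∨ H s = s.1.1 + c • s.1.2 := fun s => by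
      rcases hHs s with h1 | ⟨c, hc⟩
      · exact ⟨0, Or.inl h1⟩
      · exact ⟨c, Or.inr hc.symm⟩
    choose c hc using hmk
    have good₀ : ∀ H₁ ∈ LefPen.members k F₀ G₀, H₁ ∈ {H : LefPen.Form r k d |
        LefPen.Transversal k n 1 (LefPen.secToSpec i ({H} : Set (LefPen.Form r k d))) ∨ LefPen.OneOrdQuad k n i H} :=
      fun H₁ hH₁ => (Classical.em _).imp_right fun hT => hmem H₁ hH₁ hT
    obtain ⟨PG, hPG, hPGS⟩ := exists_coord_poly (isZOpen_good i hn) (good₀ G₀ (Or.inl rfl))
    have hbadH : ∀ s, ¬ (LefPen.Transversal k n 1 (LefPen.secToSpec i ({H s} : Set (LefPen.Form r k d))) ∨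
        LefPen.OneOrdQuad k n i (H s)) := fun s => not_or.2 ⟨hHT s, hHQ s⟩
    have hG₀ : ∀ (h' : E → O), (∀ e, res (h' e) = algebraMap k _ (mb.repr G₀ e)) →
        aeval (fun e => res (h' e)) PG ≠ 0 := fun h' hr => by
      rw [show (fun e => res (h' e)) = fun e => Algebra.ofId k (IsLocalRing.ResidueField O) (mb.repr G₀ e) from funext hr,
        ← map_aeval_eq', aeval_eq_eval]
      simpa using hPG
    rcases Ultrafilter.em U (fun s => H s = s.1.2) with hG | hF
    · refine hG₀ (fun e => h (1, e)) (fun e => hhres (1, e)) (hgood H PG _ (fun e => ?_) hPGS (Filter.Eventually.of_forall hbadH))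
      rw [hhK, hgm]
      filter_upwards [hG] with s hs
      simp [hs]
    have hF' : ∀ᶠ s in U, H s = s.1.1 + c s • s.1.2 := by
      filter_upwards [hF] with s hs
      exact (hc s).resolve_left hs
    by_cases hcO : gm c ∈ O
    · -- the limit is a member `F₀ + c G₀`
      let C' : O := ⟨gm c, hcO⟩
      let h' : E → O := fun e => h (0, e) + C' * h (1, e)
      have hK : ∀ e, val (h' e) = gm fun s => mb.repr (H s) e := fun e => by
        rw [map_add, map_mul, hhK, hhK]
        change _ + gm c * _ = _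
        rw [← map_mul, ← map_add, hgm]
        filter_upwards [hF'] with s hs
        simp [hs]
      have hr : ∀ e, res (h' e) =
          algebraMap k _ (mb.repr F₀ e) + res C' * algebraMap k _ (mb.repr G₀ e) := fun e => by
        rw [map_add, map_mul, hhres, hhres]
        simp
      have hroot : Polynomial.aeval (res C')
          (aeval (fun e => Polynomial.C (mb.repr F₀ e) + Polynomial.X * Polynomial.C (mb.repr G₀ e)) P₀) = 0 := by
        rw [map_aeval_eq']
        have h0 := hgood H P₀ h' hK (fun H' hH' => Or.inl (hP₀S H' hH')) (Filter.Eventually.of_forall hbadH)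
        rw [show (fun e => res (h' e)) = fun e => Polynomial.aeval (res C')
          (Polynomial.C (mb.repr F₀ e) + Polynomial.X * Polynomial.C (mb.repr G₀ e)) from
          funext fun e => by rw [hr]; simp; ring] at h0
        exact h0
      have hint : IsIntegral k (res C') := IsAlgebraic.isIntegral ⟨_, fun h0 => hP₀ (by
        have h1 := congrArg (Polynomial.eval c₀) h0
        rw [Polynomial.eval_zero, ← Polynomial.coe_aeval_eq_eval, map_aeval_eq', aeval_eq_eval] at h1
        rw [show (fun e => mb.repr (F₀ + c₀ • G₀) e) = fun e => Polynomial.aeval c₀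
          (Polynomial.C (mb.repr F₀ e) + Polynomial.X * Polynomial.C (mb.repr G₀ e)) from funext fun e => by simp; ring]
        exact h1), hroot⟩
      obtain ⟨c₁, hc₁⟩ : res C' ∈ (algebraMap k (IsLocalRing.ResidueField O)).range := by
        have := minpoly.mem_range_of_degree_eq_one k (res C')
          (IsAlgClosed.degree_eq_one_of_irreducible k (minpoly.irreducible hint))
        exact this
      obtain ⟨P₁, hP₁, hP₁S⟩ := exists_coord_poly (isZOpen_good i hn) (good₀ (F₀ + c₁ • G₀) (Or.inr ⟨c₁, rfl⟩))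
      have h1 := hgood H P₁ h' hK hP₁S (Filter.Eventually.of_forall hbadH)
      rw [show (fun e => res (h' e)) = fun e => Algebra.ofId k (IsLocalRing.ResidueField O) (mb.repr (F₀ + c₁ • G₀) e) from
        funext fun e => by rw [hr, ← hc₁]; simp, ← map_aeval_eq', aeval_eq_eval] at h1
      exact hP₁ ((algebraMap k (IsLocalRing.ResidueField O)).injective (h1.trans (map_zero _).symm))
    · -- the limit is `G₀`
      have hc0 : gm c ≠ 0 := fun h0 => hcO (h0 ▸ O.zero_mem)
      have hcne : ∀ᶠ s in U, c s ≠ 0 := by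
        by_contra hne
        refine hc0 ?_
        rw [← map_zero gm, hgm]
        filter_upwards [Ultrafilter.eventually_not.2 hne] with s hs
        simpa using hs
      have hci : gm (fun s => (c s)⁻¹) = (gm c)⁻¹ := by
        refine eq_inv_of_mul_eq_one_left ?_
        rw [← map_mul, ← map_one gm, hgm]
        filter_upwards [hcne] with s hs
        simp [hs]
      have hinv : (gm c)⁻¹ ∈ O := (O.mem_or_inv_mem (gm c)).resolve_left hcO
      let D : O := ⟨_, hinv⟩
      have hD : res D = 0 := (IsLocalRing.residue_eq_zero_iff D).2 fun hu => hcO (by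
        obtain ⟨D', hD'⟩ := hu.exists_right_inv
        have : (D' : K) = gm c := by
          have h1 : (gm c)⁻¹ * (D' : K) = 1 := congrArg Subtype.val hD'
          rw [inv_mul_eq_iff_eq_mul₀ hc0, mul_one] at h1
          exact h1
        exact this ▸ D'.2)
      let h' : E → O := fun e => D * h (0, e) + h (1, e)
      refine hG₀ h' (fun e => by rw [map_add, map_mul, hD, zero_mul, zero_add, hhres]; simp)
        (hgood (fun s => (c s)⁻¹ • H s) PG h' (fun e => ?_) hPGS ?_)
      · rw [map_add, map_mul, hhK, hhK]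
        change (gm c)⁻¹ * _ + _ = _
        rw [← hci, ← map_mul, ← map_add, hgm]
        filter_upwards [hF', hcne] with s hs hs'
        simp [hs, hs', mul_add]
      · filter_upwards [hcne] with s hs
        rintro (hT | hQ)
        · exact hHT s ((transversal_smul_iff i (H s) (inv_ne_zero hs)).1 hT)
        · have := oneOrdQuad_smul i hs hQ
          rw [smul_smul, mul_inv_cancel₀ hs, one_smul] at this
          exact hHQ s this
  refine ⟨fun FG => (M FG).det * fb FG * eval (fun e => mb.repr (FG.1 + c₀ • FG.2) e) P₀ * fs FG,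
    mul_mem (mul_mem (mul_mem hfi hfb) hfm) hfs, mul_ne_zero (mul_ne_zero (mul_ne_zero hfi0 hfb0) hP₀) hfs0, fun FG hne => ?_⟩
  simp only [mul_ne_zero_iff] at hne
  obtain ⟨⟨⟨h1, h2⟩, h3⟩, h4⟩ := hne
  exact ⟨hindep FG h1, hfbS FG h2, hfinite _ _ h3, hfsS FG h4⟩

end Groth.SGA7.Lef
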