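import Groth.Agent.SGA7.Lef.OneQuad

/-!
# A hypersurface with an ordinary quadratic singularity at a given point of `X`
-/

set_option autoImplicit false
set_option linter.style.haveILetI false

universe u

open CategoryTheory CategoryTheory.Limits AlgebraicGeometry Opposite TopologicalSpace
open MvPolynomial
open Groth.SGA7.DualVar

namespace Groth.SGA7.Lef

variable {k : Type u} [Field k]

/-- A non-degenerate quadratic form in any number of variables and in any characteristic. -/
theorem exists_ndQuad : ∀ n : ℕ, ∃ Q : MvPolynomial (Fin n) k, Q.IsHomogeneous 2 ∧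
    ∀ v, eval v Q = 0 → (∀ z, eval (v + z) Q = eval v Q + eval z Q) → v = 0
  | 0 => ⟨0, isHomogeneous_zero _ _ _, fun v _ _ => Subsingleton.elim _ _⟩
  | 1 => ⟨X 0 ^ 2, isHomogeneous_X_pow 0 2, fun v hv _ => funext fun l => by
      rw [Subsingleton.elim l 0]
      simpa using hv⟩
  | n + 2 => by
    obtain ⟨Q, hQ, hnd⟩ := exists_ndQuad n
    let ι : Fin n → Fin (n + 2) := fun l => l.succ.succ
    refine ⟨X 0 * X 1 + rename ι Q, ((isHomogeneous_X k 0).mul (isHomogeneous_X k 1)).add hQ.rename_isHomogeneous,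
      fun v hv hz => ?_⟩
    have he : ∀ w : Fin (n + 2) → k, eval w (X 0 * X 1 + rename ι Q) = w 0 * w 1 + eval (w ∘ ι) Q := fun w => by
      rw [map_add, map_mul, eval_X, eval_X, eval_rename]
    have h0 : constantCoeff Q = 0 := by
      have := DualVar.eval_smul hQ 0 (0 : Fin n → k)
      simpa [eval_zero] using this
    have hs : ∀ p : Fin (n + 2), p = 0 ∨ p = 1 →
        (Pi.single p (1 : k) : Fin (n + 2) → k) ∘ ι = 0 := by
      rintro p hp
      funext l
      refine Pi.single_eq_of_ne (fun h => ?_) _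
      rcases hp with rfl | rfl <;> simp [ι, Fin.ext_iff] at h
    have hv0 : v 0 = 0 := by
      have := hz (Pi.single 1 1)
      rw [he, he, he, show (v + Pi.single 1 1) ∘ ι = v ∘ ι + (Pi.single 1 1 : Fin (n + 2) → k) ∘ ι from rfl,
        hs 1 (Or.inr rfl), add_zero] at this
      simp [eval_zero, h0] at this
      linear_combination this
    have hv1 : v 1 = 0 := by
      have := hz (Pi.single 0 1)
      rw [he, he, he, show (v + Pi.single 0 1) ∘ ι = v ∘ ι + (Pi.single 0 1 : Fin (n + 2) → k) ∘ ι from rfl,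
        hs 0 (Or.inl rfl), add_zero] at this
      simp [eval_zero, h0] at this
      linear_combination this
    rw [he, hv0, zero_mul, zero_add] at hv
    have hrest : v ∘ ι = 0 := hnd _ hv fun z => by
      let z' : Fin (n + 2) → k := Fin.cons 0 (Fin.cons 0 z)
      have hz' : z' ∘ ι = z := funext fun l => by simp [z', ι]
      have := hz z'
      rw [he, he, he, show (v + z') ∘ ι = v ∘ ι + z' ∘ ι from rfl, hz'] at this
      have h1 : z' 1 = 0 := by
        rw [show (1 : Fin (n + 2)) = (0 : Fin (n + 1)).succ from rfl]; simp [z']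
      simp [hv0, hv1, h1] at this
      linear_combination this
    funext l
    refine Fin.cases hv0 (fun l => ?_) l
    refine Fin.cases hv1 (fun l => ?_) l
    exact congrFun hrest l

variable {r : ℕ} {X : Scheme.{u}} (i : X ⟶ CohB1.ProjSpace r k) [IsClosedImmersion i]
variable {n : ℕ} [SmoothOfRelativeDimension n (i ≫ CohB1.ProjSpace.toSpec r k)]

local notation "ℙg" => CohB1.polyGrading r k

/-- A hypersurface with non-degenerate singular point at a given point. -/
theorem exists_form_ndPt {d : ℕ} (hd : 2 ≤ d) {j : Fin (r + 1)} {a : Fin r → k} (ha : a ∈ chartPts i j)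
    (L : LocEq i n j) (hu : eval a L.u ≠ 0) :
    ∃ H : LefPen.Form r k d, eval a (dehomog j H.1) = 0 ∧ (∀ z, dd (dehomog j H.1) a z = 0) ∧
      NDPt L.g (dehomog j H.1) a := by
  classical
  obtain ⟨Q, hQ, hnd⟩ := exists_ndQuad (k := k) n
  let T := chartTan i j a
  have hT : Module.finrank k T = n := finrank_chartTan (n := n) i ((inCone_ins i).2 ha)
  let eT : T ≃ₗ[k] (Fin n → k) := LinearEquiv.ofFinrankEq _ _ (by rw [hT, Module.finrank_pi, Fintype.card_fin])
  obtain ⟨φ, hφ⟩ := LinearMap.exists_extend (eT : T →ₗ[k] (Fin n → k))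
  let C' : Fin n → Fin r → k := fun p l => φ (Pi.single l 1) p
  have hφC : ∀ w p, φ w p = ∑ l, C' p l * w l := fun w p => by
    conv_lhs => rw [pi_eq_sum_univ' w]
    rw [map_sum, Finset.sum_apply]
    exact Finset.sum_congr rfl fun l _ => by rw [map_smul, Pi.smul_apply, smul_eq_mul, mul_comm]
  let Lh : Fin n → MvPolynomial (Fin (r + 1)) k := fun p =>
    ∑ l, MvPolynomial.C (C' p l) * (MvPolynomial.X (j.succAbove l) - MvPolynomial.C (a l) * MvPolynomial.X j)
  have hLh : ∀ p, (Lh p).IsHomogeneous 1 := fun p => IsHomogeneous.sum _ _ _ fun l _ =>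
    ((isHomogeneous_C (Fin (r + 1)) (C' p l)).mul ((isHomogeneous_X k (j.succAbove l)).sub
      ((isHomogeneous_C (Fin (r + 1)) (a l)).mul (isHomogeneous_X k j))) :)
  let H : LefPen.Form r k d := ⟨aeval Lh Q * MvPolynomial.X j ^ (d - 2), (mem_homogeneousSubmodule _ _).2 (by
    have := (hQ.aeval Lh hLh).mul (isHomogeneous_X_pow (R := k) j (d - 2))
    rwa [show 1 * 2 + (d - 2) = d by omega] at this)⟩
  set f := dehomog j H.1
  have hline : ∀ w, line (k := k) a w f = line (k := k) (0 : Fin n → k) (φ w) Q := by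
    intro w
    have hX : dehomog j (MvPolynomial.X j : MvPolynomial (Fin (r + 1)) k) = 1 := by
      simp [dehomog, PlaneCurve.affCoord]
    have hX' : ∀ l, dehomog j (MvPolynomial.X (j.succAbove l) : MvPolynomial (Fin (r + 1)) k) = MvPolynomial.X l :=
      fun l => by simp [dehomog, PlaneCurve.affCoord]
    simp only [f, H, map_mul, map_pow, hX, one_pow, mul_one]
    have : ((line (k := k) a w).comp (dehomog j)).comp (aeval Lh) = line (k := k) (0 : Fin n → k) (φ w) :=
      algHom_ext fun p => by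
        have hC : ∀ t : k, dehomog (r := r) j (MvPolynomial.C t) = MvPolynomial.C t := fun t => by simp [dehomog]
        simp only [AlgHom.comp_apply, aeval_X, Lh, map_sum, map_mul, map_sub, hC, hX, hX', line_C, line_X, map_one, mul_one,
          Pi.zero_apply, map_zero, zero_add, hφC, Finset.mul_sum]
        refine Finset.sum_congr rfl fun l _ => ?_
        simp only [Algebra.algebraMap_self, RingHom.id_apply]
        ring
    exact AlgHom.congr_fun this Q
  have h0 : eval a f = 0 := by
    rw [← aeval_eq_eval, ← coeff_line_zero a (0 : Fin r → k), hline, line_zero_of_isHomogeneous hQ]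
    simp
  have h1 : ∀ z, dd f a z = 0 := fun z => by
    rw [← coeff_line_one, hline, line_zero_of_isHomogeneous hQ]
    simp
  have h2 : ∀ w, qd f a w = eval (φ w) Q := fun w => by
    rw [qd, hline, line_zero_of_isHomogeneous hQ, Polynomial.coeff_X_pow_mul' ]
    simp
  refine ⟨H, h0, h1, fun lam w hlam hw hq hb => ?_⟩
  obtain rfl : lam = 0 := funext fun p => by
    obtain ⟨z, hz⟩ := L.surjective_dd ha hu (Pi.single p 1)
    have := hlam z
    rw [h1] at this
    simpa [hz, Pi.single_apply] using this.symm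
  have hw' : w ∈ T := (L.chartTan_eq ha hu).2 hw
  simp only [Pi.zero_apply, zero_mul, Finset.sum_const_zero, sub_zero] at hq hb
  replace hq : eval (φ w) Q = 0 := (h2 w).symm.trans hq
  have hφT : ∀ z (hz : z ∈ T), φ z = eT ⟨z, hz⟩ := fun z hz => LinearMap.congr_fun hφ ⟨z, hz⟩
  have := hnd (φ w) hq fun z => by
    have hz := (eT.symm z).2
    have hzφ : φ (eT.symm z).1 = z := by rw [hφT _ hz]; exact eT.apply_symm_apply z
    have h := qd_add_right a w (eT.symm z).1 f
    rw [hb _ ((L.chartTan_eq ha hu).1 hz), h2, h2, h2, map_add, hzφ, add_zero] at h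
    exact h
  rw [hφT w hw', LinearEquiv.map_eq_zero_iff] at this
  exact congrArg Subtype.val this

variable [IsAlgClosed k] [IrreducibleSpace X]

include n in
/-- Every closed point is an ordinary quadratic singularity of some section. -/
theorem exists_ordQuadSing_at (hn : 1 ≤ n) {d : ℕ} (hd : 2 ≤ d) (x₀ : X) (hx₀ : IsClosed ({x₀} : Set X)) :
    ∃ (H : LefPen.Form r k d) (y : LefPen.Sec i ({H} : Set (LefPen.Form r k d))),
      LefPen.secι i ({H} : Set (LefPen.Form r k d)) y = x₀ ∧
      LefPen.IsOrdQuadSing k (n - 1) (LefPen.secToSpec i ({H} : Set (LefPen.Form r k d))) y := by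
  classical
  obtain ⟨j, hj⟩ := Opens.mem_iSup.1 (show x₀ ∈ ⨆ j, i ⁻¹ᵁ LefPen.chart r k j by rw [iSup_chart]; trivial)
  have hU : IsAffineOpen (ambOpen i j).1 := (ambOpen i j).2
  haveI := hU.primeIdealOf_isMaximal_of_isClosed ⟨x₀, hj⟩ hx₀
  haveI : ((hU.primeIdealOf ⟨x₀, hj⟩).asIdeal.comap (chartPi i j)).IsMaximal :=
    Ideal.comap_isMaximal_of_surjective _ (chartPi_surjective i j)
  obtain ⟨a, hm⟩ := (MvPolynomial.isMaximal_iff_eq_vanishingIdeal_singleton
    (I := (hU.primeIdealOf ⟨x₀, hj⟩).asIdeal.comap (chartPi i j))).1 inferInstance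
  have hm' : (hU.primeIdealOf ⟨x₀, hj⟩).asIdeal.comap (chartPi i j) = RingHom.ker (eval a) :=
    hm.trans (Ideal.ext fun p => by
      rw [MvPolynomial.mem_vanishingIdeal_singleton_iff, aeval_eq_eval, RingHom.mem_ker])
  have ha : a ∈ chartPts i j := fun p hp => by
    have : p ∈ RingHom.ker (eval a) := hm'.le (by rw [Ideal.mem_comap, show chartPi i j p = 0 from hp]; exact zero_mem _)
    exact this
  obtain ⟨L, hu, hdet⟩ := exists_locEq i n ha
  obtain ⟨H, hf, hd1, hnd⟩ := exists_form_ndPt i hd ha L hu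
  obtain ⟨y, hP⟩ := exists_pointAt (H := H) ha hf
  obtain ⟨m, rfl⟩ : ∃ m, n = m + 1 := ⟨n - 1, by omega⟩
  refine ⟨H, y, ?_, (hP.isOrdQuadSing_iff rfl (le_r i ⟨_, ins_ne_zero j a, (inCone_ins i).2 ha⟩) L hu hdet
    (lam := 0) fun z => by simp [hd1]).2 hnd⟩
  obtain ⟨hy, hP⟩ := hP
  have hcomp := IsAffineOpen.comap_primeIdealOf_appLE (f := LefPen.secι i ({H} : Set (LefPen.Form r k d)))
    (ambOpen i j).1 hU (secOpen i H j).1 (secOpen i H j).2 le_rfl hy
  have hp : hU.primeIdealOf ⟨LefPen.secι i ({H} : Set (LefPen.Form r k d)) y, hy⟩ = hU.primeIdealOf ⟨x₀, hj⟩ := by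
    refine PrimeSpectrum.ext (Ideal.comap_injective_of_surjective _ (chartPi_surjective i j) ?_)
    rw [hm', ← hP, ← hcomp, PrimeSpectrum.comap_asIdeal, Ideal.comap_comap, secPi, Scheme.Hom.app_eq_appLE]
  have := congrArg hU.fromSpec hp
  rwa [hU.fromSpec_primeIdealOf, hU.fromSpec_primeIdealOf] at this

end Groth.SGA7.Lef
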