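import Mathlib

/-!
# Expansion of a polynomial along a line

`line p x w` is `T ↦ p(x + T w)`; its coefficients are the value, the differential `dd` and the
second order part `qd` with polar form `bd`.
-/

set_option autoImplicit false

universe u v

open MvPolynomial

namespace Groth.SGA7.Lef

variable {k : Type u} [CommRing k] {A : Type v} [CommRing A] [Algebra k A] {m : ℕ}

/-- `T ↦ p(x + T w)`. -/
noncomputable def line (x w : Fin m → A) : MvPolynomial (Fin m) k →ₐ[k] Polynomial A :=
  aeval fun l => Polynomial.C (x l) + Polynomial.X * Polynomial.C (w l)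

/-- The differential. -/
noncomputable def dd (p : MvPolynomial (Fin m) k) (x w : Fin m → A) : A :=
  ∑ l, aeval x (pderiv l p) * w l

/-- The second order part. -/
noncomputable def qd (p : MvPolynomial (Fin m) k) (x w : Fin m → A) : A := (line x w p).coeff 2

/-- The polar form of the second order part. -/
noncomputable def bd (p : MvPolynomial (Fin m) k) (x w z : Fin m → A) : A :=
  ∑ l, dd (pderiv l p) x w * z l

section

variable (x w z : Fin m → A)

theorem line_C (a : k) : line x w (C a : MvPolynomial (Fin m) k) = Polynomial.C (algebraMap k A a) := by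
  simp [line, Polynomial.C_eq_algebraMap]

theorem line_X (l : Fin m) :
    line x w (X l : MvPolynomial (Fin m) k) = Polynomial.C (x l) + Polynomial.X * Polynomial.C (w l) := by
  simp [line]

theorem coeff_line_zero (p : MvPolynomial (Fin m) k) : (line x w p).coeff 0 = aeval x p := by
  induction p using MvPolynomial.induction_on with
  | C a => simp [line_C]
  | add p q hp hq => simp [map_add, hp, hq]
  | mul_X p l hp => simp [map_mul, line_X, hp, Polynomial.mul_coeff_zero]

theorem dd_C (a : k) : dd (C a : MvPolynomial (Fin m) k) x w = 0 := by simp [dd]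

theorem dd_zero : dd (0 : MvPolynomial (Fin m) k) x w = 0 := by simp [dd]

theorem dd_add (p q : MvPolynomial (Fin m) k) : dd (p + q) x w = dd p x w + dd q x w := by
  simp [dd, add_mul, Finset.sum_add_distrib]

theorem dd_mul (p q : MvPolynomial (Fin m) k) :
    dd (p * q) x w = aeval x p * dd q x w + dd p x w * aeval x q := by
  simp only [dd, Derivation.leibniz, smul_eq_mul, map_add, map_mul, Finset.mul_sum, Finset.sum_mul,
    ← Finset.sum_add_distrib]
  exact Finset.sum_congr rfl fun l _ => by ring

theorem dd_X (l : Fin m) : dd (X l : MvPolynomial (Fin m) k) x w = w l := by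
  rw [dd, Finset.sum_eq_single l (fun b _ hb => by rw [pderiv_X_of_ne hb.symm, map_zero, zero_mul])
    (by simp), pderiv_X_self, map_one, one_mul]

theorem dd_add_right (p : MvPolynomial (Fin m) k) : dd p x (w + z) = dd p x w + dd p x z := by
  simp [dd, mul_add, Finset.sum_add_distrib]

theorem dd_smul_right (p : MvPolynomial (Fin m) k) (t : A) : dd p x (t • w) = t * dd p x w := by
  simp only [dd, Pi.smul_apply, smul_eq_mul, Finset.mul_sum]
  exact Finset.sum_congr rfl fun l _ => by ring

theorem coeff_line_one (p : MvPolynomial (Fin m) k) : (line x w p).coeff 1 = dd p x w := by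
  induction p using MvPolynomial.induction_on with
  | C a => simp [dd_C]
  | add p q hp hq => simp [map_add, hp, hq, dd_add]
  | mul_X p l hp =>
    rw [map_mul, line_X, mul_add, Polynomial.coeff_add, Polynomial.coeff_mul_C, ← mul_assoc,
      Polynomial.coeff_mul_C, Polynomial.coeff_mul_X, coeff_line_zero, hp, dd_mul, dd_X, aeval_X]
    ring

theorem qd_C (a : k) : qd (C a : MvPolynomial (Fin m) k) x w = 0 := by simp [qd, line_C]

theorem qd_add (p q : MvPolynomial (Fin m) k) : qd (p + q) x w = qd p x w + qd q x w := by
  simp [qd]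

theorem qd_smul (a : k) (p : MvPolynomial (Fin m) k) : qd (a • p) x w = algebraMap k A a * qd p x w := by
  rw [MvPolynomial.smul_eq_C_mul, qd, map_mul, line_C, Polynomial.coeff_C_mul, qd]

theorem qd_mul_X (p : MvPolynomial (Fin m) k) (l : Fin m) :
    qd (p * X l) x w = qd p x w * x l + dd p x w * w l := by
  rw [qd, map_mul, line_X, mul_add, Polynomial.coeff_add, Polynomial.coeff_mul_C, ← mul_assoc,
    Polynomial.coeff_mul_C, Polynomial.coeff_mul_X, coeff_line_one, qd]

theorem qd_mul (p q : MvPolynomial (Fin m) k) :
    qd (p * q) x w = qd p x w * aeval x q + dd p x w * dd q x w + aeval x p * qd q x w := by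
  rw [qd, map_mul, Polynomial.coeff_mul, Finset.Nat.sum_antidiagonal_eq_sum_range_succ
    (fun i j => (line x w p).coeff i * (line x w q).coeff j)]
  simp only [Finset.sum_range_succ, Finset.sum_range_zero, coeff_line_zero, coeff_line_one, qd]
  simp only [Nat.sub_zero, Nat.sub_self, zero_add, coeff_line_zero, show 2 - 1 = 1 from rfl,
    coeff_line_one]
  ring

theorem bd_add (p q : MvPolynomial (Fin m) k) : bd (p + q) x w z = bd p x w z + bd q x w z := by
  simp [bd, dd_add, add_mul, Finset.sum_add_distrib]

theorem bd_mul_X (p : MvPolynomial (Fin m) k) (l : Fin m) :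
    bd (p * X l) x w z = bd p x w z * x l + (dd p x z * w l + dd p x w * z l) := by
  simp only [bd, Derivation.leibniz, smul_eq_mul, dd_add, dd_mul, dd_X, aeval_X, add_mul,
    Finset.sum_add_distrib]
  have e1 : ∑ i, aeval x p * dd (pderiv i (X l : MvPolynomial (Fin m) k)) x w * z i = 0 := by
    refine Finset.sum_eq_zero fun i _ => ?_
    rcases eq_or_ne i l with rfl | h
    · rw [pderiv_X_self, ← C_1, dd_C, mul_zero, zero_mul]
    · rw [pderiv_X_of_ne h.symm, dd_zero, mul_zero, zero_mul]
  have e2 : ∑ i, dd p x w * aeval x (pderiv i (X l : MvPolynomial (Fin m) k)) * z i = dd p x w * z l := by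
    have : ∀ i, dd p x w * aeval x (pderiv i (X l : MvPolynomial (Fin m) k)) * z i =
        dd p x w * (aeval x (pderiv i (X l : MvPolynomial (Fin m) k)) * z i) := fun i => mul_assoc _ _ _
    rw [Finset.sum_congr rfl fun i _ => this i, ← Finset.mul_sum, ← dd, dd_X]
  have e3 : ∑ i, x l * dd (pderiv i p) x w * z i = (∑ i, dd (pderiv i p) x w * z i) * x l := by
    rw [Finset.sum_mul]; exact Finset.sum_congr rfl fun i _ => by ring
  have e4 : ∑ i, w l * aeval x (pderiv i p) * z i = dd p x z * w l := by
    rw [dd, Finset.sum_mul]; exact Finset.sum_congr rfl fun i _ => by ring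
  rw [e1, e2, e3, e4]
  ring

theorem qd_add_right (p : MvPolynomial (Fin m) k) :
    qd p x (w + z) = qd p x w + qd p x z + bd p x w z := by
  induction p using MvPolynomial.induction_on with
  | C a => simp [qd_C, bd, dd_zero]
  | add p q hp hq => rw [qd_add, qd_add, qd_add, bd_add, hp, hq]; ring
  | mul_X p l hp => rw [qd_mul_X, qd_mul_X, qd_mul_X, bd_mul_X, hp, dd_add_right, Pi.add_apply]; ring

theorem qd_smul_right (p : MvPolynomial (Fin m) k) (t : A) : qd p x (t • w) = t ^ 2 * qd p x w := by
  induction p using MvPolynomial.induction_on with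
  | C a => simp [qd_C]
  | add p q hp hq => rw [qd_add, qd_add, hp, hq]; ring
  | mul_X p l hp => rw [qd_mul_X, qd_mul_X, hp, dd_smul_right, Pi.smul_apply, smul_eq_mul]; ring

/-- Expansion to second order. -/
theorem expand_two (p : MvPolynomial (Fin m) k) (t : A) :
    ∃ R, aeval (x + t • w) p = aeval x p + t * dd p x w + t ^ 2 * (qd p x w + t * R) := by
  have h : aeval (x + t • w) p = (line x w p).eval t := by
    rw [← Polynomial.coe_aeval_eq_eval]
    have : aeval (x + t • w) = ((Polynomial.aeval t).restrictScalars k).comp (line (k := k) x w) :=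
      MvPolynomial.algHom_ext fun l => by
        rw [aeval_X, AlgHom.comp_apply, AlgHom.restrictScalars_apply, line_X, Polynomial.coe_aeval_eq_eval]
        simp only [Polynomial.eval_add, Polynomial.eval_C, Polynomial.eval_mul, Polynomial.eval_X,
          Pi.add_apply, Pi.smul_apply, smul_eq_mul]
    exact AlgHom.congr_fun this p
  obtain ⟨R, hR⟩ : Polynomial.X ^ 3 ∣ (line x w p - (Polynomial.C (aeval x p) +
      Polynomial.C (dd p x w) * Polynomial.X + Polynomial.C (qd p x w) * Polynomial.X ^ 2)) := by
    rw [Polynomial.X_pow_dvd_iff]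
    intro d hd
    have h0 := coeff_line_zero x w p
    have h1 := coeff_line_one x w p
    have h2 : (line x w p).coeff 2 = qd p x w := rfl
    generalize line x w p = P at h0 h1 h2 ⊢
    generalize aeval x p = a at h0 ⊢
    interval_cases d <;> simp [h0, h1, h2, Polynomial.coeff_X]
  refine ⟨R.eval t, ?_⟩
  rw [h]
  have := congrArg (Polynomial.eval t) hR
  simp only [Polynomial.eval_sub, Polynomial.eval_add, Polynomial.eval_C, Polynomial.eval_mul,
    Polynomial.eval_X, Polynomial.eval_pow] at this
  linear_combination this

/-- Expansion to first order. -/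
theorem expand_one (p : MvPolynomial (Fin m) k) (t : A) :
    ∃ R, aeval (x + t • w) p = aeval x p + t * (dd p x w + t * R) := by
  obtain ⟨R, hR⟩ := expand_two x w p t
  exact ⟨qd p x w + t * R, by rw [hR]; ring⟩

end

variable {A' : Type*} [CommRing A'] [Algebra k A']

theorem map_aeval_eq (φ : A →ₐ[k] A') (x : Fin m → A) (p : MvPolynomial (Fin m) k) :
    φ (aeval x p) = aeval (fun l => φ (x l)) p :=
  (MvPolynomial.comp_aeval_apply x φ p)

theorem map_dd (φ : A →ₐ[k] A') (p : MvPolynomial (Fin m) k) (x w : Fin m → A) :
    φ (dd p x w) = dd p (fun l => φ (x l)) fun l => φ (w l) := by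
  simp only [dd, map_sum, map_mul, map_aeval_eq]

theorem map_bd (φ : A →ₐ[k] A') (p : MvPolynomial (Fin m) k) (x w z : Fin m → A) :
    φ (bd p x w z) = bd p (fun l => φ (x l)) (fun l => φ (w l)) fun l => φ (z l) := by
  simp only [bd, map_sum, map_mul, map_dd]

theorem map_qd (φ : A →ₐ[k] A') (p : MvPolynomial (Fin m) k) (x w : Fin m → A) :
    φ (qd p x w) = qd p (fun l => φ (x l)) fun l => φ (w l) := by
  induction p using MvPolynomial.induction_on with
  | C a => simp [qd_C]
  | add p q hp hq => rw [qd_add, qd_add, map_add, hp, hq]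
  | mul_X p l hp => rw [qd_mul_X, qd_mul_X, map_add, map_mul, map_mul, hp, map_dd]

section Linear

variable (x w z : Fin m → A)

theorem bd_comm (p : MvPolynomial (Fin m) k) : bd p x w z = bd p x z w := by
  have h1 := qd_add_right x w z p
  have h2 := qd_add_right x z w p
  rw [add_comm z w] at h2
  linear_combination h2 - h1

theorem bd_add_right (p : MvPolynomial (Fin m) k) (u : Fin m → A) :
    bd p x w (z + u) = bd p x w z + bd p x w u := by
  simp [bd, mul_add, Finset.sum_add_distrib]

theorem bd_smul_right (p : MvPolynomial (Fin m) k) (t : A) : bd p x w (t • z) = t * bd p x w z := by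
  simp only [bd, Pi.smul_apply, smul_eq_mul, Finset.mul_sum]
  exact Finset.sum_congr rfl fun l _ => by ring

theorem bd_zero_right (p : MvPolynomial (Fin m) k) : bd p x w 0 = 0 := by simp [bd]

theorem bd_sum_right {α : Type*} (s : Finset α) (p : MvPolynomial (Fin m) k) (u : α → Fin m → A) :
    bd p x w (∑ a ∈ s, u a) = ∑ a ∈ s, bd p x w (u a) := by
  simp only [bd, Finset.sum_apply, Finset.mul_sum]
  exact Finset.sum_comm

/-- The value, differential and second order part are linear in the polynomial. -/
noncomputable def ddL : MvPolynomial (Fin m) k →ₗ[k] A where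
  toFun p := dd p x w
  map_add' p q := dd_add x w p q
  map_smul' a p := by
    simp only [dd, RingHom.id_apply, Finset.smul_sum]
    exact Finset.sum_congr rfl fun l _ => by rw [Derivation.map_smul, map_smul, smul_mul_assoc]

/-- The second order part is linear in the polynomial. -/
noncomputable def qdL : MvPolynomial (Fin m) k →ₗ[k] A where
  toFun p := qd p x w
  map_add' p q := qd_add x w p q
  map_smul' a p := by rw [qd_smul, RingHom.id_apply, Algebra.smul_def]

end Linear

/-- The second order part at the origin of a quadratic form is the form. -/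
theorem qd_zero_of_isHomogeneous_two {p : MvPolynomial (Fin m) k} (hp : p.IsHomogeneous 2)
    (w : Fin m → A) : qd p 0 w = aeval w p := by
  conv_lhs => rw [p.as_sum]
  conv_rhs => rw [p.as_sum]
  rw [qd, map_sum, Polynomial.finsetSum_coeff, map_sum]
  refine Finset.sum_congr rfl fun e he => ?_
  have hd : (∑ l ∈ e.support, e l) = 2 := by
    have := hp (MvPolynomial.mem_support_iff.1 he)
    simpa [Finsupp.weight_apply, Finsupp.sum] using this
  rw [line, aeval_monomial, aeval_monomial, Finsupp.prod, Finsupp.prod]
  simp only [Pi.zero_apply, map_zero, zero_add, mul_pow, Finset.prod_mul_distrib, Finset.prod_pow_eq_pow_sum,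
    hd]
  rw [← Polynomial.algebraMap_eq, IsScalarTower.algebraMap_eq k A (Polynomial A)] at *
  simp only [RingHom.comp_apply, ← map_pow, ← map_prod, Polynomial.algebraMap_eq]
  rw [mul_comm (Polynomial.X ^ 2), ← mul_assoc, ← map_mul, Polynomial.coeff_C_mul_X_pow]
  simp

end Groth.SGA7.Lef
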