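import Groth.Prelude.Def_LefPen
import Groth.Agent.SGA7.PowerSeries
import Groth.Agent.SGA7.Lef.Taylor

/-!
# Quadratic parts of power series

`q2 F v` is the value at `v` of the quadratic part of `F`; `NDser F` says that the quadratic part is
non-degenerate. It is invariant under isomorphisms of the quotients `k[[T]]/(F)`.
-/

set_option autoImplicit false

universe u

open MvPolynomial

namespace Groth.SGA7.Lef

variable {k : Type u} [Field k] {N : ℕ}

/-- The quadratic part of a power series, as a function. -/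
noncomputable def q2 (F : MvPowerSeries (Fin N) k) (v : Fin N → k) : k :=
  qd (MvPowerSeries.truncTotal 3 F) 0 v

/-- The linear part of a power series, as a function. -/
noncomputable def l1 (F : MvPowerSeries (Fin N) k) (v : Fin N → k) : k :=
  dd (MvPowerSeries.truncTotal 3 F) 0 v

/-- The quadratic part is non-degenerate. -/
def NDser (F : MvPowerSeries (Fin N) k) : Prop :=
  ∀ v : Fin N → k, q2 F v = 0 → (∀ z, q2 F (v + z) = q2 F v + q2 F z) → v = 0

/-- The ring of second order jets of a line. -/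
abbrev Jet (k : Type u) [Field k] : Type u := Polynomial k ⧸ Ideal.span {(Polynomial.X : Polynomial k) ^ 3}

/-- The parameter of the jets. -/
noncomputable abbrev eps : Jet k := Ideal.Quotient.mk _ Polynomial.X

theorem eps_cube : (eps : Jet k) ^ 3 = 0 := by
  rw [← map_pow, Ideal.Quotient.eq_zero_iff_mem]
  exact Ideal.mem_span_singleton_self _

theorem eps_coeff {a b c : k} (h : algebraMap k (Jet k) a + eps * algebraMap k (Jet k) b +
    eps ^ 2 * algebraMap k (Jet k) c = 0) : a = 0 ∧ b = 0 ∧ c = 0 := by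
  have h' : (Ideal.Quotient.mk _ (Polynomial.C a + Polynomial.X * Polynomial.C b +
      Polynomial.X ^ 2 * Polynomial.C c) : Jet k) = 0 := by
    rw [map_add, map_add, map_mul, map_mul, map_pow, ← Polynomial.algebraMap_eq]
    exact h
  rw [Ideal.Quotient.eq_zero_iff_mem, Ideal.mem_span_singleton, Polynomial.X_pow_dvd_iff] at h'
  have h0 := h' 0 (by omega)
  have h1 := h' 1 (by omega)
  have h2 := h' 2 (by omega)
  simp [Polynomial.coeff_X] at h0 h1 h2
  exact ⟨h0, h1, h2⟩

theorem idealOfVars_le_ker (v : Fin N → k) : idealOfVars (Fin N) k ^ 3 ≤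
    RingHom.ker ((Ideal.Quotient.mkₐ k (Ideal.span {(Polynomial.X : Polynomial k) ^ 3})).comp
      (line (k := k) (0 : Fin N → k) v)) := by
  intro p hp
  have h1 : (idealOfVars (Fin N) k).map (line (k := k) (0 : Fin N → k) v) ≤ Ideal.span {Polynomial.X} := by
    rw [idealOfVars, Ideal.map_span, Ideal.span_le]
    rintro _ ⟨_, ⟨l, rfl⟩, rfl⟩
    rw [SetLike.mem_coe, Ideal.mem_span_singleton, line_X]
    simp
  have h2 := Ideal.mem_map_of_mem (line (k := k) (0 : Fin N → k) v) hp
  rw [Ideal.map_pow] at h2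
  have h3 := Ideal.pow_right_mono h1 3 h2
  rw [Ideal.span_singleton_pow] at h3
  rw [RingHom.mem_ker, AlgHom.comp_apply, Ideal.Quotient.mkₐ_eq_mk, Ideal.Quotient.eq_zero_iff_mem]
  exact h3

/-- The second order jet along a line through the origin. -/
noncomputable def jet (v : Fin N → k) : MvPowerSeries (Fin N) k →ₐ[k] Jet k :=
  (Ideal.Quotient.liftₐ (idealOfVars (Fin N) k ^ 3)
    ((Ideal.Quotient.mkₐ k (Ideal.span {(Polynomial.X : Polynomial k) ^ 3})).comp
      (line (k := k) (0 : Fin N → k) v)) fun _ ha => idealOfVars_le_ker v ha).comp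
    ((MvPowerSeries.truncTotalAlgHom (Fin N) k 3).restrictScalars k)

theorem jet_eq_line (v : Fin N → k) (F : MvPowerSeries (Fin N) k) :
    jet v F = Ideal.Quotient.mk _ (line (k := k) (0 : Fin N → k) v (MvPowerSeries.truncTotal 3 F)) := rfl

/-- The jet through the coefficient functions. -/
theorem jet_eq (v : Fin N → k) (F : MvPowerSeries (Fin N) k) :
    jet v F = algebraMap k (Jet k) (MvPowerSeries.constantCoeff F) + eps * algebraMap k (Jet k) (l1 F v) +
      eps ^ 2 * algebraMap k (Jet k) (q2 F v) := by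
  rw [jet_eq_line, q2, l1, qd]
  set p := MvPowerSeries.truncTotal 3 F
  have hc : aeval (0 : Fin N → k) p = MvPowerSeries.constantCoeff F := by
    rw [aeval_eq_eval, eval_zero, constantCoeff_eq, MvPowerSeries.coeff_truncTotal _ (by simp)]
    exact MvPowerSeries.coeff_zero_eq_constantCoeff_apply F
  have h0 := coeff_line_zero (0 : Fin N → k) v p
  have h1 := coeff_line_one (0 : Fin N → k) v p
  rw [hc] at h0
  generalize line (k := k) (0 : Fin N → k) v p = P at h0 h1 ⊢
  simp only [← Ideal.Quotient.mk_algebraMap, Polynomial.algebraMap_eq, eps, ← map_mul, ← map_pow, ← map_add]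
  rw [Ideal.Quotient.eq, Ideal.mem_span_singleton, Polynomial.X_pow_dvd_iff]
  intro d hd
  interval_cases d <;> simp [h0, h1, Polynomial.coeff_X]

theorem jet_coe (v : Fin N → k) (p : MvPolynomial (Fin N) k) :
    jet v (p : MvPowerSeries (Fin N) k) = Ideal.Quotient.mk _ (line (k := k) (0 : Fin N → k) v p) := by
  rw [jet_eq_line, Ideal.Quotient.eq]
  have h : MvPowerSeries.truncTotal 3 (p : MvPowerSeries (Fin N) k) - p ∈ idealOfVars (Fin N) k ^ 3 :=
    (mem_pow_idealOfVars_iff' 3 _).mpr fun d hd => by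
      rw [coeff_sub, MvPowerSeries.coeff_truncTotal _ hd, MvPolynomial.coeff_coe, sub_self]
  have := idealOfVars_le_ker v h
  rwa [RingHom.mem_ker, AlgHom.comp_apply, map_sub, Ideal.Quotient.mkₐ_eq_mk, Ideal.Quotient.eq_zero_iff_mem] at this

theorem jet_X (v : Fin N → k) (l : Fin N) :
    jet v (MvPowerSeries.X l) = eps * algebraMap k (Jet k) (v l) := by
  rw [← MvPolynomial.coe_X, jet_coe, line_X, ← Ideal.Quotient.mk_algebraMap, ← map_mul]
  simp

theorem q2_coe (p : MvPolynomial (Fin N) k) (v : Fin N → k) :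
    q2 (p : MvPowerSeries (Fin N) k) v = qd p 0 v ∧ l1 (p : MvPowerSeries (Fin N) k) v = dd p 0 v := by
  have h := jet_eq v (p : MvPowerSeries (Fin N) k)
  rw [jet_coe] at h
  have h2 : (Ideal.Quotient.mk _ (line (k := k) (0 : Fin N → k) v p) : Jet k) =
      algebraMap k (Jet k) (aeval (0 : Fin N → k) p) + eps * algebraMap k (Jet k) (dd p 0 v) +
        eps ^ 2 * algebraMap k (Jet k) (qd p 0 v) := by
    rw [qd]
    have h0 := coeff_line_zero (0 : Fin N → k) v p
    have h1 := coeff_line_one (0 : Fin N → k) v p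
    generalize aeval (0 : Fin N → k) p = a at h0 ⊢
    generalize line (k := k) (0 : Fin N → k) v p = P at h0 h1 ⊢
    simp only [← Ideal.Quotient.mk_algebraMap, Polynomial.algebraMap_eq, eps, ← map_mul, ← map_pow, ← map_add]
    rw [Ideal.Quotient.eq, Ideal.mem_span_singleton, Polynomial.X_pow_dvd_iff]
    intro d hd
    interval_cases d <;> simp [h0, h1, Polynomial.coeff_X]
  rw [h2, ← sub_eq_zero] at h
  have := eps_coeff (a := aeval (0 : Fin N → k) p - MvPowerSeries.constantCoeff (p : MvPowerSeries (Fin N) k))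
    (b := dd p 0 v - l1 (p : MvPowerSeries (Fin N) k) v)
    (c := qd p 0 v - q2 (p : MvPowerSeries (Fin N) k) v) (by rw [← h, map_sub, map_sub, map_sub]; ring)
  exact ⟨(sub_eq_zero.1 this.2.2).symm, (sub_eq_zero.1 this.2.1).symm⟩

/-- Composition, read on jets. -/
theorem aeval_jets {M : ℕ} (p : MvPolynomial (Fin M) k) (l h : Fin M → k) :
    aeval (fun i => eps * algebraMap k (Jet k) (l i) + eps ^ 2 * algebraMap k (Jet k) (h i)) p =
      algebraMap k (Jet k) (aeval (0 : Fin M → k) p) + eps * algebraMap k (Jet k) (dd p 0 l) +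
        eps ^ 2 * algebraMap k (Jet k) (qd p 0 l + dd p 0 h) := by
  let φ : k →ₐ[k] Jet k := Algebra.ofId k (Jet k)
  let L : Fin M → Jet k := fun i => φ (l i)
  let H : Fin M → Jet k := fun i => φ (h i)
  have h0 : (fun _ : Fin M => φ 0) = (0 : Fin M → Jet k) := funext fun _ => map_zero φ
  obtain ⟨R, hR⟩ := expand_two (0 : Fin M → Jet k) (L + (eps : Jet k) • H) p (eps : Jet k)
  have e : (fun i => eps * algebraMap k (Jet k) (l i) + eps ^ 2 * algebraMap k (Jet k) (h i)) =
      (0 : Fin M → Jet k) + (eps : Jet k) • (L + (eps : Jet k) • H) := by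
    funext i
    simp only [Pi.add_apply, Pi.zero_apply, Pi.smul_apply, smul_eq_mul, L, H, φ, Algebra.ofId_apply]
    ring
  have hd1 : dd p (0 : Fin M → Jet k) L = φ (dd p 0 l) := by rw [map_dd]; exact congrArg (fun x => dd p x L) h0.symm
  have hd2 : dd p (0 : Fin M → Jet k) H = φ (dd p 0 h) := by rw [map_dd]; exact congrArg (fun x => dd p x H) h0.symm
  have hq : qd p (0 : Fin M → Jet k) L = φ (qd p 0 l) := by rw [map_qd]; exact congrArg (fun x => qd p x L) h0.symm
  have ha : aeval (0 : Fin M → Jet k) p = φ (aeval (0 : Fin M → k) p) := by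
    rw [map_aeval_eq]; exact congrArg (fun x => aeval x p) h0.symm
  rw [e, hR, dd_add_right, dd_smul_right, qd_add_right, qd_smul_right, bd_smul_right, ha, hd1, hd2, hq, map_add]
  simp only [φ, Algebra.ofId_apply]
  linear_combination (eps * qd p (0 : Fin M → Jet k) H +
    bd p (0 : Fin M → Jet k) L H + R) * (eps_cube (k := k))

theorem jet_eq_zero {v : Fin N → k} {F : MvPowerSeries (Fin N) k} (h : jet v F = 0) :
    MvPowerSeries.constantCoeff F = 0 ∧ l1 F v = 0 ∧ q2 F v = 0 := by
  rw [jet_eq] at h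
  exact eps_coeff h

theorem jet_eq_of_startsInDegTwo {F : MvPowerSeries (Fin N) k} (hF : LefPen.StartsInDegTwo k F) (v : Fin N → k) :
    jet v F = eps ^ 2 * algebraMap k (Jet k) (q2 F v) := by
  have h0 : MvPowerSeries.constantCoeff F = 0 := by
    rw [← MvPowerSeries.coeff_zero_eq_constantCoeff_apply]; exact hF 0 (by simp)
  have h1 : l1 F v = 0 := by
    rw [l1, dd]
    refine Finset.sum_eq_zero fun l _ => ?_
    rw [aeval_eq_eval, eval_zero, constantCoeff_eq, coeff_pderiv]
    rw [zero_add, MvPowerSeries.coeff_truncTotal _ (by simp), hF _ (by simp)]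
    simp
  rw [jet_eq, h0, h1]
  simp

/-- Jets of power series are compositions with the jets of the substituted tuple. -/
theorem jet_hom {M : ℕ} (Φ : MvPowerSeries (Fin M) k →ₐ[k] MvPowerSeries (Fin N) k)
    (hΦ : ∀ F ∈ PS.varIdeal (Fin M) k ^ 3, ∀ v, jet v (Φ F) = 0) (F : MvPowerSeries (Fin M) k) (v : Fin N → k) :
    jet v (Φ F) = aeval (fun i => jet v (Φ (MvPowerSeries.X i))) (MvPowerSeries.truncTotal 3 F) := by
  have h : F - (MvPowerSeries.truncTotal 3 F : MvPolynomial (Fin M) k) ∈ PS.varIdeal (Fin M) k ^ 3 :=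
    PS.mem_varIdeal_pow 3 _ fun d hd => by
      rw [map_sub, MvPolynomial.coeff_coe, MvPowerSeries.coeff_truncTotal _ hd, sub_self]
  have h2 := hΦ _ h v
  rw [map_sub, map_sub, sub_eq_zero] at h2
  rw [h2]
  have : ((jet v).comp Φ).comp (MvPolynomial.coeToMvPowerSeries.algHom k) =
      aeval (fun i => jet v (Φ (MvPowerSeries.X i))) :=
    MvPolynomial.algHom_ext fun i => by simp
  simpa using AlgHom.congr_fun this (MvPowerSeries.truncTotal 3 F)

section Invariance

variable {F G : MvPowerSeries (Fin N) k}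

/-- One direction of the comparison of quadratic parts. -/
theorem exists_compare (hF : LefPen.StartsInDegTwo k F) (hG : LefPen.StartsInDegTwo k G)
    (ψ : (MvPowerSeries (Fin N) k ⧸ Ideal.span {F}) ≃ₐ[k] (MvPowerSeries (Fin N) k ⧸ Ideal.span {G})) :
    ∃ (L : (Fin N → k) → (Fin N → k)) (a : k), (∀ v, q2 F (L v) = a * q2 G v) ∧
      (∀ v i, ∀ r : MvPowerSeries (Fin N) k, Ideal.Quotient.mk _ r = ψ (Ideal.Quotient.mk _ (MvPowerSeries.X i)) →
        L v i = l1 r v) ∧
      ∀ (v : Fin N → k) (H R : MvPowerSeries (Fin N) k), Ideal.Quotient.mk _ R = ψ (Ideal.Quotient.mk _ H) →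
        MvPowerSeries.constantCoeff R = MvPowerSeries.constantCoeff H ∧ l1 R v = l1 H (L v) := by
  classical
  choose r hr using fun i => Ideal.Quotient.mk_surjective (ψ (Ideal.Quotient.mk _ (MvPowerSeries.X i)))
  have hmax : ∀ {G' : MvPowerSeries (Fin N) k}, LefPen.StartsInDegTwo k G' → ∀ H,
      IsUnit (Ideal.Quotient.mk (Ideal.span {G'}) H) ↔ MvPowerSeries.constantCoeff H ≠ 0 := by
    intro G' hG' H
    constructor
    · intro hu h0
      obtain ⟨Z, hZ⟩ := hu.exists_right_inv
      obtain ⟨Z, rfl⟩ := Ideal.Quotient.mk_surjective Z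
      rw [← map_mul, ← map_one (Ideal.Quotient.mk _), Ideal.Quotient.eq, Ideal.mem_span_singleton'] at hZ
      obtain ⟨t, ht⟩ := hZ
      have := congrArg MvPowerSeries.constantCoeff ht
      rw [map_mul, map_sub, map_mul, h0, zero_mul, zero_sub, map_one,
        ← MvPowerSeries.coeff_zero_eq_constantCoeff_apply G', hG' 0 (by simp), mul_zero] at this
      exact one_ne_zero (neg_eq_zero.1 this.symm)
    · exact fun h => ((MvPowerSeries.isUnit_iff_constantCoeff).2 (isUnit_iff_ne_zero.2 h)).map _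
  have hr0 : ∀ i, MvPowerSeries.constantCoeff (r i) = 0 := by
    intro i
    by_contra h
    have h1 := (hmax hG (r i)).2 h
    rw [hr] at h1
    have h2 := h1.map ψ.symm
    rw [AlgEquiv.symm_apply_apply, hmax hF] at h2
    simp at h2
  let L : (Fin N → k) → (Fin N → k) := fun v i => l1 (r i) v
  have hjG : ∀ v t, jet v (t * G) = eps ^ 2 * algebraMap k (Jet k) (MvPowerSeries.constantCoeff t * q2 G v) := by
    intro v t
    rw [map_mul, jet_eq_of_startsInDegTwo hG, jet_eq, map_mul]
    linear_combination (algebraMap k (Jet k) (l1 t v) * algebraMap k (Jet k) (q2 G v) +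
      eps * algebraMap k (Jet k) (q2 t v) * algebraMap k (Jet k) (q2 G v)) * (eps_cube (k := k))
  have hrep : ∀ (H R : MvPowerSeries (Fin N) k), Ideal.Quotient.mk _ R = ψ (Ideal.Quotient.mk _ H) →
      ∃ t, ∀ v, jet v R = algebraMap k (Jet k) (MvPowerSeries.constantCoeff H) +
        eps * algebraMap k (Jet k) (l1 H (L v)) +
        eps ^ 2 * algebraMap k (Jet k) (q2 H (L v) + dd (MvPowerSeries.truncTotal 3 H) 0 (fun i => q2 (r i) v) +
          t * q2 G v) := by
    intro H R hR
    set p := MvPowerSeries.truncTotal 3 H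
    have h3 : ψ (Ideal.Quotient.mk _ (H - p)) ∈
        ((PS.varIdeal (Fin N) k) ^ 3).map (Ideal.Quotient.mk (Ideal.span {G})) := by
      have hv : ((PS.varIdeal (Fin N) k).map (Ideal.Quotient.mk (Ideal.span {F}))).map ψ ≤
          (PS.varIdeal (Fin N) k).map (Ideal.Quotient.mk (Ideal.span {G})) := by
        rw [PS.varIdeal, Ideal.map_span, Ideal.map_span, Ideal.span_le]
        rintro _ ⟨_, ⟨_, ⟨i, rfl⟩, rfl⟩, rfl⟩
        rw [SetLike.mem_coe, ← hr]
        exact Ideal.mem_map_of_mem _ ((PS.mem_varIdeal_iff _).2 (hr0 i))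
      have hm : H - (p : MvPowerSeries (Fin N) k) ∈ PS.varIdeal (Fin N) k ^ 3 :=
        PS.mem_varIdeal_pow 3 _ fun d hd => by
          rw [map_sub, MvPolynomial.coeff_coe, MvPowerSeries.coeff_truncTotal _ hd, sub_self]
      have h1 := Ideal.mem_map_of_mem ψ (Ideal.mem_map_of_mem (Ideal.Quotient.mk (Ideal.span {F})) hm)
      rw [Ideal.map_pow, Ideal.map_pow] at h1
      rw [Ideal.map_pow]
      exact Ideal.pow_right_mono hv 3 h1
    obtain ⟨w, hw, hwe⟩ := (Ideal.mem_map_iff_of_surjective _ Ideal.Quotient.mk_surjective).1 h3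
    have hp : ψ (Ideal.Quotient.mk _ (p : MvPowerSeries (Fin N) k)) = Ideal.Quotient.mk _ (aeval r p) := by
      have : (ψ.toAlgHom.comp (Ideal.Quotient.mkₐ k (Ideal.span {F}))).comp (MvPolynomial.coeToMvPowerSeries.algHom k) =
          (Ideal.Quotient.mkₐ k (Ideal.span {G})).comp (aeval r) :=
        MvPolynomial.algHom_ext fun i => by simp [hr]
      simpa using AlgHom.congr_fun this p
    have hmem : R - aeval r p - w ∈ Ideal.span {G} := by
      rw [← Ideal.Quotient.eq_zero_iff_mem, map_sub, map_sub, hR, ← hp, hwe, ← map_sub ψ, ← map_sub ψ, map_sub (Ideal.Quotient.mk (Ideal.span {F})) H, sub_self, map_zero]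
    obtain ⟨t, ht⟩ := Ideal.mem_span_singleton'.1 hmem
    refine ⟨MvPowerSeries.constantCoeff t, fun v => ?_⟩
    have hjw : jet v w = 0 := by
      have h1 : (PS.varIdeal (Fin N) k).map (jet v) ≤ Ideal.span {(eps : Jet k)} := by
        rw [PS.varIdeal, Ideal.map_span, Ideal.span_le]
        rintro _ ⟨_, ⟨i, rfl⟩, rfl⟩
        rw [SetLike.mem_coe, jet_X, Ideal.mem_span_singleton]
        exact dvd_mul_right _ _
      have h2 := Ideal.mem_map_of_mem (jet v) hw
      rw [Ideal.map_pow] at h2
      have h3 := Ideal.pow_right_mono h1 3 h2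
      rw [Ideal.span_singleton_pow, eps_cube, Ideal.span_singleton_zero] at h3
      exact h3
    have hR' : jet v R = jet v (aeval r p) + jet v (t * G) := by
      rw [show R = aeval r p + w + t * G by rw [ht]; ring, map_add, map_add, hjw, add_zero]
    have hcomp : jet v (aeval r p) = aeval (fun i => jet v (r i)) p := MvPolynomial.comp_aeval_apply r (jet v) p
    have hjr : (fun i => jet v (r i)) =
        fun i => eps * algebraMap k (Jet k) (l1 (r i) v) + eps ^ 2 * algebraMap k (Jet k) (q2 (r i) v) :=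
      funext fun i => by rw [jet_eq, hr0, map_zero, zero_add]
    have hc : aeval (0 : Fin N → k) p = MvPowerSeries.constantCoeff H := by
      rw [aeval_eq_eval, eval_zero, constantCoeff_eq, MvPowerSeries.coeff_truncTotal _ (by simp)]
      exact MvPowerSeries.coeff_zero_eq_constantCoeff_apply H
    rw [hR', hcomp, hjr, aeval_jets, hjG, hc, map_add, map_add]
    show _ + eps * algebraMap k (Jet k) (l1 H (L v)) + eps ^ 2 * (algebraMap k (Jet k) (q2 H (L v)) + _) + _ = _
    rw [map_mul, map_add]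
    ring
  obtain ⟨t, ht⟩ := hrep F 0 (by rw [Ideal.Quotient.eq_zero_iff_mem.2 (Ideal.mem_span_singleton_self F), map_zero, map_zero])
  refine ⟨L, -t, fun v => ?_, fun v i r' hr' => ?_, fun v H R hR => ?_⟩
  · have h := (ht v).symm
    rw [map_zero] at h
    have h2 := (eps_coeff h).2.2
    have hd : dd (MvPowerSeries.truncTotal 3 F) 0 (fun i => q2 (r i) v) = 0 := by
      have := jet_eq_of_startsInDegTwo hF (fun i => q2 (r i) v)
      rw [jet_eq, ← MvPowerSeries.coeff_zero_eq_constantCoeff_apply F, hF 0 (by simp), map_zero, zero_add] at this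
      have h' : algebraMap k (Jet k) 0 + eps * algebraMap k (Jet k) (l1 F fun i => q2 (r i) v) +
          eps ^ 2 * algebraMap k (Jet k) 0 = 0 := by
        rw [map_zero, zero_add, mul_zero, add_zero]
        linear_combination this
      exact (eps_coeff h').2.1
    rw [hd, add_zero] at h2
    linear_combination h2
  · obtain ⟨t1, ht1⟩ := hrep (MvPowerSeries.X i) r' hr'
    obtain ⟨t2, ht2⟩ := hrep (MvPowerSeries.X i) (r i) (hr i)
    have h1 := ht1 v
    have h2 := ht2 v
    rw [jet_eq, ← sub_eq_zero] at h1 h2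
    have e1 := (eps_coeff (a := MvPowerSeries.constantCoeff r' - MvPowerSeries.constantCoeff (MvPowerSeries.X i : MvPowerSeries (Fin N) k))
      (b := l1 r' v - l1 (MvPowerSeries.X i) (L v))
      (c := q2 r' v - (q2 (MvPowerSeries.X i) (L v) + dd (MvPowerSeries.truncTotal 3 (MvPowerSeries.X i)) 0 (fun i => q2 (r i) v) + t1 * q2 G v))
      (by rw [← h1, map_sub, map_sub, map_sub]; ring)).2.1
    have e2 := (eps_coeff (a := MvPowerSeries.constantCoeff (r i) - MvPowerSeries.constantCoeff (MvPowerSeries.X i : MvPowerSeries (Fin N) k))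
      (b := l1 (r i) v - l1 (MvPowerSeries.X i) (L v))
      (c := q2 (r i) v - (q2 (MvPowerSeries.X i) (L v) + dd (MvPowerSeries.truncTotal 3 (MvPowerSeries.X i)) 0 (fun i => q2 (r i) v) + t2 * q2 G v))
      (by rw [← h2, map_sub, map_sub, map_sub]; ring)).2.1
    show l1 (r i) v = l1 r' v
    linear_combination e2 - e1
  · obtain ⟨t1, ht1⟩ := hrep H R hR
    have h1 := ht1 v
    rw [jet_eq, ← sub_eq_zero] at h1
    have e := eps_coeff (a := MvPowerSeries.constantCoeff R - MvPowerSeries.constantCoeff H)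
      (b := l1 R v - l1 H (L v))
      (c := q2 R v - (q2 H (L v) + dd (MvPowerSeries.truncTotal 3 H) 0 (fun i => q2 (r i) v) + t1 * q2 G v))
      (by rw [← h1, map_sub, map_sub, map_sub]; ring)
    exact ⟨sub_eq_zero.1 e.1, sub_eq_zero.1 e.2.1⟩

theorem l1_X (v : Fin N → k) (i : Fin N) : l1 (MvPowerSeries.X i : MvPowerSeries (Fin N) k) v = v i := by
  rw [← MvPolynomial.coe_X, (q2_coe _ v).2, dd_X]

/-- Non-degeneracy only depends on the quotient ring. -/
theorem NDser.of_equiv (hN : 0 < N) (hF : LefPen.StartsInDegTwo k F) (hG : LefPen.StartsInDegTwo k G)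
    (ψ : (MvPowerSeries (Fin N) k ⧸ Ideal.span {F}) ≃ₐ[k] (MvPowerSeries (Fin N) k ⧸ Ideal.span {G}))
    (h : NDser G) : NDser F := by
  obtain ⟨L, a, hq, hl, hrep⟩ := exists_compare hF hG ψ
  obtain ⟨L', a', hq', hl', -⟩ := exists_compare hG hF ψ.symm
  have hinv : ∀ v, L' (L v) = v := fun v => funext fun i => by
    obtain ⟨r', hr'⟩ := Ideal.Quotient.mk_surjective (ψ.symm (Ideal.Quotient.mk _ (MvPowerSeries.X i)))
    have h1 := (hrep v r' (MvPowerSeries.X i) (by rw [hr', AlgEquiv.apply_symm_apply])).2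
    rw [hl' (L v) i r' hr', ← h1, l1_X]
  have hL0 : L 0 = 0 := funext fun i => by
    obtain ⟨r', hr'⟩ := Ideal.Quotient.mk_surjective (ψ (Ideal.Quotient.mk _ (MvPowerSeries.X i)))
    rw [hl 0 i r' hr']
    simp [l1, dd]
  have hLadd : ∀ v z, L (v + z) = L v + L z := fun v z => funext fun i => by
    obtain ⟨r', hr'⟩ := Ideal.Quotient.mk_surjective (ψ (Ideal.Quotient.mk _ (MvPowerSeries.X i)))
    rw [Pi.add_apply, hl _ i r' hr', hl _ i r' hr', hl _ i r' hr', l1, l1, l1, dd_add_right]
  have hbij : Function.Bijective L := by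
    have hinj : Function.Injective L := Function.LeftInverse.injective hinv
    let Lm : (Fin N → k) →ₗ[k] (Fin N → k) :=
      { toFun := L
        map_add' := hLadd
        map_smul' := fun c v => funext fun i => by
          obtain ⟨r', hr'⟩ := Ideal.Quotient.mk_surjective (ψ (Ideal.Quotient.mk _ (MvPowerSeries.X i)))
          rw [Pi.smul_apply, RingHom.id_apply, hl _ i r' hr', hl _ i r' hr', l1, l1, dd_smul_right, smul_eq_mul] }
    exact ⟨hinj, LinearMap.injective_iff_surjective.1 (show Function.Injective Lm from hinj)⟩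
  have ha : a ≠ 0 := by
    rintro rfl
    have hF0 : ∀ v, q2 F v = 0 := fun v => by
      obtain ⟨v', rfl⟩ := hbij.2 v
      rw [hq, zero_mul]
    have hG0 : ∀ v, q2 G v = 0 := fun v => by
      have h1 := hq' (L v)
      rw [hF0, mul_zero, hinv] at h1
      exact h1
    have := h (Pi.single ⟨0, hN⟩ 1) (hG0 _) fun z => by simp only [hG0, add_zero]
    simpa using congrFun this ⟨0, hN⟩
  intro v hv hpol
  obtain ⟨v', rfl⟩ := hbij.2 v
  rw [hq] at hv
  have := h v' ((mul_eq_zero.1 hv).resolve_left ha) fun z => by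
    refine mul_left_cancel₀ ha ?_
    rw [mul_add, ← hq, ← hq, ← hq, hLadd, hpol]
  rw [this, hL0]

end Invariance

end Groth.SGA7.Lef
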