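import Groth.Agent.EtaleDeep.PowerSeriesInverse
import Groth.Agent.SGA7.HypersurfaceCompletion
import Groth.Agent.SGA7.Lef.Series

/-!
# Elimination of the equations of a smooth subvariety from a power series ring
-/

set_option autoImplicit false

universe u v

open MvPolynomial
open Groth.EtaleDeep

namespace Groth.SGA7.Lef

variable {k : Type u} [Field k]

/-- The quadratic form on the tangent space to `g = 0` cut by `f` at a singular point is
non-degenerate. -/
def NDPt {A : Type v} [CommRing A] [Algebra k A] {r c : ℕ} (g : Fin c → MvPolynomial (Fin r) k)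
    (f : MvPolynomial (Fin r) k) (x : Fin r → A) : Prop :=
  ∀ (lam : Fin c → A) (w : Fin r → A), (∀ z, dd f x z = ∑ p, lam p * dd (g p) x z) →
    (∀ p, dd (g p) x w = 0) → qd f x w - ∑ p, lam p * qd (g p) x w = 0 →
    (∀ z, (∀ p, dd (g p) x z = 0) → bd f x w z - ∑ p, lam p * bd (g p) x w z = 0) → w = 0

theorem line_shift {r : ℕ} (a w : Fin r → k) (p : MvPolynomial (Fin r) k) :
    line (k := k) (0 : Fin r → k) w (Hypersurface.shift a p) = line (k := k) a w p := by
  have : (line (k := k) (0 : Fin r → k) w).comp (Hypersurface.shift a) = line (k := k) a w :=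
    MvPolynomial.algHom_ext fun l => by
      simp [line, Hypersurface.shift, -aeval_eq_bind₁, add_comm]
  exact AlgHom.congr_fun this p

theorem qd_shift {r : ℕ} (a w : Fin r → k) (p : MvPolynomial (Fin r) k) :
    qd (Hypersurface.shift a p) 0 w = qd p a w := by rw [qd, qd, line_shift]

theorem dd_shift {r : ℕ} (a w : Fin r → k) (p : MvPolynomial (Fin r) k) :
    dd (Hypersurface.shift a p) 0 w = dd p a w := by rw [← coeff_line_one, ← coeff_line_one, line_shift]

theorem bd_shift {r : ℕ} (a w z : Fin r → k) (p : MvPolynomial (Fin r) k) :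
    bd (Hypersurface.shift a p) 0 w z = bd p a w z := by
  have h1 := qd_add_right (0 : Fin r → k) w z (Hypersurface.shift a p)
  have h2 := qd_add_right a w z p
  simp only [qd_shift] at h1
  linear_combination h2 - h1

theorem ndPt_shift {r c : ℕ} (g : Fin c → MvPolynomial (Fin r) k) (f : MvPolynomial (Fin r) k) (a : Fin r → k) :
    NDPt (fun p => Hypersurface.shift a (g p)) (Hypersurface.shift a f) (0 : Fin r → k) ↔ NDPt g f a := by
  simp only [NDPt, dd_shift, qd_shift, bd_shift]

theorem isUnit_coe {N : ℕ} (p : MvPolynomial (Fin N) k) (h : constantCoeff p ≠ 0) :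
    IsUnit (p : MvPowerSeries (Fin N) k) := by
  rw [MvPowerSeries.isUnit_iff_constantCoeff, ← MvPowerSeries.coeff_zero_eq_constantCoeff_apply,
    MvPolynomial.coeff_coe, ← constantCoeff_eq]
  exact isUnit_iff_ne_zero.2 h

theorem l1_single {N : ℕ} (F : MvPowerSeries (Fin N) k) (l : Fin N) :
    l1 F (Pi.single l 1) = MvPowerSeries.coeff (Finsupp.single l 1) F := by
  classical
  rw [l1, dd, Finset.sum_eq_single l (fun b _ hb => by simp [Pi.single_eq_of_ne hb]) (by simp),
    Pi.single_eq_same, mul_one, aeval_eq_eval, eval_zero, constantCoeff_eq, coeff_pderiv, zero_add,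
    MvPowerSeries.coeff_truncTotal _ (by simp)]
  simp

section Linear

variable {σ : Type*} [Fintype σ] [DecidableEq σ]

/-- The tuple of linear forms of a matrix. -/
noncomputable def linTuple (M : Matrix σ σ k) (i : σ) : MvPowerSeries σ k :=
  ∑ l, MvPowerSeries.C (M i l) * MvPowerSeries.X l

theorem hasSubst_linTuple (M : Matrix σ σ k) : MvPowerSeries.HasSubst (linTuple M) :=
  MvPowerSeries.hasSubst_of_constantCoeff_zero fun i => by simp [linTuple]

theorem subst_linTuple {f : σ → MvPowerSeries σ k} (hf : MvPowerSeries.HasSubst f) (M : Matrix σ σ k) (i : σ) :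
    MvPowerSeries.subst f (linTuple M i) = ∑ l, MvPowerSeries.C (M i l) * f l := by
  rw [linTuple, ← MvPowerSeries.coe_substAlgHom hf, map_sum]
  refine Finset.sum_congr rfl fun l _ => ?_
  rw [MvPowerSeries.coe_substAlgHom hf, PSInverse.subst_C_mul_X hf]

theorem linTuple_one : linTuple (1 : Matrix σ σ k) = MvPowerSeries.X := by
  funext i
  simp [linTuple, Matrix.one_apply, apply_ite MvPowerSeries.C]

theorem subst_linTuple_mul (M M' : Matrix σ σ k) (p : MvPowerSeries σ k) :
    MvPowerSeries.subst (linTuple M') (MvPowerSeries.subst (linTuple M) p) =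
      MvPowerSeries.subst (linTuple (M * M')) p := by
  rw [MvPowerSeries.subst_comp_subst_apply (hasSubst_linTuple M) (hasSubst_linTuple M')]
  congr 1
  funext i
  rw [subst_linTuple (hasSubst_linTuple M'), linTuple]
  simp only [linTuple, Matrix.mul_apply, map_sum, map_mul, Finset.mul_sum, Finset.sum_mul]
  rw [Finset.sum_comm]
  exact Finset.sum_congr rfl fun l _ => Finset.sum_congr rfl fun m _ => by ring

/-- A tuple with invertible linear part gives a bijective substitution. -/
theorem bijective_subst_of_det (f : σ → MvPowerSeries σ k) (hf : ∀ i, MvPowerSeries.constantCoeff (f i) = 0)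
    (M : Matrix σ σ k) (hM : ∀ i l, MvPowerSeries.coeff (Finsupp.single l 1) (f i) = M i l) (hdet : IsUnit M.det) :
    Function.Bijective (MvPowerSeries.subst f : MvPowerSeries σ k → MvPowerSeries σ k) := by
  classical
  let f' : σ → MvPowerSeries σ k := fun i => ∑ p, MvPowerSeries.C (M⁻¹ i p) * f p
  have hf' : ∀ i, (2 : ℕ∞) ≤ (f' i - MvPowerSeries.X i).order := by
    intro i
    refine MvPowerSeries.nat_le_order (n := 2) fun e he => ?_
    rcases Nat.lt_or_ge e.degree 1 with h | h
    · obtain rfl : e = 0 := by rw [← Finsupp.degree_eq_zero_iff]; omega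
      simp [f', hf, MvPowerSeries.coeff_zero_eq_constantCoeff_apply]
    · obtain ⟨l, hl⟩ : ∃ l, Finsupp.single l 1 = e := by
        obtain ⟨l, hl⟩ : ∃ l, e l ≠ 0 := by
          by_contra hcon
          push Not at hcon
          have : e = 0 := Finsupp.ext hcon
          simp [this] at h
        obtain ⟨e', rfl⟩ := exists_add_of_le (Finsupp.single_le_iff.mpr (Nat.one_le_iff_ne_zero.mpr hl))
        refine ⟨l, ?_⟩
        have : e' = 0 := by
          rw [← Finsupp.degree_eq_zero_iff]; simp at he ⊢; omega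
        rw [this, add_zero]
      subst hl
      have h1 : ∑ p, M⁻¹ i p * M p l = (1 : Matrix σ σ k) i l := by
        rw [← Matrix.nonsing_inv_mul M hdet, Matrix.mul_apply]
      simp only [f', map_sub, map_sum, MvPowerSeries.coeff_C_mul, hM, h1, MvPowerSeries.coeff_X,
        Matrix.one_apply, Finsupp.single_left_inj one_ne_zero]
      rcases eq_or_ne i l with rfl | hne
      · simp
      · simp [hne, hne.symm]
  have hs' := PSInverse.hasSubst_of_two_le f' hf'
  have hfactor : ∀ p : MvPowerSeries σ k, MvPowerSeries.subst f p = MvPowerSeries.subst f' (MvPowerSeries.subst (linTuple M) p) := by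
    intro p
    rw [MvPowerSeries.subst_comp_subst_apply (hasSubst_linTuple M) hs']
    congr 1
    funext i
    rw [subst_linTuple hs']
    simp only [f', Finset.mul_sum, ← mul_assoc, ← map_mul]
    rw [Finset.sum_comm]
    simp only [← Finset.sum_mul, ← map_sum, ← Matrix.mul_apply, Matrix.mul_nonsing_inv M hdet, Matrix.one_apply]
    simp [apply_ite MvPowerSeries.C]
  rw [show (MvPowerSeries.subst f : MvPowerSeries σ k → MvPowerSeries σ k) =
    MvPowerSeries.subst f' ∘ MvPowerSeries.subst (linTuple M) from funext hfactor]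
  refine (PSInverse.bijective_subst_of_sub_X f' hf').comp (Function.bijective_iff_has_inverse.2
    ⟨MvPowerSeries.subst (linTuple M⁻¹), fun p => ?_, fun p => ?_⟩)
  · rw [subst_linTuple_mul, Matrix.mul_nonsing_inv M hdet, linTuple_one, MvPowerSeries.subst_self, id_eq]
  · rw [subst_linTuple_mul, Matrix.nonsing_inv_mul M hdet, linTuple_one, MvPowerSeries.subst_self, id_eq]

end Linear

/-- An algebra map preserving the ideal of the variables preserves its powers. -/
theorem map_varIdeal_pow_le {N M : ℕ} (Φ : MvPowerSeries (Fin N) k →ₐ[k] MvPowerSeries (Fin M) k)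
    (h : ∀ l, MvPowerSeries.constantCoeff (Φ (MvPowerSeries.X l)) = 0) (s : ℕ) :
    (PS.varIdeal (Fin N) k ^ s).map Φ ≤ PS.varIdeal (Fin M) k ^ s := by
  rw [Ideal.map_pow]
  refine Ideal.pow_right_mono ?_ s
  rw [PS.varIdeal, Ideal.map_span, Ideal.span_le]
  rintro _ ⟨_, ⟨l, rfl⟩, rfl⟩
  exact (PS.mem_varIdeal_iff _).2 (h l)

variable {r c n : ℕ}

/-- Setting the eliminated variables to zero has the expected kernel. -/
theorem exists_restrict (e : Fin c → Fin r) (o : Fin n → Fin r) (heo : Function.Bijective (Sum.elim e o)) :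
    ∃ ρ : MvPowerSeries (Fin r) k →ₐ[k] MvPowerSeries (Fin n) k, Function.Surjective ρ ∧
      RingHom.ker ρ = Ideal.span (Set.range fun q => (MvPowerSeries.X (e q) : MvPowerSeries (Fin r) k)) ∧
      (∀ q, ρ (MvPowerSeries.X (e q)) = 0) ∧ ∀ i, ρ (MvPowerSeries.X (o i)) = MvPowerSeries.X i := by
  classical
  let E := Equiv.ofBijective _ heo
  let T : Fin r → MvPowerSeries (Fin n) k := fun l => Sum.elim (fun _ => 0) MvPowerSeries.X (E.symm l)
  have hT0 : ∀ l, MvPowerSeries.constantCoeff (T l) = 0 := fun l => by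
    rcases hE : E.symm l with q | i <;> simp [T, hE]
  have hT := MvPowerSeries.hasSubst_of_constantCoeff_zero hT0
  let ρ : MvPowerSeries (Fin r) k →ₐ[k] MvPowerSeries (Fin n) k := MvPowerSeries.substAlgHom hT
  have hS0 : ∀ i, MvPowerSeries.constantCoeff (MvPowerSeries.X (o i) : MvPowerSeries (Fin r) k) = 0 := fun i => by simp
  have hS := MvPowerSeries.hasSubst_of_constantCoeff_zero hS0
  let ι : MvPowerSeries (Fin n) k →ₐ[k] MvPowerSeries (Fin r) k := MvPowerSeries.substAlgHom hS
  have hρX : ∀ l, ρ (MvPowerSeries.X l) = T l := fun l => by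
    simp only [ρ, MvPowerSeries.coe_substAlgHom hT, MvPowerSeries.subst_X hT]
  have hιX : ∀ i, ι (MvPowerSeries.X i) = MvPowerSeries.X (o i) := fun i => by
    simp only [ι, MvPowerSeries.coe_substAlgHom hS, MvPowerSeries.subst_X hS]
  have hρe : ∀ q, ρ (MvPowerSeries.X (e q)) = 0 := fun q => by
    have : E.symm (e q) = Sum.inl q := by rw [Equiv.symm_apply_eq]; rfl
    rw [hρX]; simp [T, this]
  have hρo : ∀ i, ρ (MvPowerSeries.X (o i)) = MvPowerSeries.X i := fun i => by
    have : E.symm (o i) = Sum.inr i := by rw [Equiv.symm_apply_eq]; rfl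
    rw [hρX]; simp [T, this]
  refine ⟨ρ, fun y => ⟨ι y, ?_⟩, le_antisymm (fun x hx => ?_) (Ideal.span_le.2 ?_), hρe, hρo⟩
  · simp only [ρ, ι, MvPowerSeries.coe_substAlgHom, MvPowerSeries.subst_comp_subst_apply hS hT]
    have : (fun i => MvPowerSeries.subst T (MvPowerSeries.X (o i) : MvPowerSeries (Fin r) k)) = MvPowerSeries.X := by
      funext i
      rw [← hρo i]
      simp only [ρ, MvPowerSeries.coe_substAlgHom]
    rw [this, MvPowerSeries.subst_self, id_eq]
  · set K := Ideal.span (Set.range fun q => (MvPowerSeries.X (e q) : MvPowerSeries (Fin r) k))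
    rw [RingHom.mem_ker] at hx
    have hn : ∀ s, x ∈ K ⊔ PS.varIdeal (Fin r) k ^ s := by
      intro s
      let p := MvPowerSeries.truncTotal s x
      have hw : x - (p : MvPowerSeries (Fin r) k) ∈ PS.varIdeal (Fin r) k ^ s :=
        PS.mem_varIdeal_pow s _ fun d hd => by
          rw [map_sub, MvPolynomial.coeff_coe, MvPowerSeries.coeff_truncTotal _ hd, sub_self]
      have hw' : ι (ρ (x - (p : MvPowerSeries (Fin r) k))) ∈ PS.varIdeal (Fin r) k ^ s :=
        map_varIdeal_pow_le ι (fun i => by rw [hιX]; simp) s (Ideal.mem_map_of_mem ι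
          (map_varIdeal_pow_le ρ (fun l => by rw [hρX]; exact hT0 l) s (Ideal.mem_map_of_mem ρ hw)))
      have hp : (p : MvPowerSeries (Fin r) k) - ι (ρ (p : MvPowerSeries (Fin r) k)) ∈ K := by
        rw [← Ideal.Quotient.eq]
        have : (Ideal.Quotient.mkₐ k K).comp (MvPolynomial.coeToMvPowerSeries.algHom k) =
            ((Ideal.Quotient.mkₐ k K).comp (ι.comp ρ)).comp (MvPolynomial.coeToMvPowerSeries.algHom k) :=
          MvPolynomial.algHom_ext fun l => by
            simp only [AlgHom.comp_apply, MvPolynomial.coeToMvPowerSeries.algHom_apply, MvPolynomial.coe_X,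
              Ideal.Quotient.mkₐ_eq_mk, Algebra.algebraMap_self, MvPowerSeries.map_id, RingHom.id_apply]
            obtain ⟨q | i, rfl⟩ := E.surjective l
            · simp only [E, Equiv.ofBijective_apply, Sum.elim_inl, hρe, map_zero, Ideal.Quotient.eq_zero_iff_mem]
              exact Ideal.subset_span ⟨q, rfl⟩
            · simp only [E, Equiv.ofBijective_apply, Sum.elim_inr, hρo, hιX]
        simpa using AlgHom.congr_fun this p
      rw [show x = ((p : MvPowerSeries (Fin r) k) - ι (ρ (p : MvPowerSeries (Fin r) k))) +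
        ((x - (p : MvPowerSeries (Fin r) k)) - ι (ρ (x - (p : MvPowerSeries (Fin r) k)))) by
          rw [map_sub, map_sub, hx, map_zero]; ring]
      exact Submodule.add_mem_sup hp (sub_mem hw hw')
    have h5 := Ideal.iInf_pow_smul_eq_bot_of_le_jacobson (M := MvPowerSeries (Fin r) k ⧸ K)
      (PS.varIdeal (Fin r) k) (by rw [← PS.maximalIdeal_eq]; exact IsLocalRing.maximalIdeal_le_jacobson _)
    have h6 : Ideal.Quotient.mk K x ∈
        (⨅ i : ℕ, PS.varIdeal (Fin r) k ^ i • ⊤ : Submodule (MvPowerSeries (Fin r) k) _) := by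
      refine Submodule.mem_iInf _ |>.mpr fun s => ?_
      obtain ⟨a, ha, b, hb, e⟩ := Submodule.mem_sup.mp (hn s)
      rw [← e, map_add, Ideal.Quotient.eq_zero_iff_mem.mpr ha, zero_add, ← mul_one b, map_mul]
      exact Submodule.smul_mem_smul hb (Submodule.mem_top (x := (1 : MvPowerSeries (Fin r) k ⧸ K)))
    rw [h5, Submodule.mem_bot] at h6
    exact Ideal.Quotient.eq_zero_iff_mem.mp h6
  · rintro _ ⟨q, rfl⟩
    exact hρe q

/-- The tangent data of the eliminated equations. -/
theorem exists_hypersurface (hrc : r = c + n) (g : Fin c → MvPolynomial (Fin r) k) (f : MvPolynomial (Fin r) k)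
    (hg : ∀ p, constantCoeff (g p) = 0) (e : Fin c → Fin r)
    (he : (Matrix.of fun q p => eval (0 : Fin r → k) (pderiv (e q) (g p))).det ≠ 0) :
    ∃ (F : MvPowerSeries (Fin n) k) (L : (Fin n → k) →ₗ[k] (Fin r → k)),
      Function.Injective L ∧ (∀ v p, dd (g p) 0 (L v) = 0) ∧
      (∀ w, (∀ p, dd (g p) 0 w = 0) → w ∈ LinearMap.range L) ∧
      Nonempty ((MvPowerSeries (Fin r) k ⧸ ((Ideal.span (Set.range g) ⊔ Ideal.span {f}).map
          MvPolynomial.coeToMvPowerSeries.ringHom)) ≃ₐ[k] (MvPowerSeries (Fin n) k ⧸ Ideal.span {F})) ∧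
      MvPowerSeries.constantCoeff F = constantCoeff f ∧ (∀ v, l1 F v = dd f 0 (L v)) ∧
      ∀ v (lam : Fin c → k), (∀ z, dd f 0 z = ∑ p, lam p * dd (g p) 0 z) →
        q2 F v = qd f 0 (L v) - ∑ p, lam p * qd (g p) 0 (L v) := by
  classical
  have hinj : Function.Injective e := by
    intro p q hpq
    by_contra hne
    exact he (Matrix.det_zero_of_row_eq hne (funext fun l => by simp [hpq]))
  have hcard : (Finset.univ.image e)ᶜ.card = n := by
    rw [Finset.card_compl, Finset.card_image_of_injective _ hinj, Finset.card_univ, Fintype.card_fin,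
      Fintype.card_fin]
    omega
  let o : Fin n → Fin r := fun i => (Finset.univ.image e)ᶜ.orderEmbOfFin hcard i
  have ho : ∀ i q, o i ≠ e q := fun i q h => by
    have := Finset.orderEmbOfFin_mem (Finset.univ.image e)ᶜ hcard i
    rw [Finset.mem_compl] at this
    exact this (by rw [Finset.mem_image]; exact ⟨q, Finset.mem_univ _, h.symm⟩)
  have heo : Function.Bijective (Sum.elim e o) := by
    rw [Fintype.bijective_iff_injective_and_card]
    refine ⟨Function.Injective.sumElim hinj ((Finset.univ.image e)ᶜ.orderEmbOfFin hcard).injective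
      fun q i => (ho i q).symm, by simp [hrc]⟩
  obtain ⟨ρ, hρs, hρk, hρe, hρo⟩ := exists_restrict (k := k) e o heo
  let E := Equiv.ofBijective _ heo
  let G : Fin r → MvPowerSeries (Fin r) k := fun l =>
    Sum.elim (fun q => (g q : MvPowerSeries (Fin r) k)) (fun i => MvPowerSeries.X (o i)) (E.symm l)
  have hEe : ∀ q, E.symm (e q) = Sum.inl q := fun q => by rw [Equiv.symm_apply_eq]; rfl
  have hEo : ∀ i, E.symm (o i) = Sum.inr i := fun i => by rw [Equiv.symm_apply_eq]; rfl
  have hG0 : ∀ l, MvPowerSeries.constantCoeff (G l) = 0 := fun l => by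
    rcases hE : E.symm l with q | i
    · simp only [G, hE, Sum.elim_inl]
      rw [← MvPowerSeries.coeff_zero_eq_constantCoeff_apply, MvPolynomial.coeff_coe, ← constantCoeff_eq, hg]
    · simp [G, hE]
  let M : Matrix (Fin r) (Fin r) k := Matrix.of fun i l => l1 (G i) (Pi.single l 1)
  have hMv : ∀ w l, M.mulVec w l = l1 (G l) w := by
    intro w l
    have h : ∀ p : MvPolynomial (Fin r) k, dd p 0 w = ∑ m, dd p 0 (Pi.single m 1 : Fin r → k) * w m := by
      intro p
      simp [dd, Pi.single_apply]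
    rw [l1, h]
    rfl
  have hGe : ∀ q v, l1 (G (e q)) v = dd (g q) 0 v := fun q v => by
    simp only [G, hEe, Sum.elim_inl]; exact (q2_coe (g q) v).2
  have hGo : ∀ i v, l1 (G (o i)) v = v (o i) := fun i v => by
    simp only [G, hEo, Sum.elim_inr]; exact l1_X v (o i)
  have hker0 : ∀ w : Fin r → k, (∀ p, dd (g p) 0 w = 0) → (∀ i, w (o i) = 0) → w = 0 := by
    intro w h1 h2
    have h3 : (fun q => w (e q)) = 0 := by
      refine Matrix.eq_zero_of_vecMul_eq_zero he (funext fun p => ?_)
      rw [Matrix.vecMul, dotProduct, Pi.zero_apply, ← h1 p, dd]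
      rw [← (Equiv.ofBijective _ heo).sum_comp, Fintype.sum_sum_type,
        Finset.sum_eq_zero (s := (Finset.univ : Finset (Fin n))) (f := fun i => _) fun i _ => by
          simp only [Equiv.ofBijective_apply, Sum.elim_inr, h2, mul_zero], add_zero]
      exact Finset.sum_congr rfl fun q _ => by
        simp only [Equiv.ofBijective_apply, Sum.elim_inl, Matrix.of_apply, aeval_eq_eval]; ring
    funext l
    obtain ⟨q | i, rfl⟩ := E.surjective l
    · exact congrFun h3 q
    · exact h2 i
  have hdet : IsUnit M.det := by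
    rw [isUnit_iff_ne_zero]
    intro h0
    obtain ⟨w, hw, hw0⟩ := Matrix.exists_mulVec_eq_zero_iff.2 h0
    refine hw (hker0 w (fun p => ?_) fun i => ?_)
    · rw [← hGe, ← hMv, hw0]; rfl
    · rw [← hGo i w, ← hMv, hw0]; rfl
  have hGs := MvPowerSeries.hasSubst_of_constantCoeff_zero hG0
  let σ := (PSInverse.substEquiv G hGs
    (bijective_subst_of_det G hG0 M (fun i l => (l1_single (G i) l).symm) hdet))
  have hσX : ∀ l, σ (MvPowerSeries.X l) = G l := fun l => by
    rw [PSInverse.substEquiv_apply, MvPowerSeries.subst_X hGs]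
  let Φ : MvPowerSeries (Fin r) k →ₐ[k] MvPowerSeries (Fin n) k := ρ.comp σ.symm.toAlgHom
  have hΦs : Function.Surjective Φ := hρs.comp σ.symm.surjective
  have hΦg : ∀ q, Φ (g q : MvPowerSeries (Fin r) k) = 0 := fun q => by
    have : σ.symm (g q : MvPowerSeries (Fin r) k) = MvPowerSeries.X (e q) := by
      rw [AlgEquiv.symm_apply_eq, hσX]; simp [G, hEe]
    exact (congrArg ρ this).trans (hρe q)
  have hΦo : ∀ i, Φ (MvPowerSeries.X (o i)) = MvPowerSeries.X i := fun i => by
    have : σ.symm (MvPowerSeries.X (o i)) = MvPowerSeries.X (o i) := by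
      rw [AlgEquiv.symm_apply_eq, hσX]; simp [G, hEo]
    exact (congrArg ρ this).trans (hρo i)
  have hΦk : ∀ x, Φ x = 0 → x ∈ Ideal.span (Set.range fun q => (g q : MvPowerSeries (Fin r) k)) := by
    intro x hx
    have h1 : σ.symm x ∈ RingHom.ker ρ := hx
    rw [hρk] at h1
    have h2 := Ideal.mem_map_of_mem σ.toAlgHom h1
    rw [Ideal.map_span, ← Set.range_comp] at h2
    have h3 : (σ.toAlgHom ∘ fun q => (MvPowerSeries.X (e q) : MvPowerSeries (Fin r) k)) =
        fun q => (g q : MvPowerSeries (Fin r) k) := funext fun q => by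
      change σ (MvPowerSeries.X (e q)) = _
      rw [hσX]; simp [G, hEe]
    rw [h3] at h2
    simpa using h2
  have hΦ0 : ∀ l, MvPowerSeries.constantCoeff (Φ (MvPowerSeries.X l)) = 0 := by
    intro l
    by_contra h
    have hu : IsUnit (Φ (MvPowerSeries.X l)) := MvPowerSeries.isUnit_iff_constantCoeff.2 (isUnit_iff_ne_zero.2 h)
    obtain ⟨y, hy⟩ := hu.exists_right_inv
    obtain ⟨y, rfl⟩ := hΦs y
    have h1 := hΦk (MvPowerSeries.X l * y - 1) (by rw [map_sub, map_mul, hy, map_one, sub_self])
    have h2 : Ideal.span (Set.range fun q => (g q : MvPowerSeries (Fin r) k)) ≤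
        RingHom.ker (MvPowerSeries.constantCoeff (σ := Fin r) (R := k)) := Ideal.span_le.2 (by
      rintro _ ⟨q, rfl⟩
      rw [SetLike.mem_coe, RingHom.mem_ker, ← MvPowerSeries.coeff_zero_eq_constantCoeff_apply,
        MvPolynomial.coeff_coe, ← constantCoeff_eq, hg])
    have := h2 h1
    simp [RingHom.mem_ker] at this
  let L : (Fin n → k) →ₗ[k] (Fin r → k) :=
    { toFun := fun v l => l1 (Φ (MvPowerSeries.X l)) v
      map_add' := fun v z => funext fun l => by rw [Pi.add_apply, l1, l1, l1, dd_add_right]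
      map_smul' := fun t v => funext fun l => by
        rw [RingHom.id_apply, Pi.smul_apply, l1, l1, dd_smul_right, smul_eq_mul] }
  have hjet : ∀ (p : MvPolynomial (Fin r) k) v, jet v (Φ (p : MvPowerSeries (Fin r) k)) =
      algebraMap k (Jet k) (aeval (0 : Fin r → k) p) + eps * algebraMap k (Jet k) (dd p 0 (L v)) +
        eps ^ 2 * algebraMap k (Jet k) (qd p 0 (L v) + dd p 0 fun l => q2 (Φ (MvPowerSeries.X l)) v) := by
    intro p v
    have h1 : ((jet v).comp Φ).comp (MvPolynomial.coeToMvPowerSeries.algHom k) =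
        aeval (fun l => jet v (Φ (MvPowerSeries.X l))) := MvPolynomial.algHom_ext fun l => by simp
    have h2 : jet v (Φ (p : MvPowerSeries (Fin r) k)) = aeval (fun l => jet v (Φ (MvPowerSeries.X l))) p := by
      simpa using AlgHom.congr_fun h1 p
    rw [h2, ← aeval_jets]
    congr 2
    funext l
    rw [jet_eq, hΦ0, map_zero, zero_add]
    rfl
  have hcoef : ∀ (p : MvPolynomial (Fin r) k) v,
      MvPowerSeries.constantCoeff (Φ (p : MvPowerSeries (Fin r) k)) = aeval (0 : Fin r → k) p ∧
      l1 (Φ (p : MvPowerSeries (Fin r) k)) v = dd p 0 (L v) ∧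
      q2 (Φ (p : MvPowerSeries (Fin r) k)) v = qd p 0 (L v) + dd p 0 fun l => q2 (Φ (MvPowerSeries.X l)) v := by
    intro p v
    have h := hjet p v
    rw [jet_eq, ← sub_eq_zero] at h
    have := eps_coeff (a := MvPowerSeries.constantCoeff (Φ (p : MvPowerSeries (Fin r) k)) - aeval (0 : Fin r → k) p)
      (b := l1 (Φ (p : MvPowerSeries (Fin r) k)) v - dd p 0 (L v))
      (c := q2 (Φ (p : MvPowerSeries (Fin r) k)) v - (qd p 0 (L v) + dd p 0 fun l => q2 (Φ (MvPowerSeries.X l)) v))
      (by rw [← h, map_sub, map_sub, map_sub]; ring)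
    exact ⟨sub_eq_zero.1 this.1, sub_eq_zero.1 this.2.1, sub_eq_zero.1 this.2.2⟩
  have hgq : ∀ v p, dd (g p) 0 (L v) = 0 ∧
      qd (g p) 0 (L v) + dd (g p) 0 (fun l => q2 (Φ (MvPowerSeries.X l)) v) = 0 := fun v p => by
    have h := hcoef (g p) v
    rw [hΦg] at h
    have h1 : l1 (0 : MvPowerSeries (Fin n) k) v = 0 := by simp [l1, dd]
    have h2 : q2 (0 : MvPowerSeries (Fin n) k) v = 0 := by simp [q2, qd]
    exact ⟨h.2.1.symm.trans h1, h.2.2.symm.trans h2⟩
  have hLo : ∀ v i, L v (o i) = v i := fun v i => by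
    change l1 (Φ (MvPowerSeries.X (o i))) v = v i
    rw [hΦo, l1_X]
  refine ⟨Φ (f : MvPowerSeries (Fin r) k), L, fun v z h => funext fun i => ?_, fun v p => (hgq v p).1,
    fun w hw => ⟨fun i => w (o i), sub_eq_zero.1 (hker0 _ (fun p => ?_) fun i => ?_)⟩, ?_,
    ((hcoef f 0).1).trans (by rw [aeval_eq_eval, eval_zero]), fun v => (hcoef f v).2.1, fun v lam hlam => ?_⟩
  · rw [← hLo v i, h, hLo]
  · rw [sub_eq_add_neg, dd_add_right, show (-w) = (-1 : k) • w by simp, dd_smul_right, (hgq _ p).1, hw]
    ring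
  · rw [Pi.sub_apply, hLo, sub_self]
  · let Ψ := (Ideal.Quotient.mkₐ k (Ideal.span {Φ (f : MvPowerSeries (Fin r) k)})).comp Φ
    have hker : RingHom.ker Ψ = (Ideal.span (Set.range g) ⊔ Ideal.span {f}).map
        MvPolynomial.coeToMvPowerSeries.ringHom := by
      rw [Ideal.map_sup, Ideal.map_span, Ideal.map_span, ← Set.range_comp, Set.image_singleton]
      refine le_antisymm (fun x hx => ?_) (sup_le (Ideal.span_le.2 ?_) (Ideal.span_le.2 ?_))
      · simp only [RingHom.mem_ker, Ψ, AlgHom.comp_apply, Ideal.Quotient.mkₐ_eq_mk, Ideal.Quotient.eq_zero_iff_mem,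
          Ideal.mem_span_singleton'] at hx
        obtain ⟨t, ht⟩ := hx
        obtain ⟨t, rfl⟩ := hΦs t
        rw [show x = (x - t * (f : MvPowerSeries (Fin r) k)) + t * (f : MvPowerSeries (Fin r) k) by ring]
        exact Submodule.add_mem_sup (hΦk _ (by rw [map_sub, map_mul, ht, sub_self]))
          (Ideal.mul_mem_left _ t (Ideal.subset_span rfl))
      · rintro _ ⟨q, rfl⟩
        simp only [SetLike.mem_coe, RingHom.mem_ker, Ψ, AlgHom.comp_apply, Function.comp_apply,
          MvPolynomial.coeToMvPowerSeries.ringHom_apply, hΦg, map_zero]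
      · rintro _ rfl
        simp only [SetLike.mem_coe, RingHom.mem_ker, Ψ, AlgHom.comp_apply, MvPolynomial.coeToMvPowerSeries.ringHom_apply,
          Ideal.Quotient.mkₐ_eq_mk, Ideal.Quotient.eq_zero_iff_mem]
        exact Ideal.subset_span rfl
    exact ⟨(Ideal.quotientEquivAlgOfEq k hker.symm).trans (Ideal.quotientKerAlgEquivOfSurjective
      (f := Ψ) (Ideal.Quotient.mk_surjective.comp hΦs))⟩
  · rw [(hcoef f v).2.2, hlam, sub_eq_add_neg, ← Finset.sum_neg_distrib]
    congr 1
    refine Finset.sum_congr rfl fun p _ => ?_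
    linear_combination lam p * (hgq v p).2

end Groth.SGA7.Lef
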