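import Groth.Agent.SGA7.Lef.Quadric
import Groth.Agent.SGA7.Lef.Completion
import Groth.Agent.SGA7.Lef.Elim

/-!
# The local ring of a hypersurface section of a smooth affine variety at a rational point

It is smooth away from singular points of the section, and at a singular point it is an ordinary
quadratic singularity if and only if the second fundamental form is non-degenerate.
-/

set_option autoImplicit false
set_option linter.style.haveILetI false

universe u

open MvPolynomial
open Groth.SGA7.DualVar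
open scoped TensorProduct

namespace Groth.SGA7.Lef

variable {k : Type u} [Field k]

/-- A rational point and a tangent vector give a derivation of the local ring. -/
theorem exists_extend {B : Type u} [CommRing B] [Algebra k B] (M : Submonoid B) (S : Type u) [CommRing S]
    [Algebra k S] [Algebra B S] [IsScalarTower k B S] [IsLocalization M S] (c : B →ₐ[k] k)
    (hc : ∀ s ∈ M, c s ≠ 0) {D : B →ₗ[k] k} (hD : D ∈ pDer c) :
    ∃ (cS : S →ₐ[k] k) (E : S →ₗ[k] k), (∀ b, cS (algebraMap B S b) = c b) ∧ E ∈ pDer cS ∧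
      ∀ b, E (algebraMap B S b) = D b := by
  have h1 : D 1 = 0 := by
    have := hD 1 1
    simp only [mul_one, map_one, one_mul] at this
    exact left_eq_add.1 this
  let φ : B →ₐ[k] DualNumber k :=
    { toFun := fun b => TrivSqZeroExt.inl (c b) + TrivSqZeroExt.inr (D b)
      map_one' := by ext <;> simp [h1]
      map_mul' := fun a b => by
        ext
        · simp
        · simp [mem_pDer.1 hD]; ring
      map_zero' := by ext <;> simp
      map_add' := fun a b => by ext <;> simp
      commutes' := fun t => by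
        ext
        · simp [TrivSqZeroExt.algebraMap_eq_inl]
        · simp [TrivSqZeroExt.algebraMap_eq_inl, Algebra.algebraMap_eq_smul_one, h1] }
  have hu : ∀ s : M, IsUnit (φ s) := fun s => by
    rw [TrivSqZeroExt.isUnit_iff_isUnit_fst]
    simpa [φ] using hc _ s.2
  let ψ : S →ₐ[k] DualNumber k := IsLocalization.liftAlgHom hu
  have hψ : ∀ b, ψ (algebraMap B S b) = φ b := fun b => IsLocalization.lift_eq hu b
  refine ⟨(TrivSqZeroExt.fstHom k k k).comp ψ, (TrivSqZeroExt.sndHom k k).restrictScalars k ∘ₗ ψ.toLinearMap,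
    fun b => by simp [hψ, φ], fun a b => ?_, fun b => by simp [hψ, φ]⟩
  simp [TrivSqZeroExt.snd_mul]
  ring

/-- If `B/(h)` is smooth and `h` has zero differential at a zero, then `h` vanishes near it. -/
theorem exists_annihilator {B : Type u} [CommRing B] [Algebra k B] [Algebra.FormallySmooth k B]
    [Module.Finite B Ω[B⁄k]]
    (h : B) [Algebra.FormallySmooth k (B ⧸ Ideal.span {h})] (c : B →ₐ[k] k) (hc : c h = 0)
    (hD : ∀ D ∈ pDer c, D h = 0) : ∃ u : B, c u ≠ 0 ∧ u * h = 0 := by
  classical
  let S := B ⧸ Ideal.span {h}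
  have hsurj : Function.Surjective (algebraMap B S) := Ideal.Quotient.mk_surjective
  obtain ⟨σ, hσ⟩ := (Algebra.FormallySmooth.iff_split_injection (R := k) hsurj).1 inferInstance
  obtain ⟨N, ret, sec, -, -, hsec⟩ := Module.Finite.exists_comp_eq_id_of_projective B Ω[B⁄k]
  let dh := KaehlerDifferential.D k B h
  have hmem : h ∈ RingHom.ker (algebraMap B S) :=
    RingHom.mem_ker.2 (Ideal.Quotient.eq_zero_iff_mem.2 (Ideal.mem_span_singleton_self h))
  have hker : RingHom.ker (algebraMap B S) = Ideal.span {h} := Ideal.mk_ker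
  have hs : ∀ j, c (sec dh j) = 0 := fun j => by
    refine hD { toFun := fun b => c (sec (KaehlerDifferential.D k B b) j), map_add' := fun a b => ?_, map_smul' := fun t b => ?_ } fun a b => ?_
    · rw [map_add, map_add, Pi.add_apply, map_add]
    · rw [Derivation.map_smul, ← algebraMap_smul B t, map_smul, Pi.smul_apply, smul_eq_mul, map_mul,
        c.commutes, RingHom.id_apply, smul_eq_mul, Algebra.algebraMap_self, RingHom.id_apply]
    · simp only [LinearMap.coe_mk, AddHom.coe_mk, Derivation.leibniz, map_add, map_smul, Pi.add_apply,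
        Pi.smul_apply, smul_eq_mul, map_mul]
  have hz : ∀ j : Fin N, ∃ z, (RingHom.ker (algebraMap B S)).toCotangent ⟨z * h,
      Ideal.mul_mem_left _ z hmem⟩ = σ (1 ⊗ₜ ret (Pi.single j 1)) := fun j => by
    obtain ⟨⟨w, hw⟩, hw'⟩ := Ideal.toCotangent_surjective _ (σ (1 ⊗ₜ ret (Pi.single j 1)))
    obtain ⟨z, rfl⟩ := Ideal.mem_span_singleton'.1 (hker ▸ hw)
    exact ⟨z, hw'⟩
  choose z hz using hz
  have h1 : (RingHom.ker (algebraMap B S)).toCotangent ⟨h, hmem⟩ =
      ∑ j, sec dh j • (RingHom.ker (algebraMap B S)).toCotangent ⟨z j * h, Ideal.mul_mem_left _ (z j) hmem⟩ := by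
    have e1 : (1 : S) ⊗ₜ[B] dh = ∑ j, sec dh j • ((1 : S) ⊗ₜ[B] ret (Pi.single j 1)) := by
      have e2 : dh = ∑ j, sec dh j • ret (Pi.single j 1) := by
        conv_lhs => rw [show dh = ret (sec dh) from (LinearMap.congr_fun hsec _).symm, pi_eq_sum_univ (sec dh)]
        rw [map_sum]
        refine Finset.sum_congr rfl fun j _ => ?_
        rw [map_smul]
        congr 2
        funext l
        simp [Pi.single_apply, eq_comm]
      conv_lhs => rw [e2]
      rw [TensorProduct.tmul_sum]
      exact Finset.sum_congr rfl fun j _ => TensorProduct.tmul_smul _ _ _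
    have e3 := LinearMap.congr_fun hσ ((RingHom.ker (algebraMap B S)).toCotangent ⟨h, hmem⟩)
    rw [LinearMap.comp_apply, KaehlerDifferential.kerCotangentToTensor_toCotangent, LinearMap.id_apply] at e3
    rw [← e3, e1, map_sum]
    refine Finset.sum_congr rfl fun j _ => ?_
    rw [map_smul, hz]
  simp only [← map_smul, ← map_sum] at h1
  rw [Ideal.toCotangent_eq] at h1
  have h2 : h - ∑ j, sec dh j * (z j * h) ∈ Ideal.span {h * h} := by
    rw [← Ideal.span_singleton_mul_span_singleton, ← hker, ← pow_two]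
    simpa [AddSubmonoidClass.coe_finsetSum] using h1
  obtain ⟨w, hw⟩ := Ideal.mem_span_singleton'.1 h2
  refine ⟨1 - ∑ j, sec dh j * z j - w * h, ?_, ?_⟩
  · simp [map_sum, hs, hc]
  · have e4 : (∑ j, sec dh j * z j) * h = ∑ j, sec dh j * (z j * h) := by
      rw [Finset.sum_mul]; exact Finset.sum_congr rfl fun j _ => mul_assoc _ _ _
    rw [sub_mul, sub_mul, one_mul, e4, mul_assoc]
    exact sub_eq_zero.2 hw.symm

variable {r : ℕ} (I : Ideal (MvPolynomial (Fin r) k)) (f : MvPolynomial (Fin r) k)
  {B : Type u} [CommRing B] [Algebra k B] (π : MvPolynomial (Fin r) k →ₐ[k] B) (hπ : Function.Surjective π)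
  (hker : RingHom.ker π = I ⊔ Ideal.span {f})
  (a : Fin r → k) (ha : ∀ G ∈ I, eval a G = 0) (hf : eval a f = 0)
  (q : Ideal B) [q.IsPrime] (hq : q.comap π = RingHom.ker (eval a))
  (O : Type u) [CommRing O] [Algebra k O] [Algebra B O] [IsScalarTower k B O] [IsLocalization.AtPrime O q]

/-- The rational point on the quotient. -/
noncomputable def evalQuot : (MvPolynomial (Fin r) k ⧸ I) →ₐ[k] k :=
  Ideal.Quotient.liftₐ I (aeval a) fun G hG => by rw [aeval_eq_eval]; exact ha G hG

theorem evalQuot_mk (p : MvPolynomial (Fin r) k) : evalQuot I a ha (Ideal.Quotient.mk I p) = eval a p := by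
  rw [← aeval_eq_eval]; rfl

/-- The prime of the rational point. -/
noncomputable abbrev evalPrime : Ideal (MvPolynomial (Fin r) k ⧸ I) := RingHom.ker (evalQuot I a ha)

instance : (evalPrime I a ha).IsPrime := RingHom.ker_isPrime _

include hπ hker ha hq in
/-- The local ring of the ambient variety, onto the local ring of the section. -/
theorem exists_ambient (OX : Type u) [CommRing OX] [Algebra k OX] [Algebra (MvPolynomial (Fin r) k ⧸ I) OX]
    [IsScalarTower k (MvPolynomial (Fin r) k ⧸ I) OX] [IsLocalization.AtPrime OX (evalPrime I a ha)] :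
    Nonempty ((OX ⧸ Ideal.span {algebraMap (MvPolynomial (Fin r) k ⧸ I) OX (Ideal.Quotient.mk I f)}) ≃ₐ[k] O) := by
  let BX := MvPolynomial (Fin r) k ⧸ I
  let ρ : BX →ₐ[k] B := Ideal.Quotient.liftₐ I π fun G hG =>
    (hker.ge (Ideal.mem_sup_left hG) : G ∈ RingHom.ker π)
  have hρs : Function.Surjective ρ := fun b => by
    obtain ⟨p, rfl⟩ := hπ b
    exact ⟨Ideal.Quotient.mk I p, rfl⟩
  let qX := evalPrime I a ha
  have hqX : ∀ x, x ∈ qX ↔ ρ x ∈ q := fun x => by
    obtain ⟨p, rfl⟩ := Ideal.Quotient.mk_surjective x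
    rw [RingHom.mem_ker, evalQuot_mk]
    exact (SetLike.ext_iff.1 hq p).symm
  have hu : ∀ s : qX.primeCompl, IsUnit (((IsScalarTower.toAlgHom k B O).comp ρ) s) := fun s =>
    IsLocalization.map_units O (⟨ρ s, fun h => s.2 ((hqX _).2 h)⟩ : q.primeCompl)
  let Φ : OX →ₐ[k] O := IsLocalization.liftAlgHom hu
  have hΦ : ∀ x, Φ (algebraMap BX OX x) = algebraMap B O (ρ x) := fun x => IsLocalization.lift_eq hu x
  have hΦs : Function.Surjective Φ := by
    intro y
    obtain ⟨b, ⟨t, ht⟩, rfl⟩ := IsLocalization.exists_mk'_eq q.primeCompl y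
    obtain ⟨b, rfl⟩ := hρs b
    obtain ⟨t, rfl⟩ := hρs t
    refine ⟨IsLocalization.mk' OX b (⟨t, fun h => ht ((hqX _).1 h)⟩ : qX.primeCompl), ?_⟩
    rw [IsLocalization.eq_mk'_iff_mul_eq]
    dsimp only
    have hsp := IsLocalization.mk'_spec OX b (⟨t, fun h => ht ((hqX _).1 h)⟩ : qX.primeCompl)
    dsimp only at hsp
    rw [← hΦ t, ← map_mul, hsp, hΦ]
  have hρk : ∀ x, ρ x = 0 → x ∈ Ideal.span {Ideal.Quotient.mk I f} := by
    intro x hx
    obtain ⟨p, rfl⟩ := Ideal.Quotient.mk_surjective x
    have : p ∈ I ⊔ Ideal.span {f} := hker.le hx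
    obtain ⟨G, hG, y, hy, rfl⟩ := Submodule.mem_sup.1 this
    obtain ⟨t, rfl⟩ := Ideal.mem_span_singleton'.1 hy
    rw [map_add, Ideal.Quotient.eq_zero_iff_mem.2 hG, zero_add, map_mul]
    exact Ideal.mul_mem_left _ _ (Ideal.mem_span_singleton_self _)
  have hk : RingHom.ker Φ = Ideal.span {algebraMap BX OX (Ideal.Quotient.mk I f)} := by
    refine le_antisymm (fun x hx => ?_) (Ideal.span_le.2 ?_)
    · obtain ⟨b, s, rfl⟩ := IsLocalization.exists_mk'_eq qX.primeCompl x
      rw [RingHom.mem_ker] at hx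
      have h1 : algebraMap B O (ρ b) = 0 := by
        rw [← hΦ, ← IsLocalization.mk'_spec OX b s, map_mul, hx, zero_mul]
      obtain ⟨⟨t, ht⟩, ht'⟩ := (IsLocalization.map_eq_zero_iff q.primeCompl O _).1 h1
      obtain ⟨t, rfl⟩ := hρs t
      have h2 := hρk (t * b) (by rw [map_mul]; exact ht')
      have h3 : algebraMap BX OX t * algebraMap BX OX b ∈
          Ideal.span {algebraMap BX OX (Ideal.Quotient.mk I f)} := by
        rw [← map_mul, ← Set.image_singleton, ← Ideal.map_span]
        exact Ideal.mem_map_of_mem _ h2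
      rw [Ideal.unit_mul_mem_iff_mem _ (IsLocalization.map_units OX (⟨t, fun h => ht ((hqX _).1 h)⟩ : qX.primeCompl))] at h3
      rw [IsLocalization.mk'_eq_mul_mk'_one b s]
      exact Ideal.mul_mem_right _ _ h3
    · rintro _ rfl
      have hf0 : π f = 0 := hker.ge (Ideal.mem_sup_right (Ideal.mem_span_singleton_self f))
      rw [SetLike.mem_coe, RingHom.mem_ker, hΦ, show ρ (Ideal.Quotient.mk I f) = π f from rfl, hf0, map_zero]
  exact ⟨(Ideal.quotientEquivAlgOfEq k hk.symm).trans (Ideal.quotientKerAlgEquivOfSurjective hΦs)⟩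

include hπ hker ha hq in
/-- Away from singular points the section is smooth. -/
theorem formallySmooth_of_nonSing (OX : Type u) [CommRing OX] [Algebra k OX]
    [Algebra (MvPolynomial (Fin r) k ⧸ I) OX] [IsScalarTower k (MvPolynomial (Fin r) k ⧸ I) OX]
    [IsLocalization.AtPrime OX (evalPrime I a ha)]
    [Algebra.Smooth k (MvPolynomial (Fin r) k ⧸ I)] {w : Fin r → k}
    (hw : ∀ G ∈ I, dd G a w = 0) (hfw : dd f a w ≠ 0) : Algebra.FormallySmooth k O := by
  classical
  let qX := evalPrime I a ha
  set BX := MvPolynomial (Fin r) k ⧸ I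
  haveI : IsLocalization.AtPrime OX qX := inferInstanceAs (IsLocalization.AtPrime OX (evalPrime I a ha))
  haveI : Algebra.FormallyEtale BX OX := Algebra.FormallyEtale.of_isLocalization qX.primeCompl
  haveI : Algebra.EssFiniteType BX OX := Algebra.EssFiniteType.of_isLocalization OX qX.primeCompl
  haveI : IsLocalRing OX := IsLocalization.AtPrime.isLocalRing OX qX
  obtain ⟨e⟩ := exists_ambient I f π hπ hker a ha q hq O OX
  haveI : Algebra.FormallySmooth k OX := Algebra.FormallySmooth.comp k BX OX
  haveI : Algebra.EssFiniteType k OX := Algebra.EssFiniteType.comp k BX OX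
  set h := algebraMap BX OX (Ideal.Quotient.mk I f)
  have hc : ∀ s ∈ qX.primeCompl, evalQuot I a ha s ≠ 0 := fun s hs => hs
  let L : MvPolynomial (Fin r) k →ₗ[k] k := ddL a w
  let D : BX →ₗ[k] k := (I.restrictScalars k).liftQ L fun p hp => hw p hp
  have hD : D ∈ pDer (evalQuot I a ha) := by
    intro x y
    obtain ⟨x, rfl⟩ := Ideal.Quotient.mk_surjective x
    obtain ⟨y, rfl⟩ := Ideal.Quotient.mk_surjective y
    rw [evalQuot_mk, evalQuot_mk]
    change dd (x * y) a w = eval a x * dd y a w + eval a y * dd x a w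
    rw [dd_mul, aeval_eq_eval]
    ring
  obtain ⟨cS, E, -, hE, hEb⟩ := exists_extend qX.primeCompl OX (evalQuot I a ha) hc hD
  obtain ⟨N, ret, sec, -, -, hsec⟩ := Module.Finite.exists_comp_eq_id_of_projective OX Ω[OX⁄k]
  obtain ⟨j, hj⟩ : ∃ j, IsUnit (sec (KaehlerDifferential.D k OX h) j) := by
    by_contra hcon
    push Not at hcon
    letI : Algebra OX k := cS.toRingHom.toAlgebra
    haveI : IsScalarTower k OX k := IsScalarTower.of_algebraMap_eq fun t => (cS.commutes t).symm
    let E' : Derivation k OX k := Derivation.mk' E fun x y => hE x y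
    apply hfw
    have h0 : KaehlerDifferential.D k OX h = ret (sec (KaehlerDifferential.D k OX h)) :=
      (LinearMap.congr_fun hsec _).symm
    calc dd f a w = E h := (hEb (Ideal.Quotient.mk I f)).symm
      _ = E'.liftKaehlerDifferential (ret (sec (KaehlerDifferential.D k OX h))) := by
        rw [← h0, Derivation.liftKaehlerDifferential_comp_D]; rfl
      _ = 0 := by
        rw [pi_eq_sum_univ (sec (KaehlerDifferential.D k OX h)), map_sum, map_sum]
        refine Finset.sum_eq_zero fun l _ => ?_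
        rw [map_smul, map_smul, Algebra.smul_def]
        have : algebraMap OX k (sec (KaehlerDifferential.D k OX h) l) = 0 := by
          have hm : sec (KaehlerDifferential.D k OX h) l ∈ IsLocalRing.maximalIdeal OX := hcon l
          have hk : IsLocalRing.maximalIdeal OX = RingHom.ker cS :=
            (IsLocalRing.eq_maximalIdeal (RingHom.ker_isMaximal_of_surjective cS
              fun t => ⟨algebraMap k OX t, cS.commutes t⟩)).symm
          exact hk.le hm
        rw [this, zero_mul]
  obtain ⟨v, hv⟩ := hj.exists_left_inv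
  haveI := formallySmooth_quotient (k := k) h 0 (v • ((LinearMap.proj j).comp sec)) (by
    simp only [LinearMap.smul_apply, LinearMap.comp_apply, LinearMap.proj_apply, smul_eq_mul, hv]
    ring)
  exact Algebra.FormallySmooth.of_equiv e

include hπ hker ha hf hq in
/-- A singular point at which the section is smooth is a point near which it is the whole variety. -/
theorem exists_mul_mem_of_formallySmooth (OX : Type u) [CommRing OX] [Algebra k OX]
    [Algebra (MvPolynomial (Fin r) k ⧸ I) OX] [IsScalarTower k (MvPolynomial (Fin r) k ⧸ I) OX]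
    [IsLocalization.AtPrime OX (evalPrime I a ha)]
    [Algebra.Smooth k (MvPolynomial (Fin r) k ⧸ I)]
    [Algebra.FormallySmooth k O]
    (hs : ∀ w, (∀ G ∈ I, dd G a w = 0) → dd f a w = 0) : ∃ u, eval a u ≠ 0 ∧ u * f ∈ I := by
  classical
  let qX := evalPrime I a ha
  set BX := MvPolynomial (Fin r) k ⧸ I
  haveI : IsLocalization.AtPrime OX qX := inferInstanceAs (IsLocalization.AtPrime OX (evalPrime I a ha))
  haveI : Algebra.FormallyEtale BX OX := Algebra.FormallyEtale.of_isLocalization qX.primeCompl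
  haveI : Algebra.EssFiniteType BX OX := Algebra.EssFiniteType.of_isLocalization OX qX.primeCompl
  haveI : IsLocalRing OX := IsLocalization.AtPrime.isLocalRing OX qX
  obtain ⟨e⟩ := exists_ambient I f π hπ hker a ha q hq O OX
  haveI : Algebra.FormallySmooth k OX := Algebra.FormallySmooth.comp k BX OX
  haveI : Algebra.EssFiniteType k OX := Algebra.EssFiniteType.comp k BX OX
  set h := algebraMap BX OX (Ideal.Quotient.mk I f)
  haveI : Algebra.FormallySmooth k (OX ⧸ Ideal.span {h}) := Algebra.FormallySmooth.of_equiv e.symm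
  have hc : ∀ s ∈ qX.primeCompl, evalQuot I a ha s ≠ 0 := fun s hs => hs
  obtain ⟨cS, -, hcS, -, -⟩ := exists_extend qX.primeCompl OX (evalQuot I a ha) hc (D := 0) (zero_mem _)
  obtain ⟨v, hv, hv0⟩ := exists_annihilator h cS (by rw [hcS, evalQuot_mk, hf]) fun E hE => by
    have hP : (E ∘ₗ (IsScalarTower.toAlgHom k BX OX).toLinearMap) ∈ pDer (evalQuot I a ha) := fun x y => by
      have := hE (algebraMap BX OX x) (algebraMap BX OX y)
      rw [hcS, hcS, ← map_mul] at this
      exact this
    set D := E ∘ₗ (IsScalarTower.toAlgHom k BX OX).toLinearMap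
    have hDp : ∀ p, D (Ideal.Quotient.mk I p) = dd p a fun l => D (Ideal.Quotient.mk I (X l)) := by
      intro p
      have hP' : D ∘ₗ (Ideal.Quotient.mkₐ k I).toLinearMap ∈ pDer (aeval a : MvPolynomial (Fin r) k →ₐ[k] k) :=
        fun x y => by
          simp only [LinearMap.comp_apply, AlgHom.toLinearMap_apply, map_mul, mem_pDer.1 hP,
            Ideal.Quotient.mkₐ_eq_mk, evalQuot_mk, aeval_eq_eval]
      have := dd_of_mem_pDer hP' p
      simpa using this
    change D (Ideal.Quotient.mk I f) = 0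
    rw [hDp]
    refine hs _ fun G hG => ?_
    rw [← hDp, Ideal.Quotient.eq_zero_iff_mem.2 hG, map_zero]
  have hvu : IsUnit v := by
    by_contra hnu
    have hk : IsLocalRing.maximalIdeal OX = RingHom.ker cS :=
      (IsLocalRing.eq_maximalIdeal (RingHom.ker_isMaximal_of_surjective cS
        fun t => ⟨algebraMap k OX t, cS.commutes t⟩)).symm
    exact hv (hk.le hnu)
  obtain ⟨⟨t, ht⟩, ht'⟩ := (IsLocalization.map_eq_zero_iff qX.primeCompl OX _).1
    (hvu.mul_right_eq_zero.1 hv0)
  obtain ⟨t, rfl⟩ := Ideal.Quotient.mk_surjective t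
  rw [← map_mul, Ideal.Quotient.eq_zero_iff_mem] at ht'
  exact ⟨t, fun h0 => ht ((evalQuot_mk I a ha t).trans h0), ht'⟩

include hπ hker ha hf hq in
/-- The completion at a singular point, and the criterion for an ordinary quadratic singularity. -/
theorem ordQuad_iff [IsAlgClosed k] [IsLocalRing O] {c m : ℕ} (hrc : r = c + (m + 1))
    (g : Fin c → MvPolynomial (Fin r) k) (hg : ∀ p, g p ∈ I) (e : Fin c → Fin r)
    (he : (Matrix.of fun q p => eval a (pderiv (e q) (g p))).det ≠ 0)
    (u : MvPolynomial (Fin r) k) (hu : eval a u ≠ 0)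
    (hgen : ∀ G ∈ I, ∃ t : Fin c → MvPolynomial (Fin r) k, u * G = ∑ p, t p * g p)
    {lam : Fin c → k} (hlam : ∀ z, dd f a z = ∑ p, lam p * dd (g p) a z) :
    (∃ (Q : MvPowerSeries (Fin (m + 1)) k) (Q₂ : LefPen.Form m k 2)
      (ε : AdicCompletion (IsLocalRing.maximalIdeal O) O ≃+* (MvPowerSeries (Fin (m + 1)) k ⧸ Ideal.span {Q})),
      (∀ t : k, ε (algebraMap O _ (algebraMap k O t)) = Ideal.Quotient.mk _ (MvPowerSeries.C t)) ∧
      LefPen.StartsInDegTwo k Q ∧ LefPen.IsQuadPart k Q Q₂ ∧ LefPen.NondegQuad k Q₂) ↔ NDPt g f a := by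
  classical
  let sh : MvPolynomial (Fin r) k ≃ₐ[k] MvPolynomial (Fin r) k :=
    AlgEquiv.ofAlgHom (Hypersurface.shift a) (Hypersurface.shift (-a))
      (AlgHom.ext fun p => Hypersurface.shift_shift_neg a p) (AlgHom.ext fun p => Hypersurface.shift_neg_shift a p)
  have hsh : ∀ p, sh p = Hypersurface.shift a p := fun _ => rfl
  let J := RingHom.ker π
  let J' := J.map sh.toAlgHom
  have hJ : J ≤ RingHom.ker (eval a) := fun p hp => by
    rw [← hq, Ideal.mem_comap, show π p = 0 from hp]; exact zero_mem _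
  let m₀ := idealOfVars (Fin r) k
  have hm₀ : m₀.comap sh.toAlgHom = RingHom.ker (eval a) := by
    ext p
    rw [Ideal.mem_comap, RingHom.mem_ker, ← pow_one m₀, mem_pow_idealOfVars_iff']
    change (∀ d : Fin r →₀ ℕ, d.degree < 1 → coeff d (Hypersurface.shift a p) = 0) ↔ _
    rw [← Hypersurface.constantCoeff_shift, constantCoeff_eq]
    refine ⟨fun h => h 0 (by simp), fun h d hd => ?_⟩
    obtain rfl : d = 0 := by rw [← Finsupp.degree_eq_zero_iff]; omega
    exact h
  let Ls : ∀ s, (MvPolynomial (Fin r) k ⧸ J) →ₐ[k] (MvPolynomial (Fin r) k ⧸ jetJ J' s) := fun s =>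
    Ideal.Quotient.liftₐ J ((Ideal.Quotient.mkₐ k (jetJ J' s)).comp sh.toAlgHom) fun p hp =>
      Ideal.Quotient.eq_zero_iff_mem.2 (Ideal.mem_sup_left (Ideal.mem_map_of_mem _ hp))
  let πn : ∀ s, B →ₐ[k] (MvPolynomial (Fin r) k ⧸ jetJ J' s) := fun s =>
    (Ls s).comp (Ideal.quotientKerAlgEquivOfSurjective hπ).symm.toAlgHom
  have hπn : ∀ s p, πn s (π p) = Ideal.Quotient.mk _ (sh p) := fun s p => by
    have h1 : (Ideal.quotientKerAlgEquivOfSurjective hπ).symm (π p) = Ideal.Quotient.mk _ p := by
      rw [AlgEquiv.symm_apply_eq]; rfl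
    change Ls s ((Ideal.quotientKerAlgEquivOfSurjective hπ).symm (π p)) = _
    rw [h1]
    rfl
  have hπns : ∀ s, Function.Surjective (πn s) := fun s y => by
    obtain ⟨p, rfl⟩ := Ideal.Quotient.mk_surjective y
    exact ⟨π (sh.symm p), by rw [hπn, AlgEquiv.apply_symm_apply]⟩
  have hkern : ∀ s, RingHom.ker (πn s) = q ^ s := by
    intro s
    have hq' : q = (RingHom.ker (eval a)).map π := by rw [← hq, Ideal.map_comap_of_surjective π hπ]
    rw [hq', ← Ideal.map_pow]
    refine le_antisymm (fun x hx => ?_) (Ideal.map_le_iff_le_comap.2 fun p hp => ?_)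
    · obtain ⟨p, rfl⟩ := hπ x
      rw [RingHom.mem_ker, hπn, Ideal.Quotient.eq_zero_iff_mem] at hx
      obtain ⟨x', hx', w, hw, e'⟩ := jetJ_mem J' hx
      obtain ⟨x'', hx'', rfl⟩ := (Ideal.mem_map_iff_of_surjective sh.toAlgHom sh.surjective).1 hx'
      have e2 : p = x'' + sh.symm w := sh.injective (by rw [map_add, AlgEquiv.apply_symm_apply]; exact e')
      rw [e2, map_add, show π x'' = 0 from hx'', zero_add]
      refine Ideal.mem_map_of_mem π ?_
      have hle : m₀.map sh.symm.toAlgHom ≤ RingHom.ker (eval a) := by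
        rw [← hm₀, Ideal.map_le_iff_le_comap]
        intro y hy
        rw [Ideal.mem_comap, Ideal.mem_comap]
        simpa using hy
      exact Ideal.pow_right_mono hle s (by rw [← Ideal.map_pow]; exact Ideal.mem_map_of_mem _ hw)
    · rw [Ideal.mem_comap, RingHom.mem_ker, hπn, Ideal.Quotient.eq_zero_iff_mem]
      refine Ideal.mem_sup_right ?_
      rw [← hm₀] at hp
      exact Ideal.le_comap_pow sh.toAlgHom s hp
  haveI : q.IsMaximal := by
    haveI : (q.comap π).IsMaximal := hq ▸ RingHom.ker_isMaximal_of_surjective (eval a) fun t => ⟨C t, eval_C t⟩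
    rw [← Ideal.map_comap_of_surjective π hπ q]
    exact (Ideal.map_eq_top_or_isMaximal_of_surjective π hπ this).resolve_left
      (by rw [Ideal.map_comap_of_surjective π hπ q]; exact Ideal.IsPrime.ne_top inferInstance)
  obtain ⟨γ⟩ := nonempty_completion_equivJ O πn hπns hkern fun {s t} hst b => by
    obtain ⟨p, rfl⟩ := hπ b
    rw [hπn, hπn, Ideal.Quotient.factor_mk]
  let g' := fun p => Hypersurface.shift a (g p)
  let f' := Hypersurface.shift a f
  have hJ' : J'.map (MvPolynomial.coeToMvPowerSeries.ringHom) =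
      (Ideal.span (Set.range g') ⊔ Ideal.span {f'}).map MvPolynomial.coeToMvPowerSeries.ringHom := by
    refine le_antisymm ?_ (Ideal.map_mono (sup_le (Ideal.span_le.2 ?_) (Ideal.span_le.2 ?_)))
    · rw [Ideal.map_le_iff_le_comap, Ideal.map_le_iff_le_comap]
      intro p hp
      rw [show J = I ⊔ Ideal.span {f} from hker, Submodule.mem_sup] at hp
      obtain ⟨G, hG, y, hy, rfl⟩ := hp
      obtain ⟨t, rfl⟩ := Ideal.mem_span_singleton'.1 hy
      rw [Ideal.mem_comap, Ideal.mem_comap, map_add, map_add]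
      refine add_mem ?_ (Ideal.mem_map_of_mem _ (Ideal.mem_sup_right ?_))
      · obtain ⟨t', ht'⟩ := hgen G hG
        have h1 := Ideal.mem_map_of_mem (MvPolynomial.coeToMvPowerSeries.ringHom)
          (show Hypersurface.shift a (u * G) ∈ Ideal.span (Set.range g') ⊔ Ideal.span {f'} from
            Ideal.mem_sup_left (by
              rw [ht', map_sum]
              exact sum_mem fun l _ => by
                rw [map_mul]; exact Ideal.mul_mem_left _ _ (Ideal.subset_span ⟨l, rfl⟩)))
        rw [map_mul, map_mul] at h1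
        exact (Ideal.unit_mul_mem_iff_mem _ (isUnit_coe (Hypersurface.shift a u)
          (by rw [Hypersurface.constantCoeff_shift]; exact hu))).1 h1
      · change Hypersurface.shift a (t * f) ∈ _
        rw [map_mul]
        exact Ideal.mul_mem_left _ _ (Ideal.mem_span_singleton_self _)
    · rintro _ ⟨p, rfl⟩
      exact Ideal.mem_map_of_mem sh.toAlgHom (hker.ge (Ideal.mem_sup_left (hg p)))
    · rintro _ rfl
      exact Ideal.mem_map_of_mem sh.toAlgHom (hker.ge (Ideal.mem_sup_right (Ideal.mem_span_singleton_self f)))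
  have he' : (Matrix.of fun q p => eval (0 : Fin r → k) (pderiv (e q) (g' p))).det ≠ 0 := by
    convert he using 2
    refine Matrix.ext fun x y => ?_
    simp only [Matrix.of_apply, g', eval_zero, Hypersurface.pderiv_shift, Hypersurface.constantCoeff_shift]
  obtain ⟨F, L, hLi, hLg, hLs, ⟨θ⟩, hF0, hF1, hF2⟩ := exists_hypersurface hrc g' f'
    (fun p => by rw [Hypersurface.constantCoeff_shift]; exact ha _ (hg p)) e he'
  let χ := γ.trans ((Ideal.quotientEquivAlgOfEq k hJ').trans θ)
  have hlam' : ∀ z, dd f' 0 z = ∑ p, lam p * dd (g' p) 0 z := fun z => by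
    simp only [f', g', dd_shift]; exact hlam z
  have hSF : LefPen.StartsInDegTwo k F := by
    intro d hd
    rcases Nat.lt_or_ge d.degree 1 with h | h
    · obtain rfl : d = 0 := by rw [← Finsupp.degree_eq_zero_iff]; omega
      rw [MvPowerSeries.coeff_zero_eq_constantCoeff_apply, hF0, Hypersurface.constantCoeff_shift, hf]
    · obtain ⟨l, hl⟩ : ∃ l, d l ≠ 0 := by
        by_contra hcon
        push Not at hcon
        have : d = 0 := Finsupp.ext hcon
        simp [this] at h
      obtain ⟨d', rfl⟩ := exists_add_of_le (Finsupp.single_le_iff.mpr (Nat.one_le_iff_ne_zero.mpr hl))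
      obtain rfl : d' = 0 := by rw [← Finsupp.degree_eq_zero_iff]; simp at hd ⊢; omega
      rw [add_zero, ← l1_single, hF1, hlam']
      exact Finset.sum_eq_zero fun p _ => by rw [hLg, mul_zero]
  have hND : NDser F ↔ NDPt g f a := by
    rw [← ndPt_shift]
    have hq2 : ∀ v, q2 F v = qd f' 0 (L v) - ∑ p, lam p * qd (g' p) 0 (L v) := fun v => hF2 v lam hlam'
    have huniq : ∀ μ : Fin c → k, (∀ z, dd f' 0 z = ∑ p, μ p * dd (g' p) 0 z) → μ = lam := by
      intro μ hμ
      funext p
      refine congrFun (sub_eq_zero.1 (Matrix.eq_zero_of_mulVec_eq_zero he' (v := μ - lam) (funext fun q => ?_))) p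
      have h1 := (hμ (Pi.single (e q) 1)).symm.trans (hlam' (Pi.single (e q) 1))
      simp only [dd, Pi.single_apply, mul_ite, mul_one, mul_zero, Finset.sum_ite_eq', Finset.mem_univ, if_true,
        aeval_eq_eval] at h1
      simp only [Matrix.mulVec, dotProduct, Matrix.of_apply, Pi.zero_apply, Pi.sub_apply, mul_sub,
        Finset.sum_sub_distrib]
      rw [sub_eq_zero]
      simpa [mul_comm] using h1
    have hpol : ∀ v z, (q2 F (v + z) = q2 F v + q2 F z) ↔
        bd f' 0 (L v) (L z) - ∑ p, lam p * bd (g' p) 0 (L v) (L z) = 0 := by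
      intro v z
      rw [hq2, hq2, hq2, map_add, qd_add_right]
      simp only [qd_add_right, mul_add, Finset.sum_add_distrib]
      constructor <;> intro h <;> linear_combination h
    constructor
    · intro h μ w hμ hw hQ hB
      obtain rfl := huniq μ hμ
      obtain ⟨v, rfl⟩ := hLs w hw
      rw [← hq2] at hQ
      rw [h v hQ fun z => (hpol v z).2 (hB _ (hLg z)), map_zero]
    · intro h v hv hz
      refine hLi ?_
      rw [map_zero]
      refine h lam (L v) hlam' (hLg v) (by rw [← hq2]; exact hv) fun z hz' => ?_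
      obtain ⟨z, rfl⟩ := hLs z hz'
      exact (hpol v z).1 (hz z)
  have hC : ∀ {N : ℕ} (t : k), (MvPowerSeries.C t : MvPowerSeries (Fin N) k) = algebraMap k _ t := fun t => by
    simp [MvPowerSeries.algebraMap_apply]
  constructor
  · rintro ⟨Q, Q₂, ε, hε, hQ, h2, hnd⟩
    let εa : AdicCompletion (IsLocalRing.maximalIdeal O) O ≃ₐ[k] (MvPowerSeries (Fin (m + 1)) k ⧸ Ideal.span {Q}) :=
      AlgEquiv.ofRingEquiv (f := ε) fun t => by
        rw [IsScalarTower.algebraMap_apply k O (AdicCompletion (IsLocalRing.maximalIdeal O) O), hε, hC,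
          Ideal.Quotient.mk_algebraMap]
    rw [← hND]
    exact NDser.of_equiv (Nat.succ_pos m) hSF hQ (χ.symm.trans εa) ((nondegQuad_iff_ndser hQ h2).1 hnd)
  · intro h
    obtain ⟨Q₂, h2⟩ := exists_quadPart F
    refine ⟨F, Q₂, χ.toRingEquiv, fun t => ?_, hSF, h2, (nondegQuad_iff_ndser hSF h2).2 (hND.2 h)⟩
    rw [← IsScalarTower.algebraMap_apply k O (AdicCompletion (IsLocalRing.maximalIdeal O) O), hC,
      Ideal.Quotient.mk_algebraMap]
    exact χ.commutes t

end Groth.SGA7.Lef
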