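import Groth.Agent.SGA7.DualVar.Irreducible
import Groth.Agent.SGA7.Lef.Local
import Groth.Agent.Variety2.ProjDim

/-!
# Closed points of a hypersurface section, in charts
-/

set_option autoImplicit false
set_option linter.style.haveILetI false

universe u

open CategoryTheory CategoryTheory.Limits AlgebraicGeometry Opposite TopologicalSpace
open MvPolynomial
open Groth.SGA7.DualVar

namespace Groth.SGA7.Lef

variable {k : Type u} [Field k] {r : ℕ} {X : Scheme.{u}} (i : X ⟶ CohB1.ProjSpace r k) [IsClosedImmersion i]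
variable {d : ℕ} (H : LefPen.Form r k d)

local notation "ℙg" => CohB1.polyGrading r k

/-- The chart of the ambient variety. -/
noncomputable abbrev ambOpen (j : Fin (r + 1)) : X.affineOpens :=
  ⟨i ⁻¹ᵁ LefPen.chart r k j, (chartAff j).2.preimage i⟩

/-- The chart of the section. -/
noncomputable abbrev secOpen (j : Fin (r + 1)) : (LefPen.Sec i ({H} : Set (LefPen.Form r k d))).affineOpens :=
  ⟨LefPen.secι i ({H} : Set (LefPen.Form r k d)) ⁻¹ᵁ (ambOpen i j).1,
    (ambOpen i j).2.preimage (LefPen.secι i ({H} : Set (LefPen.Form r k d)))⟩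

/-- The coordinate ring of a chart, onto the sections of the section. -/
noncomputable def secPi (j : Fin (r + 1)) :
    MvPolynomial (Fin r) k →+* Γ(LefPen.Sec i ({H} : Set (LefPen.Form r k d)), (secOpen i H j).1) :=
  ((LefPen.secι i ({H} : Set (LefPen.Form r k d))).app (ambOpen i j).1).hom.comp (chartPi i j)

theorem secPi_surjective (j : Fin (r + 1)) : Function.Surjective (secPi i H j) :=
  ((LefPen.secIdeal i ({H} : Set (LefPen.Form r k d))).subschemeι_app_surjective (ambOpen i j)).comp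
    (chartPi_surjective i j)

theorem ker_secPi (j : Fin (r + 1)) :
    RingHom.ker (secPi i H j) = chartIdeal i j ⊔ Ideal.span {dehomog j H.1} := by
  have hhyp : (LefPen.hypIdeal H).ideal (chartAff j) = Ideal.span {LefPen.dehom H j} := by
    rw [PlaneCurve.hypIdeal_eq_zeroScheme]
    exact Variety2.Zero.zeroScheme_ideal_eq_span (PlaneCurve.isInvertible_twistProjSpace _) _ (chartAff j)
      (PlaneCurve.gen_frame (k := k) j d) (c := LefPen.dehom H j)
      ((PlaneCurve.formHom_app_of_le H j le_rfl).trans (by rw [Groth.PicAux.resX_self, Groth.PicAux.res_self]))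
  have hsec : (LefPen.secIdeal i ({H} : Set (LefPen.Form r k d))).ideal (ambOpen i j) =
      (Ideal.span {dehomog j H.1}).map (chartPi i j) := by
    rw [LefPen.secIdeal, iSup_singleton,
      BlowUpBasics.ideal_comap i _ (chartAff j) (ambOpen i j) le_rfl, hhyp, Ideal.map_span, Set.image_singleton,
      Ideal.map_span, Set.image_singleton]
    congr 1
    rw [Set.singleton_eq_singleton_iff, ← affEq_eq]
    change i.appLE _ _ _ _ = Groth.ProjClosed.chartHom i (MvPolynomial.X j) (PlaneCurve.toAway j _)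
    rw [PlaneCurve.toAway_affEq]
    exact (congr($(Scheme.Hom.app_eq_appLE (f := i) (U := LefPen.chart r k j)) (LefPen.dehom H j))).symm
  rw [secPi, ← RingHom.comap_ker, Scheme.IdealSheafData.ker_subschemeι_app, hsec,
    Ideal.comap_map_of_surjective _ (chartPi_surjective i j), ← RingHom.ker_eq_comap_bot, sup_comm]
  rfl

theorem iSup_secOpen : ⨆ j, (secOpen i H j).1 = ⊤ := by
  simp only [secOpen, ambOpen]
  rw [← Scheme.Hom.preimage_iSup, iSup_chart]
  rfl

/-- The closed point `y` lies in the `j`-th chart, with coordinates `a`. -/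
def PointAt (j : Fin (r + 1)) (y : LefPen.Sec i ({H} : Set (LefPen.Form r k d))) (a : Fin r → k) : Prop :=
  ∃ hy : y ∈ (secOpen i H j).1,
    ((secOpen i H j).2.primeIdealOf ⟨y, hy⟩).asIdeal.comap (secPi i H j) = RingHom.ker (eval a)

variable {i H}

theorem jacobsonSpace_sec : JacobsonSpace (LefPen.Sec i ({H} : Set (LefPen.Form r k d))) := by
  haveI : LocallyOfFiniteType (LefPen.secToSpec i ({H} : Set (LefPen.Form r k d))) := by
    haveI : LocallyOfFiniteType (CohB1.ProjSpace.toSpec r k) := inferInstance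
    infer_instance
  exact LocallyOfFiniteType.jacobsonSpace (Y := Spec (CommRingCat.of k))
    (LefPen.secToSpec i ({H} : Set (LefPen.Form r k d)))

theorem PointAt.mem_zeros {j : Fin (r + 1)} {y : LefPen.Sec i ({H} : Set (LefPen.Form r k d))} {a : Fin r → k}
    (h : PointAt i H j y a) : a ∈ chartPts i j ∧ eval a (dehomog j H.1) = 0 := by
  obtain ⟨hy, h⟩ := h
  have h1 : chartIdeal i j ⊔ Ideal.span {dehomog j H.1} ≤ RingHom.ker (eval a) := by
    rw [← h, ← ker_secPi, RingHom.ker_eq_comap_bot]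
    exact Ideal.comap_mono bot_le
  exact ⟨fun p hp => h1 (Ideal.mem_sup_left hp),
    h1 (Ideal.mem_sup_right (Ideal.mem_span_singleton_self _))⟩

theorem PointAt.isClosed {j : Fin (r + 1)} {y : LefPen.Sec i ({H} : Set (LefPen.Form r k d))} {a : Fin r → k}
    (h : PointAt i H j y a) : IsClosed ({y} : Set (LefPen.Sec i ({H} : Set (LefPen.Form r k d)))) := by
  haveI := jacobsonSpace_sec (i := i) (H := H)
  obtain ⟨hy, h⟩ := h
  have hU : IsAffineOpen (secOpen i H j).1 := (secOpen i H j).2
  set p := hU.primeIdealOf ⟨y, hy⟩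
  haveI : (p.asIdeal.comap (secPi i H j)).IsMaximal :=
    h ▸ RingHom.ker_isMaximal_of_surjective (eval a) fun t => ⟨C t, eval_C t⟩
  have hp : p.asIdeal.IsMaximal := by
    rw [← Ideal.map_comap_of_surjective _ (secPi_surjective i H j) p.asIdeal]
    exact (Ideal.map_eq_top_or_isMaximal_of_surjective _ (secPi_surjective i H j) this).resolve_left
      (by rw [Ideal.map_comap_of_surjective _ (secPi_surjective i H j)]; exact p.2.ne_top)
  have h2 : IsClosed ({p} : Set (Spec Γ(LefPen.Sec i ({H} : Set (LefPen.Form r k d)), (secOpen i H j).1))) :=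
    (PrimeSpectrum.isClosed_singleton_iff_isMaximal p).2 hp
  have h3 : p ∈ hU.fromSpec ⁻¹' (closedPoints (LefPen.Sec i ({H} : Set (LefPen.Form r k d)))) := by
    rw [hU.fromSpec.isOpenEmbedding.preimage_closedPoints]; exact h2
  have h4 : hU.fromSpec p = y := hU.fromSpec_primeIdealOf ⟨y, hy⟩
  have h5 : IsClosed ({hU.fromSpec p} : Set (LefPen.Sec i ({H} : Set (LefPen.Form r k d)))) := h3
  rwa [h4] at h5

theorem PointAt.of_isClosed [IsAlgClosed k] {j : Fin (r + 1)}
    {y : LefPen.Sec i ({H} : Set (LefPen.Form r k d))} (hc : IsClosed ({y} : Set (LefPen.Sec i ({H} : Set (LefPen.Form r k d)))))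
    (hy : y ∈ (secOpen i H j).1) : ∃ a, PointAt i H j y a := by
  haveI := (secOpen i H j).2.primeIdealOf_isMaximal_of_isClosed ⟨y, hy⟩ hc
  haveI : (((secOpen i H j).2.primeIdealOf ⟨y, hy⟩).asIdeal.comap (secPi i H j)).IsMaximal :=
    Ideal.comap_isMaximal_of_surjective _ (secPi_surjective i H j)
  obtain ⟨a, ha⟩ := (MvPolynomial.isMaximal_iff_eq_vanishingIdeal_singleton
    (I := ((secOpen i H j).2.primeIdealOf ⟨y, hy⟩).asIdeal.comap (secPi i H j))).1 inferInstance
  refine ⟨a, hy, ha.trans (Ideal.ext fun p => ?_)⟩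
  rw [MvPolynomial.mem_vanishingIdeal_singleton_iff, aeval_eq_eval, RingHom.mem_ker]

theorem exists_chart_of_isClosed [IsAlgClosed k]
    {y : LefPen.Sec i ({H} : Set (LefPen.Form r k d))}
    (hc : IsClosed ({y} : Set (LefPen.Sec i ({H} : Set (LefPen.Form r k d))))) :
    ∃ j a, PointAt i H j y a := by
  obtain ⟨j, hj⟩ := Opens.mem_iSup.1 (show y ∈ ⨆ j, (secOpen i H j).1 by rw [iSup_secOpen]; trivial)
  exact ⟨j, PointAt.of_isClosed hc hj⟩

theorem exists_pointAt {j : Fin (r + 1)} {a : Fin r → k} (ha : a ∈ chartPts i j)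
    (hf : eval a (dehomog j H.1) = 0) : ∃ y, PointAt i H j y a := by
  have hU : IsAffineOpen (secOpen i H j).1 := (secOpen i H j).2
  have hle : RingHom.ker (secPi i H j) ≤ RingHom.ker (eval a) := by
    rw [ker_secPi, sup_le_iff, Ideal.span_le, Set.singleton_subset_iff]
    exact ⟨fun p hp => ha p hp, hf⟩
  have hmax : ((RingHom.ker (eval a)).map (secPi i H j)).IsMaximal := by
    refine (Ideal.map_eq_top_or_isMaximal_of_surjective _ (secPi_surjective i H j)
      (RingHom.ker_isMaximal_of_surjective (eval a) fun t => ⟨C t, eval_C t⟩)).resolve_left fun h => ?_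
    have := congrArg (Ideal.comap (secPi i H j)) h
    rw [Ideal.comap_map_of_surjective _ (secPi_surjective i H j), ← RingHom.ker_eq_comap_bot,
      sup_eq_left.2 hle, Ideal.comap_top] at this
    exact (RingHom.ker_isMaximal_of_surjective (eval a) fun t => ⟨C t, eval_C t⟩).ne_top this
  let p : PrimeSpectrum Γ(LefPen.Sec i ({H} : Set (LefPen.Form r k d)), (secOpen i H j).1) :=
    ⟨_, hmax.isPrime⟩
  have hy : hU.fromSpec p ∈ (secOpen i H j).1 := by
    have h : hU.fromSpec p ∈ Set.range hU.fromSpec := ⟨p, rfl⟩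
    rwa [hU.range_fromSpec] at h
  refine ⟨hU.fromSpec p, hy, ?_⟩
  have : hU.primeIdealOf ⟨hU.fromSpec p, hy⟩ = p :=
    hU.fromSpec.isOpenEmbedding.injective (hU.fromSpec_primeIdealOf _)
  rw [this]
  change Ideal.comap (secPi i H j) ((RingHom.ker (eval a)).map (secPi i H j)) = _
  rw [Ideal.comap_map_of_surjective _ (secPi_surjective i H j), ← RingHom.ker_eq_comap_bot, sup_eq_left.2 hle]

/-- Whether a hyperplane passes through the point. -/
theorem PointAt.mem_hyperplane {j : Fin (r + 1)} {y : LefPen.Sec i ({H} : Set (LefPen.Form r k d))}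
    {a : Fin r → k} (h : PointAt i H j y a) (G : LefPen.Form r k 1) :
    y ∈ LefPen.secι i ({H} : Set (LefPen.Form r k d)) ⁻¹ᵁ i ⁻¹ᵁ Proj.basicOpen ℙg G.1 ↔
      eval (ins j a) G.1 ≠ 0 := by
  obtain ⟨hy, h⟩ := h
  have hU : IsAffineOpen (secOpen i H j).1 := (secOpen i H j).2
  letI := TopCat.Presheaf.algebra_section_stalk (LefPen.Sec i ({H} : Set (LefPen.Form r k d))).presheaf
    (⟨y, hy⟩ : (secOpen i H j).1)
  haveI : IsLocalization.AtPrime ((LefPen.Sec i ({H} : Set (LefPen.Form r k d))).presheaf.stalk y)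
      (hU.primeIdealOf ⟨y, hy⟩).asIdeal := hU.isLocalization_stalk ⟨y, hy⟩
  have e : (LefPen.Sec i ({H} : Set (LefPen.Form r k d))).basicOpen (secPi i H j (dehomog j G.1)) =
      (secOpen i H j).1 ⊓ LefPen.secι i ({H} : Set (LefPen.Form r k d)) ⁻¹ᵁ i ⁻¹ᵁ Proj.basicOpen ℙg G.1 := by
    have e1 : secPi i H j (dehomog j G.1) = (LefPen.secι i ({H} : Set (LefPen.Form r k d))).app (ambOpen i j).1
        (i.app _ (Proj.awayToSection ℙg (MvPolynomial.X j)
          (Groth.ProjClosed.fr (LefPen.X_mem r k j) 1 G.1 G.2))) := by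
      rw [← affEq_eq j G]
      exact congrArg (fun z => (LefPen.secι i ({H} : Set (LefPen.Form r k d))).app (ambOpen i j).1
        (Groth.ProjClosed.chartHom i (MvPolynomial.X j) z)) (PlaneCurve.toAway_affEq j G)
    rw [e1, ← Scheme.preimage_basicOpen, ← Scheme.preimage_basicOpen]
    erw [Groth.ProjClosed.basicOpen_fr (LefPen.X_mem r k j) G.2]
    rw [Proj.basicOpen_mul]
    rfl
  rw [← eval_dehomog]
  have h2 : y ∈ (LefPen.Sec i ({H} : Set (LefPen.Form r k d))).basicOpen (secPi i H j (dehomog j G.1)) ↔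
      eval a (dehomog j G.1) ≠ 0 := by
    rw [Scheme.mem_basicOpen _ _ y hy]
    refine (IsLocalization.AtPrime.isUnit_to_map_iff ((LefPen.Sec i ({H} : Set (LefPen.Form r k d))).presheaf.stalk y)
      (hU.primeIdealOf ⟨y, hy⟩).asIdeal _).trans ?_
    exact not_congr ((SetLike.ext_iff.1 h _).trans RingHom.mem_ker)
  rw [← h2, e]
  exact ⟨fun h' => ⟨hy, h'⟩, fun h' => h'.2⟩

theorem PointAt.ins_eq {j j' : Fin (r + 1)} {y : LefPen.Sec i ({H} : Set (LefPen.Form r k d))}
    {a a' : Fin r → k} (h : PointAt i H j y a) (h' : PointAt i H j' y a') :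
    ins j' a' = ins j' a' j • ins j a := by
  funext l
  let G : LefPen.Form r k 1 := ⟨MvPolynomial.X l - MvPolynomial.C (ins j a l) * MvPolynomial.X j,
    sub_mem (LefPen.X_mem r k l) (by rw [← smul_eq_C_mul]; exact Submodule.smul_mem _ _ (LefPen.X_mem r k j))⟩
  have h1 : eval (ins j a) G.1 = 0 := by simp [G, ins]
  have h2 : eval (ins j' a') G.1 = 0 := by
    by_contra hne
    exact ((h.mem_hyperplane G).1 ((h'.mem_hyperplane G).2 hne)) h1
  simp only [G, map_sub, map_mul, eval_X, eval_C, sub_eq_zero] at h2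
  rw [Pi.smul_apply, smul_eq_mul, h2, mul_comm]

theorem PointAt.eq_of_ins [IsAlgClosed k] {j j' : Fin (r + 1)} {y y' : LefPen.Sec i ({H} : Set (LefPen.Form r k d))}
    {a a' : Fin r → k} (h : PointAt i H j y a) (h' : PointAt i H j' y' a') {t : k}
    (he : ins j' a' = t • ins j a) : y' = y := by
  have hne : eval (ins j' a') (MvPolynomial.X j : MvPolynomial (Fin (r + 1)) k) ≠ 0 := by
    rw [eval_X, he, Pi.smul_apply, smul_eq_mul]
    refine mul_ne_zero (fun h0 => ins_ne_zero j' a' (by rw [he, h0, zero_smul])) ?_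
    simp [ins]
  have hy' := (h'.mem_hyperplane ⟨MvPolynomial.X j, LefPen.X_mem r k j⟩).2 hne
  obtain ⟨b, hb⟩ := PointAt.of_isClosed h'.isClosed (j := j) hy'
  have hab : b = a := by
    have h1 := hb.ins_eq h'
    rw [he] at h1
    have ht : t ≠ 0 := fun h0 => ins_ne_zero j' a' (by rw [he, h0, zero_smul])
    funext l
    have h2 := congrFun h1 (j.succAbove l)
    simp only [ins, Pi.smul_apply, smul_eq_mul, Fin.insertNth_apply_succAbove, Fin.insertNth_apply_same, mul_one] at h2
    exact (mul_left_cancel₀ ht h2).symm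
  subst hab
  obtain ⟨hy, h⟩ := h
  obtain ⟨hy', hb⟩ := hb
  have hU : IsAffineOpen (secOpen i H j).1 := (secOpen i H j).2
  have hp : hU.primeIdealOf ⟨y', hy'⟩ = hU.primeIdealOf ⟨y, hy⟩ :=
    PrimeSpectrum.ext (Ideal.comap_injective_of_surjective _ (secPi_surjective i H j) (hb.trans h.symm))
  have := congrArg hU.fromSpec hp
  rwa [hU.fromSpec_primeIdealOf, hU.fromSpec_primeIdealOf] at this

end Groth.SGA7.Lef
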