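import Groth.Agent.SGA7.Lef.Chart

/-!
# Smooth points and ordinary quadratic singularities of a hypersurface section
-/

set_option autoImplicit false
set_option linter.style.haveILetI false

universe u

open CategoryTheory CategoryTheory.Limits AlgebraicGeometry Opposite TopologicalSpace
open MvPolynomial
open Groth.SGA7.DualVar

namespace Groth.SGA7.Lef

variable {k : Type u} [Field k] {r : ℕ} {X : Scheme.{u}} {i : X ⟶ CohB1.ProjSpace r k} [IsClosedImmersion i]
variable {d : ℕ} {H : LefPen.Form r k d}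

local notation "ℙg" => CohB1.polyGrading r k

theorem toStalk_eq {Y : Scheme.{u}} (g : Y ⟶ Spec (CommRingCat.of k)) {U : Y.Opens} {y : Y} (hy : y ∈ U) (c : k) :
    LefPen.toStalk k g y c =
      Y.presheaf.germ U y hy (g.appLE ⊤ U le_top ((Scheme.ΓSpecIso (CommRingCat.of k)).inv c)) := by
  rw [LefPen.toStalk, RingHom.comp_apply, Scheme.Hom.appLE, CommRingCat.comp_apply,
    TopCat.Presheaf.germ_res_apply]
  rfl

/-- Smoothness at a point is formal smoothness of the local ring. -/
theorem smoothAt_iff {Y : Scheme.{u}} (g : Y ⟶ Spec (CommRingCat.of k)) [LocallyOfFinitePresentation g]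
    {U : Y.Opens} (hU : IsAffineOpen U) {y : Y} (hy : y ∈ U) :
    LefPen.SmoothAt g y ↔ (LefPen.toStalk k g y).FormallySmooth := by
  rw [LefPen.SmoothAt, formallySmooth_stalkMap_iff ⊤ (isAffineOpen_top _) U hU le_top hy]
  letI := (g.appLE ⊤ U le_top).hom.toAlgebra
  letI := TopCat.Presheaf.algebra_section_stalk Y.presheaf (⟨y, hy⟩ : U)
  haveI : IsLocalization.AtPrime (Y.presheaf.stalk y) (hU.primeIdealOf ⟨y, hy⟩).asIdeal :=
    hU.isLocalization_stalk ⟨y, hy⟩
  let q := (hU.primeIdealOf ⟨y, hy⟩).asIdeal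
  let E := (IsLocalization.algEquiv q.primeCompl (Localization.AtPrime q) (Y.presheaf.stalk y)).toRingEquiv
  let e := (Scheme.ΓSpecIso (CommRingCat.of k)).symm.commRingCatIsoToRingEquiv
  have hcomp : LefPen.toStalk k g y =
      (E.toRingHom.comp (algebraMap Γ(Spec (CommRingCat.of k), ⊤) (Localization.AtPrime q))).comp e.toRingHom := by
    refine RingHom.ext fun c => ?_
    rw [toStalk_eq g hy c, IsScalarTower.algebraMap_eq Γ(Spec (CommRingCat.of k), ⊤) Γ(Y, U)]
    exact ((IsLocalization.algEquiv q.primeCompl (Localization.AtPrime q) (Y.presheaf.stalk y)).commutes _).symm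
  rw [hcomp]
  have hr := RingHom.FormallySmooth.respectsIso
  refine Iff.trans (RingHom.formallySmooth_algebraMap).symm ⟨fun h => hr.2 _ e (hr.1 _ E h), fun h => ?_⟩
  have h1 := hr.1 _ E.symm (hr.2 _ e.symm h)
  convert h1 using 1
  refine RingHom.ext fun x => ?_
  simp only [RingHom.comp_apply, RingEquiv.toRingHom_eq_coe, RingEquiv.coe_toRingHom]
  erw [E.symm_apply_apply]
  exact congrArg _ (e.apply_symm_apply x).symm

theorem locallyOfFinitePresentation_secToSpec :
    LocallyOfFinitePresentation (LefPen.secToSpec i ({H} : Set (LefPen.Form r k d))) := by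
  haveI : LocallyOfFiniteType (CohB1.ProjSpace.toSpec r k) := inferInstance
  haveI : LocallyOfFiniteType (LefPen.secToSpec i ({H} : Set (LefPen.Form r k d))) := inferInstance
  infer_instance

section Point

variable [IsAlgClosed k] {n : ℕ} [SmoothOfRelativeDimension n (i ≫ CohB1.ProjSpace.toSpec r k)]
variable {j : Fin (r + 1)} {y : LefPen.Sec i ({H} : Set (LefPen.Form r k d))} {a : Fin r → k}

set_option quotPrecheck false in
local notation "SecY" => LefPen.Sec i ({H} : Set (LefPen.Form r k d))

theorem secPi_scalar (hy : y ∈ (secOpen i H j).1) (c : k) :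
    LefPen.toStalk k (LefPen.secToSpec i ({H} : Set (LefPen.Form r k d))) y c =
      (SecY).presheaf.germ (secOpen i H j).1 y hy (secPi i H j (C c)) := by
  rw [toStalk_eq _ hy c]
  exact congrArg _ (appLE_scalar i (LefPen.secι i ({H} : Set (LefPen.Form r k d))) j c)

include n in
/-- At a point which is not singular the section is smooth. -/
theorem PointAt.smoothAt (h : PointAt i H j y a) {w : Fin r → k} (hw : w ∈ chartTan i j a)
    (hfw : dd (dehomog j H.1) a w ≠ 0) :
    LefPen.SmoothAt (LefPen.secToSpec i ({H} : Set (LefPen.Form r k d))) y := by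
  obtain ⟨hy, h⟩ := h
  haveI := locallyOfFinitePresentation_secToSpec (i := i) (H := H)
  rw [smoothAt_iff _ (secOpen i H j).2 hy]
  letI : Algebra k Γ(SecY, (secOpen i H j).1) := ((secPi i H j).comp C).toAlgebra
  let π : MvPolynomial (Fin r) k →ₐ[k] Γ(SecY, (secOpen i H j).1) :=
    { secPi i H j with commutes' := fun _ => rfl }
  letI := TopCat.Presheaf.algebra_section_stalk (SecY).presheaf (⟨y, hy⟩ : (secOpen i H j).1)
  haveI : IsLocalization.AtPrime ((SecY).presheaf.stalk y) ((secOpen i H j).2.primeIdealOf ⟨y, hy⟩).asIdeal :=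
    (secOpen i H j).2.isLocalization_stalk ⟨y, hy⟩
  letI : Algebra k ((SecY).presheaf.stalk y) :=
    (LefPen.toStalk k (LefPen.secToSpec i ({H} : Set (LefPen.Form r k d))) y).toAlgebra
  haveI : IsScalarTower k Γ(SecY, (secOpen i H j).1) ((SecY).presheaf.stalk y) :=
    IsScalarTower.of_algebraMap_eq fun c => secPi_scalar hy c
  haveI : Algebra.Smooth k (MvPolynomial (Fin r) k ⧸ chartIdeal i j) :=
    finiteType_of_smoothRelDim (smoothRelDim_chart (n := n) i j)
  have ha := (PointAt.mem_zeros ⟨hy, h⟩).1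
  refine RingHom.formallySmooth_algebraMap.2 ?_
  exact formallySmooth_of_nonSing (chartIdeal i j) (dehomog j H.1) π (secPi_surjective i H j) (ker_secPi i H j)
    a ha _ h _ (Localization.AtPrime (evalPrime (chartIdeal i j) a ha))
    (fun G hG => by rw [← dAt_eq_dd]; exact (mem_chartTan i).1 hw G hG) hfw

include n in
/-- A smooth singular point has a neighbourhood in `X` inside the hypersurface. -/
theorem PointAt.exists_mul_mem (h : PointAt i H j y a)
    (hs : ∀ w ∈ chartTan i j a, dd (dehomog j H.1) a w = 0)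
    (hsm : LefPen.SmoothAt (LefPen.secToSpec i ({H} : Set (LefPen.Form r k d))) y) :
    ∃ u, eval a u ≠ 0 ∧ u * dehomog j H.1 ∈ chartIdeal i j := by
  obtain ⟨hy, h⟩ := h
  haveI := locallyOfFinitePresentation_secToSpec (i := i) (H := H)
  rw [smoothAt_iff _ (secOpen i H j).2 hy] at hsm
  letI : Algebra k Γ(SecY, (secOpen i H j).1) := ((secPi i H j).comp C).toAlgebra
  let π : MvPolynomial (Fin r) k →ₐ[k] Γ(SecY, (secOpen i H j).1) :=
    { secPi i H j with commutes' := fun _ => rfl }
  letI := TopCat.Presheaf.algebra_section_stalk (SecY).presheaf (⟨y, hy⟩ : (secOpen i H j).1)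
  haveI : IsLocalization.AtPrime ((SecY).presheaf.stalk y) ((secOpen i H j).2.primeIdealOf ⟨y, hy⟩).asIdeal :=
    (secOpen i H j).2.isLocalization_stalk ⟨y, hy⟩
  letI : Algebra k ((SecY).presheaf.stalk y) :=
    (LefPen.toStalk k (LefPen.secToSpec i ({H} : Set (LefPen.Form r k d))) y).toAlgebra
  haveI : IsScalarTower k Γ(SecY, (secOpen i H j).1) ((SecY).presheaf.stalk y) :=
    IsScalarTower.of_algebraMap_eq fun c => secPi_scalar hy c
  haveI : Algebra.Smooth k (MvPolynomial (Fin r) k ⧸ chartIdeal i j) :=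
    finiteType_of_smoothRelDim (smoothRelDim_chart (n := n) i j)
  haveI : Algebra.FormallySmooth k ((SecY).presheaf.stalk y) := RingHom.formallySmooth_algebraMap.1 hsm
  have hz := PointAt.mem_zeros (H := H) ⟨hy, h⟩
  exact exists_mul_mem_of_formallySmooth (chartIdeal i j) (dehomog j H.1) π (secPi_surjective i H j)
    (ker_secPi i H j) a hz.1 hz.2 _ h ((SecY).presheaf.stalk y)
    (Localization.AtPrime (evalPrime (chartIdeal i j) a hz.1))
    fun w hw => hs w ((mem_chartTan i).2 fun G hG => by rw [dAt_eq_dd]; exact hw G hG)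

include n in
/-- At a singular point the section has an ordinary quadratic singularity if and only if the second
fundamental form is non-degenerate. -/
theorem PointAt.isOrdQuadSing_iff {m : ℕ} (hnm : n = m + 1) (hrn : n ≤ r) (h : PointAt i H j y a)
    (L : LocEq i n j) (hu : eval a L.u ≠ 0) (hdet : (minor L.g L.e a).det ≠ 0) {lam : Fin (r - n) → k}
    (hlam : ∀ z, dd (dehomog j H.1) a z = ∑ p, lam p * dd (L.g p) a z) :
    LefPen.IsOrdQuadSing k m (LefPen.secToSpec i ({H} : Set (LefPen.Form r k d))) y ↔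
      NDPt L.g (dehomog j H.1) a := by
  have hclosed := h.isClosed
  obtain ⟨hy, h⟩ := h
  letI : Algebra k Γ(SecY, (secOpen i H j).1) := ((secPi i H j).comp C).toAlgebra
  let π : MvPolynomial (Fin r) k →ₐ[k] Γ(SecY, (secOpen i H j).1) :=
    { secPi i H j with commutes' := fun _ => rfl }
  letI := TopCat.Presheaf.algebra_section_stalk (SecY).presheaf (⟨y, hy⟩ : (secOpen i H j).1)
  haveI : IsLocalization.AtPrime ((SecY).presheaf.stalk y) ((secOpen i H j).2.primeIdealOf ⟨y, hy⟩).asIdeal :=
    (secOpen i H j).2.isLocalization_stalk ⟨y, hy⟩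
  letI : Algebra k ((SecY).presheaf.stalk y) :=
    (LefPen.toStalk k (LefPen.secToSpec i ({H} : Set (LefPen.Form r k d))) y).toAlgebra
  haveI : IsScalarTower k Γ(SecY, (secOpen i H j).1) ((SecY).presheaf.stalk y) :=
    IsScalarTower.of_algebraMap_eq fun c => secPi_scalar hy c
  have hz := PointAt.mem_zeros (H := H) ⟨hy, h⟩
  have hdet' : (Matrix.of fun q p => eval a (pderiv (L.e q) (L.g p))).det ≠ 0 := by
    simpa [minor, aeval_eq_eval] using hdet
  rw [LefPen.IsOrdQuadSing, and_iff_right hclosed]
  exact ordQuad_iff (chartIdeal i j) (dehomog j H.1) π (secPi_surjective i H j) (ker_secPi i H j) a hz.1 hz.2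
    _ h ((SecY).presheaf.stalk y) (by omega) L.g L.mem L.e hdet' L.u hu L.gen hlam

end Point

end Groth.SGA7.Lef
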