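import Groth.Agent.SGA7.DualVar.Irreducible
import Groth.Agent.SGA7.Lef.Taylor

/-!
# Local equations of a smooth variety in a chart

At a point of a chart the variety is cut out, away from a hypersurface `u = 0`, by `r - n`
equations with independent differentials.
-/

set_option autoImplicit false
set_option linter.style.haveILetI false

universe u v

open CategoryTheory CategoryTheory.Limits AlgebraicGeometry Opposite TopologicalSpace
open MvPolynomial
open Groth.SGA7.DualVar
open scoped TensorProduct

namespace Groth.SGA7.Lef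

variable {k : Type u} [Field k]

/-- The square Jacobian minor of `g` in the coordinates `e`. -/
noncomputable def minor {A : Type v} [CommRing A] [Algebra k A] {r c : ℕ}
    (g : Fin c → MvPolynomial (Fin r) k) (e : Fin c → Fin r) (x : Fin r → A) : Matrix (Fin c) (Fin c) A :=
  Matrix.of fun q p => aeval x (pderiv (e q) (g p))

theorem dAt_eq_dd {r : ℕ} (p : MvPolynomial (Fin r) k) (a w : Fin r → k) : dAt p a w = dd p a w := by
  rw [dAt_apply, dd]
  exact Finset.sum_congr rfl fun l _ => by rw [aeval_eq_eval]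

/-- The differential of a polynomial, in the basis of the coordinate differentials. -/
theorem D_eq_sum {σ : Type*} [Fintype σ] (p : MvPolynomial σ k) :
    KaehlerDifferential.D k (MvPolynomial σ k) p =
      ∑ l, pderiv l p • KaehlerDifferential.D k (MvPolynomial σ k) (X l) := by
  classical
  induction p using MvPolynomial.induction_on with
  | C a => simp [← algebraMap_eq]
  | add p q hp hq => simp only [map_add, hp, hq, add_smul, Finset.sum_add_distrib]
  | mul_X p l hp =>
    rw [Derivation.leibniz, hp, Finset.smul_sum]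
    simp only [Derivation.leibniz, smul_eq_mul, pderiv_X, add_smul, Finset.sum_add_distrib, mul_smul]
    congr 1
    rw [Finset.sum_eq_single l (fun b _ hb => by simp [hb.symm]) (by simp), Pi.single_eq_same, one_smul]

/-- An equation with vanishing differential lies in `m·I`. -/
theorem mem_smul_of_dd_eq_zero {r : ℕ} (I : Ideal (MvPolynomial (Fin r) k))
    [Algebra.FormallySmooth k (MvPolynomial (Fin r) k ⧸ I)] {a : Fin r → k}
    (ha : ∀ p ∈ I, eval a p = 0) {G : MvPolynomial (Fin r) k} (hG : G ∈ I)
    (hd : ∀ l, eval a (pderiv l G) = 0) : G ∈ RingHom.ker (eval a) * I := by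
  classical
  let P := MvPolynomial (Fin r) k
  let B := P ⧸ I
  have hsurj : Function.Surjective (algebraMap P B) := Ideal.Quotient.mk_surjective
  obtain ⟨σ, hσ⟩ := (Algebra.FormallySmooth.iff_split_injection (R := k) hsurj).1 inferInstance
  have hker : RingHom.ker (algebraMap P B) = I := Ideal.mk_ker
  have hmem : G ∈ RingHom.ker (algebraMap P B) := hker.symm ▸ hG
  have hz : ∀ l : Fin r, ∃ z : RingHom.ker (algebraMap P B), (RingHom.ker (algebraMap P B)).toCotangent z =
      σ (1 ⊗ₜ KaehlerDifferential.D k P (X l)) := fun l => Ideal.toCotangent_surjective _ _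
  choose z hz using hz
  have h1 : (RingHom.ker (algebraMap P B)).toCotangent ⟨G, hmem⟩ =
      (RingHom.ker (algebraMap P B)).toCotangent (∑ l, pderiv l G • z l) := by
    have e3 := LinearMap.congr_fun hσ ((RingHom.ker (algebraMap P B)).toCotangent ⟨G, hmem⟩)
    rw [LinearMap.comp_apply, KaehlerDifferential.kerCotangentToTensor_toCotangent, LinearMap.id_apply] at e3
    rw [← e3, D_eq_sum, TensorProduct.tmul_sum, map_sum, map_sum]
    refine Finset.sum_congr rfl fun l _ => ?_
    rw [TensorProduct.tmul_smul, map_smul, map_smul, hz]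
  rw [Ideal.toCotangent_eq] at h1
  simp only [AddSubmonoidClass.coe_finsetSum, SetLike.val_smul, smul_eq_mul, hker] at h1
  have hI : I ≤ RingHom.ker (eval a) := fun p hp => ha p hp
  have e : G = (G - ∑ l, pderiv l G * (z l).1) + ∑ l, pderiv l G * (z l).1 := by ring
  rw [e]
  refine add_mem ?_ (sum_mem fun l _ => Ideal.mul_mem_mul (hd l) (hker.le (z l).2))
  rw [pow_two] at h1
  exact Ideal.mul_mono_left hI h1

/-- Equations spanning the differentials of an ideal generate it near the point. -/
theorem exists_gen {r c : ℕ} (I : Ideal (MvPolynomial (Fin r) k))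
    [Algebra.FormallySmooth k (MvPolynomial (Fin r) k ⧸ I)] {a : Fin r → k} (ha : ∀ p ∈ I, eval a p = 0)
    (g : Fin c → MvPolynomial (Fin r) k) (hg : ∀ p, g p ∈ I)
    (hspan : ∀ F ∈ I, ∃ s : Fin c → k, ∀ l, eval a (pderiv l F) = ∑ p, s p * eval a (pderiv l (g p))) :
    ∃ u, eval a u ≠ 0 ∧ ∀ F ∈ I, ∃ q : Fin c → MvPolynomial (Fin r) k, u * F = ∑ p, q p * g p := by
  classical
  let P := MvPolynomial (Fin r) k
  let J : Ideal P := Ideal.span (Set.range g)
  let m := RingHom.ker (eval a : P →+* k)
  have hle : I ≤ J ⊔ m * I := by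
    intro F hF
    obtain ⟨s, hs⟩ := hspan F hF
    have hJI : J ≤ I := Ideal.span_le.2 (by rintro _ ⟨p, rfl⟩; exact hg p)
    have hJ : ∑ p, C (s p) * g p ∈ J :=
      sum_mem fun p _ => Ideal.mul_mem_left _ _ (Ideal.subset_span ⟨p, rfl⟩)
    rw [show F = (∑ p, C (s p) * g p) + (F - ∑ p, C (s p) * g p) by ring]
    refine Submodule.add_mem_sup hJ (mem_smul_of_dd_eq_zero I ha (sub_mem hF (hJI hJ)) fun l => ?_)
    simp [map_sum, hs l, Derivation.leibniz]
  let N : Submodule P (P ⧸ J) := Submodule.map J.mkQ I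
  obtain ⟨u, hu1, hu⟩ := Submodule.exists_sub_one_mem_and_smul_eq_zero_of_fg_of_le_smul m N
    ((IsNoetherian.noetherian I).map _) (by
      rintro _ ⟨F, hF, rfl⟩
      obtain ⟨x, hx, y, hy, rfl⟩ := Submodule.mem_sup.1 (hle hF)
      rw [map_add, show J.mkQ x = 0 from (Submodule.Quotient.mk_eq_zero _).2 hx, zero_add]
      clear hF
      induction hy using Submodule.mul_induction_on' with
      | mem_mul_mem s hs t ht =>
        rw [← smul_eq_mul, map_smul]
        exact Submodule.smul_mem_smul hs ⟨t, ht, rfl⟩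
      | add s _ t _ hs ht => rw [map_add]; exact add_mem hs ht)
  refine ⟨u, fun h0 => ?_, fun F hF => ?_⟩
  · rw [RingHom.mem_ker, map_sub, map_one, h0, zero_sub, neg_eq_zero] at hu1
    exact one_ne_zero hu1
  · have h := hu _ ⟨F, hF, rfl⟩
    rw [← map_smul, Submodule.mkQ_apply, Submodule.Quotient.mk_eq_zero, smul_eq_mul] at h
    obtain ⟨q, hq⟩ := Ideal.mem_span_range_iff_exists_fun.1 h
    exact ⟨q, hq.symm⟩

variable {r : ℕ} {X : Scheme.{u}} (i : X ⟶ CohB1.ProjSpace r k) [IsClosedImmersion i]
variable (n : ℕ) [SmoothOfRelativeDimension n (i ≫ CohB1.ProjSpace.toSpec r k)]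

/-- Local equations of `X` in a chart. -/
structure LocEq (j : Fin (r + 1)) where
  g : Fin (r - n) → MvPolynomial (Fin r) k
  e : Fin (r - n) → Fin r
  u : MvPolynomial (Fin r) k
  mem : ∀ p, g p ∈ chartIdeal i j
  gen : ∀ G ∈ chartIdeal i j, ∃ q : Fin (r - n) → MvPolynomial (Fin r) k, u * G = ∑ p, q p * g p

/-- Local equations exist at every point. -/
theorem exists_locEq {j : Fin (r + 1)} {a : Fin r → k} (ha : a ∈ chartPts i j) :
    ∃ L : LocEq i n j, eval a L.u ≠ 0 ∧ (minor L.g L.e a).det ≠ 0 := by
  classical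
  haveI : Algebra.Smooth k (MvPolynomial (Fin r) k ⧸ chartIdeal i j) :=
    finiteType_of_smoothRelDim (smoothRelDim_chart (n := n) i j)
  let Λ : chartIdeal i j →ₗ[k] Module.Dual k (Fin r → k) :=
    { toFun := fun p => dAt p.1 a
      map_add' := fun p q => LinearMap.ext fun w => dAt_add p.1 q.1 a w
      map_smul' := fun t p => LinearMap.ext fun w => by
        change dAt (t • p.1) a w = t • dAt p.1 a w
        rw [dAt_eq_dd, dAt_eq_dd]
        exact (ddL a w).map_smul t p.1 }
  have hco : Submodule.dualCoannihilator (LinearMap.range Λ) = chartTan i j a := by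
    ext w
    rw [Submodule.mem_dualCoannihilator, mem_chartTan]
    constructor
    · exact fun h p hp => h _ ⟨⟨p, hp⟩, rfl⟩
    · rintro h _ ⟨p, rfl⟩
      exact h p.1 p.2
  have hfr : Module.finrank k (LinearMap.range Λ) = r - n := by
    have h := Subspace.finrank_add_finrank_dualCoannihilator_eq (LinearMap.range Λ)
    rw [hco, finrank_chartTan (n := n) i ((inCone_ins i).2 ha), Module.finrank_pi, Fintype.card_fin] at h
    omega
  letI : AddCommGroup (LinearMap.range Λ) := Submodule.addCommGroup (LinearMap.range Λ : Submodule k (Module.Dual k (Fin r → k)))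
  haveI : Module.Free k (LinearMap.range Λ) := Module.Free.of_divisionRing k (LinearMap.range Λ)
  let b := Module.finBasisOfFinrankEq k (LinearMap.range Λ) hfr
  have hb : ∀ p, ∃ G, Λ G = (b p).1 := fun p => (b p).2
  choose G hG using hb
  let g : Fin (r - n) → MvPolynomial (Fin r) k := fun p => (G p).1
  let M : Matrix (Fin r) (Fin (r - n)) k := Matrix.of fun l p => eval a (pderiv l (g p))
  have hbM : ∀ p w, (b p).1 w = ∑ l, M l p * w l := fun p w => by rw [← hG]; exact dAt_apply _ a w
  obtain ⟨e, he⟩ := VectorBundles.Elim.exists_det_submatrix_ne_zero M fun x hx => by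
    have h0 : ∑ p, x p • (b p) = 0 := by
      refine Subtype.ext (LinearMap.ext fun w => ?_)
      rw [AddSubmonoidClass.coe_finsetSum, LinearMap.sum_apply]
      change ∑ p, x p * (b p).1 w = 0
      simp only [hbM, Finset.mul_sum]
      rw [Finset.sum_comm]
      refine Finset.sum_eq_zero fun l _ => ?_
      calc ∑ p, x p * (M l p * w l) = (∑ p, M l p * x p) * w l := by
            rw [Finset.sum_mul]; exact Finset.sum_congr rfl fun p _ => by ring
        _ = 0 := by rw [hx l, zero_mul]
    funext p
    exact Fintype.linearIndependent_iff.1 b.linearIndependent x h0 p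
  obtain ⟨u, hu, hgen⟩ := exists_gen (chartIdeal i j) ha g (fun p => (G p).2) fun F hF => by
    refine ⟨fun p => b.repr ⟨Λ ⟨F, hF⟩, ⟨_, rfl⟩⟩ p, fun l => ?_⟩
    have h := congrArg (fun φ => φ.1 (Pi.single l 1)) (b.sum_repr ⟨Λ ⟨F, hF⟩, ⟨_, rfl⟩⟩)
    simp only [AddSubmonoidClass.coe_finsetSum, SetLike.val_smul, LinearMap.sum_apply, LinearMap.smul_apply,
      smul_eq_mul, hbM] at h
    change _ = dAt F a _ at h
    simpa [dAt_apply, Pi.single_apply, M, Finset.sum_ite_eq'] using h.symm
  refine ⟨⟨g, e, u, fun p => (G p).2, hgen⟩, hu, ?_⟩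
  have : minor g e a = M.submatrix e id := Matrix.ext fun q p => by simp [minor, M, aeval_eq_eval]
  rw [this]
  exact he

variable {i n} {j : Fin (r + 1)} (L : LocEq i n j)

omit [SmoothOfRelativeDimension n (i ≫ CohB1.ProjSpace.toSpec r k)] [IsClosedImmersion i] in
/-- Where the local equations are valid they cut out `X`. -/
theorem LocEq.mem_chartPts {a : Fin r → k} (hu : eval a L.u ≠ 0) (hg : ∀ p, eval a (L.g p) = 0) :
    a ∈ chartPts i j := fun F hF => by
  obtain ⟨q, hq⟩ := L.gen F hF
  have h := congrArg (eval a) hq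
  simp only [map_mul, map_sum, hg, mul_zero, Finset.sum_const_zero] at h
  exact (mul_eq_zero.1 h).resolve_left hu

/-- The tangent space through the local equations. -/
theorem LocEq.chartTan_eq {a : Fin r → k} (ha : a ∈ chartPts i j) (hu : eval a L.u ≠ 0)
    {w : Fin r → k} : w ∈ chartTan i j a ↔ ∀ p, dd (L.g p) a w = 0 := by
  rw [mem_chartTan]
  refine ⟨fun h p => (dAt_eq_dd _ a w).symm.trans (h _ (L.mem p)), fun h F hF => ?_⟩
  obtain ⟨q, hq⟩ := L.gen F hF
  have h1 : dd (L.u * F) a w = dd (∑ p, q p * L.g p) a w := by rw [hq]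
  rw [dd_mul, aeval_eq_eval, ha F hF, mul_zero, add_zero] at h1
  rw [show dd (∑ p, q p * L.g p) a w = ∑ p, dd (q p * L.g p) a w from map_sum (ddL a w) _ _] at h1
  rw [Finset.sum_eq_zero fun p _ => by
    rw [dd_mul, h p, aeval_eq_eval, ha _ (L.mem p), mul_zero, mul_zero, zero_add]] at h1
  rw [dAt_eq_dd]
  exact (mul_eq_zero.1 h1).resolve_left hu

/-- The differentials of the local equations are independent. -/
theorem LocEq.surjective_dd {a : Fin r → k} (ha : a ∈ chartPts i j) (hu : eval a L.u ≠ 0)
    (s : Fin (r - n) → k) : ∃ w : Fin r → k, ∀ p, dd (L.g p) a w = s p := by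
  classical
  let φ : (Fin r → k) →ₗ[k] (Fin (r - n) → k) := LinearMap.pi fun p => dAt (L.g p) a
  have hk : LinearMap.ker φ = chartTan i j a := by
    ext w
    rw [L.chartTan_eq ha hu, LinearMap.mem_ker, funext_iff]
    exact forall_congr' fun p => by simp [φ, dAt_eq_dd]
  have h := LinearMap.finrank_range_add_finrank_ker φ
  rw [hk, finrank_chartTan (n := n) i ((inCone_ins i).2 ha), Module.finrank_pi, Fintype.card_fin] at h
  have htop : LinearMap.range φ = ⊤ := Submodule.eq_top_of_finrank_eq (by
    rw [Module.finrank_pi, Fintype.card_fin]; omega)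
  obtain ⟨w, hw⟩ := LinearMap.range_eq_top.1 htop s
  exact ⟨w, fun p => (dAt_eq_dd _ a w).symm.trans (congrFun hw p)⟩

end Groth.SGA7.Lef
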