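import Mathlib

/-!
# Limits of points: an ultrapower with a valuation

A point in the Zariski closure of a set is the specialisation of a point of the set with
coordinates in an ultrapower.
-/

set_option autoImplicit false
set_option linter.style.haveILetI false

universe u

open MvPolynomial

namespace Groth.SGA7.Lef

variable {k : Type u} [Field k] [IsAlgClosed k]

/-- A polynomial vanishing at the common rational zeros vanishes at all common zeros in field
extensions. -/
theorem aeval_eq_zero_of_zeros {σ : Type*} [Finite σ] (I : Ideal (MvPolynomial σ k)) {F : MvPolynomial σ k}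
    (h : ∀ a : σ → k, (∀ G ∈ I, eval a G = 0) → eval a F = 0) {K : Type*} [CommRing K] [IsReduced K]
    [Algebra k K] (x : σ → K) (hx : ∀ G ∈ I, aeval x G = 0) : aeval x F = 0 := by
  have hF : F ∈ vanishingIdeal k (zeroLocus k I) := by
    rw [mem_vanishingIdeal_iff]
    intro a ha
    rw [aeval_eq_eval]
    exact h a fun G hG => by rw [← aeval_eq_eval]; exact mem_zeroLocus_iff.1 ha G hG
  rw [vanishingIdeal_zeroLocus_eq_radical] at hF
  obtain ⟨N, hN⟩ := hF
  exact eq_zero_of_pow_eq_zero (n := N) (by rw [← map_pow, hx _ hN])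

/-- Polynomials without common rational zero have no common zero in a field extension. -/
theorem exists_aeval_ne_zero {σ : Type*} [Finite σ] (I : Ideal (MvPolynomial σ k))
    (h : ∀ a : σ → k, ∃ G ∈ I, eval a G ≠ 0) {K : Type*} [CommRing K] [IsReduced K] [Nontrivial K]
    [Algebra k K] (x : σ → K) : ∃ G ∈ I, aeval x G ≠ 0 := by
  by_contra hcon
  push Not at hcon
  have := aeval_eq_zero_of_zeros I (F := 1) (fun a ha => by
    obtain ⟨G, hG, hne⟩ := h a
    exact absurd (ha G hG) hne) x hcon
  rw [map_one] at this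
  exact one_ne_zero this

omit [IsAlgClosed k] in
/-- A point in the closure of a set is the residue of a point of the set over an ultrapower. -/
theorem exists_limit {σ : Type} [Finite σ] {α : Type u} (c : α → σ → k) (s₀ : σ → k)
    (hclose : ∀ f : MvPolynomial σ k, eval s₀ f ≠ 0 → ∃ s, eval (c s) f ≠ 0) :
    ∃ (K : Type u) (_ : Field K) (_ : Algebra k K) (U : Ultrafilter α) (gm : (α → k) →ₐ[k] K)
      (O : ValuationSubring K), Function.Surjective gm ∧
      (∀ f f', gm f = gm f' ↔ ∀ᶠ s in U, f s = f' s) ∧ (∀ t, algebraMap k K t ∈ O) ∧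
      ∀ e, ∃ m : O, ¬ IsUnit m ∧ (m : K) = gm (fun s => c s e) - algebraMap k K (s₀ e) := by
  classical
  let F : Filter α := ⨅ f : {f : MvPolynomial σ k // eval s₀ f ≠ 0}, Filter.principal {s | eval (c s) f.1 ≠ 0}
  haveI : F.NeBot := by
    haveI : Nonempty {f : MvPolynomial σ k // eval s₀ f ≠ 0} := ⟨⟨1, by simp⟩⟩
    refine Filter.iInf_neBot_of_directed' (fun f g => ⟨⟨f.1 * g.1, ?_⟩, ?_, ?_⟩) fun f => ?_
    · rw [map_mul]; exact mul_ne_zero f.2 g.2
    · exact Filter.principal_mono.2 fun s hs => left_ne_zero_of_mul (by rw [← map_mul]; exact hs)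
    · exact Filter.principal_mono.2 fun s hs => right_ne_zero_of_mul (by rw [← map_mul]; exact hs)
    · exact Filter.principal_neBot_iff.2 (hclose f.1 f.2)
  let U := Ultrafilter.of F
  let K := Filter.Germ (U : Filter α) k
  let gr : (α → k) →+* K := Filter.Germ.coeRingHom _
  letI : Algebra k K := (gr.comp (Pi.ringHom fun _ => RingHom.id k)).toAlgebra
  let gm : (α → k) →ₐ[k] K := { gr with commutes' := fun _ => rfl }
  have hgm : ∀ f f', gm f = gm f' ↔ ∀ᶠ s in U, f s = f' s := fun f f' => Filter.Germ.coe_eq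
  have hgs : Function.Surjective gm := fun y => Filter.Germ.inductionOn y fun f => ⟨f, rfl⟩
  have hne : ∀ f : MvPolynomial σ k, eval s₀ f ≠ 0 → aeval (fun e => gm fun s => c s e) f ≠ 0 := by
    intro f hf h0
    have h1 : aeval (fun e => gm fun s => c s e) f = gm (fun s => eval (c s) f) := by
      rw [← MvPolynomial.comp_aeval_apply]
      congr 1
      funext s
      have : (Pi.evalAlgHom k (fun _ : α => k) s).comp (aeval fun e => fun s => c s e) = aeval (c s) :=
        algHom_ext fun e => by simp
      rw [← aeval_eq_eval]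
      exact AlgHom.congr_fun this f
    rw [h1, ← map_zero gm, hgm] at h0
    have h2 : ∀ᶠ s in (U : Filter α), eval (c s) f ≠ 0 := Ultrafilter.of_le F
      (Filter.mem_iInf_of_mem (⟨f, hf⟩ : {f : MvPolynomial σ k // eval s₀ f ≠ 0}) (Filter.mem_principal_self _))
    obtain ⟨s, hs, hs'⟩ := (h2.and h0).exists
    exact hs hs'
  let M := RingHom.ker (eval s₀)
  haveI hMp : M.IsPrime := RingHom.ker_isPrime _
  let φ : Localization.AtPrime M →+* K := IsLocalization.lift (M := M.primeCompl)
    (g := (aeval fun e => gm fun s => c s e).toRingHom) fun f => isUnit_iff_ne_zero.2 (hne f.1 fun h => f.2 h)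
  have hφ : ∀ f, φ (algebraMap _ (Localization.AtPrime M) f) = aeval (fun e => gm fun s => c s e) f :=
    fun f => IsLocalization.lift_eq _ f
  obtain ⟨O, hO⟩ := (LocalSubring.range φ).exists_le_valuationSubring
  obtain ⟨hle, hloc⟩ := hO
  have hmem : ∀ f, aeval (fun e => gm fun s => c s e) f ∈ O := fun f => hle ⟨_, hφ f⟩
  refine ⟨K, inferInstance, inferInstance, U, gm, O, hgs, hgm, fun t => by simpa using hmem (C t), fun e => ?_⟩
  refine ⟨⟨_, hmem (X e - C (s₀ e))⟩, fun hu => ?_, by simp⟩
  have hu' : IsUnit (⟨φ (algebraMap _ _ (X e - C (s₀ e))), ⟨_, rfl⟩⟩ : (LocalSubring.range φ).toSubring) := by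
    refine (isUnit_map_iff (Subring.inclusion hle) _).1 ?_
    obtain ⟨⟨y, hy⟩, hxy⟩ := hu.exists_right_inv
    refine IsUnit.of_mul_eq_one ⟨y, hy⟩ (Subtype.ext ?_)
    have h4 := congrArg Subtype.val hxy
    simpa [hφ] using h4
  obtain ⟨⟨z, w, rfl⟩, hz⟩ := hu'.exists_right_inv
  have h1 : φ (algebraMap _ (Localization.AtPrime M) (X e - C (s₀ e)) * w - 1) = 0 := by
    rw [map_sub, map_mul, map_one, sub_eq_zero]
    exact congrArg Subtype.val hz
  have h2 : algebraMap _ (Localization.AtPrime M) (X e - C (s₀ e)) * w - 1 ∈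
      IsLocalRing.maximalIdeal (Localization.AtPrime M) :=
    IsLocalRing.le_maximalIdeal (RingHom.ker_ne_top φ) h1
  have h3 : algebraMap _ (Localization.AtPrime M) (X e - C (s₀ e)) * w ∈
      IsLocalRing.maximalIdeal (Localization.AtPrime M) :=
    Ideal.mul_mem_right _ _ ((IsLocalization.AtPrime.to_map_mem_maximal_iff _ M _).2 (by simp [M]))
  exact (IsLocalRing.maximalIdeal.isMaximal (Localization.AtPrime M)).ne_top ((Ideal.eq_top_iff_one _).2 (by simpa using sub_mem h3 h2))

end Groth.SGA7.Lef
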