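import Groth.Agent.SGA7.Lef.Elim
import Groth.Agent.SGA7.Lef.Limit
import Groth.Agent.SGA7.Lef.Datum

/-!
# Specialisation of singular points along a valuation

Near a non-degenerate singular point there is only one singular point, and it is non-degenerate.
-/

set_option autoImplicit false
set_option linter.style.haveILetI false

universe u v w

open MvPolynomial

namespace Groth.SGA7.Lef

variable {k : Type u} [Field k] {A : Type v} [CommRing A] [Algebra k A]
variable {r c : ℕ} {ι : Type} [Fintype ι]
variable (g : Fin c → MvPolynomial (Fin r) k) (φ : ι → MvPolynomial (Fin r) k)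

/-- The value of the member `h` of the family. -/
noncomputable def evF (h : ι → A) (x : Fin r → A) : A := ∑ e, h e * aeval x (φ e)

/-- Its differential. -/
noncomputable def dvF (h : ι → A) (x z : Fin r → A) : A := ∑ e, h e * dd (φ e) x z

/-- The second fundamental form. -/
noncomputable def qForm (h : ι → A) (x : Fin r → A) (lam : Fin c → A) (w : Fin r → A) : A :=
  (∑ e, h e * qd (φ e) x w) - ∑ p, lam p * qd (g p) x w

/-- Its polar form. -/
noncomputable def bForm (h : ι → A) (x : Fin r → A) (lam : Fin c → A) (w z : Fin r → A) : A :=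
  (∑ e, h e * bd (φ e) x w z) - ∑ p, lam p * bd (g p) x w z

/-- A singular point of the member `h`, with multipliers. -/
structure SingF (h : ι → A) (x : Fin r → A) (lam : Fin c → A) : Prop where
  zero_g : ∀ p, aeval x (g p) = 0
  zero_f : evF φ h x = 0
  grad : ∀ z, dvF φ h x z = ∑ p, lam p * dd (g p) x z

/-- A vector in the kernel of the second fundamental form. -/
structure DegenAt (h : ι → A) (x : Fin r → A) (lam : Fin c → A) (w : Fin r → A) : Prop where
  tan : ∀ p, dd (g p) x w = 0
  quad : qForm g φ h x lam w = 0
  polar : ∀ z, (∀ p, dd (g p) x z = 0) → bForm g φ h x lam w z = 0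

/-- The non-degeneracy of the member `h` at `x`. -/
def NDF (h : ι → A) (x : Fin r → A) : Prop :=
  ∀ lam w, (∀ z, dvF φ h x z = ∑ p, lam p * dd (g p) x z) → DegenAt g φ h x lam w → w = 0

section Map

variable {A' : Type w} [CommRing A'] [Algebra k A'] (ψ : A →ₐ[k] A') (h : ι → A) (x z : Fin r → A)
  (lam : Fin c → A)

omit [Fintype ι] in
theorem map_minor (e : Fin c → Fin r) : ψ.mapMatrix (minor g e x) = minor g e fun l => ψ (x l) := by
  refine Matrix.ext fun q p => ?_
  simp [minor, map_aeval_eq]

theorem map_evF : ψ (evF φ h x) = evF φ (fun e => ψ (h e)) fun l => ψ (x l) := by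
  simp only [evF, map_sum, map_mul, map_aeval_eq]

theorem map_dvF : ψ (dvF φ h x z) = dvF φ (fun e => ψ (h e)) (fun l => ψ (x l)) fun l => ψ (z l) := by
  simp only [dvF, map_sum, map_mul, map_dd]

theorem map_qForm : ψ (qForm g φ h x lam z) =
    qForm g φ (fun e => ψ (h e)) (fun l => ψ (x l)) (fun p => ψ (lam p)) fun l => ψ (z l) := by
  simp only [qForm, map_sub, map_sum, map_mul, map_qd]

theorem map_bForm (z' : Fin r → A) : ψ (bForm g φ h x lam z z') =
    bForm g φ (fun e => ψ (h e)) (fun l => ψ (x l)) (fun p => ψ (lam p)) (fun l => ψ (z l)) fun l => ψ (z' l) := by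
  simp only [bForm, map_sub, map_sum, map_mul, map_bd]

/-- A singular point in a subring. -/
theorem SingF.of_injective (hψ : Function.Injective ψ)
    (H : SingF g φ (fun e => ψ (h e)) (fun l => ψ (x l)) fun p => ψ (lam p)) : SingF g φ h x lam := by
  refine ⟨fun p => hψ ?_, hψ ?_, fun y => hψ ?_⟩
  · rw [map_aeval_eq, map_zero]; exact H.zero_g p
  · rw [map_evF, map_zero]; exact H.zero_f
  · rw [map_dvF, map_sum, H.grad]
    simp only [map_mul, map_dd]

/-- A singular point in a quotient. -/
theorem SingF.map_of_surjective (hψ : Function.Surjective ψ) (H : SingF g φ h x lam) :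
    SingF g φ (fun e => ψ (h e)) (fun l => ψ (x l)) fun p => ψ (lam p) := by
  refine ⟨fun p => ?_, ?_, fun y => ?_⟩
  · rw [← map_aeval_eq, H.zero_g, map_zero]
  · rw [← map_evF, H.zero_f, map_zero]
  · choose y' hy' using fun l => hψ (y l)
    obtain rfl : (fun l => ψ (y' l)) = y := funext hy'
    rw [← map_dvF, H.grad, map_sum]
    simp only [map_mul, map_dd]

end Map

section Cramer

variable (e : Fin c → Fin r) (x : Fin r → A)

/-- Cramer vectors, dual to the equations up to the minor. -/
noncomputable def cramer (p : Fin c) : Fin r → A :=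
  ∑ q, (minor g e x).adjugate p q • (Pi.single (e q) 1 : Fin r → A)

theorem dd_sum_right {α : Type*} (s : Finset α) (F : MvPolynomial (Fin r) k) (y : α → Fin r → A) :
    dd F x (∑ a ∈ s, y a) = ∑ a ∈ s, dd F x (y a) := by
  simp only [dd, Finset.sum_apply, Finset.mul_sum]
  exact Finset.sum_comm

theorem dd_cramer (p p' : Fin c) :
    dd (g p') x (cramer g e x p) = if p = p' then (minor g e x).det else 0 := by
  have h : ((minor g e x).adjugate * minor g e x) p p' = if p = p' then (minor g e x).det else 0 := by
    rw [Matrix.adjugate_mul, Matrix.smul_apply, Matrix.one_apply, smul_eq_mul, mul_ite, mul_one, mul_zero]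
  rw [← h, cramer, dd_sum_right, Matrix.mul_apply]
  refine Finset.sum_congr rfl fun q _ => ?_
  rw [dd_smul_right]
  congr 1
  simp [dd, minor, Pi.single_apply]

/-- The projection to the tangent space, up to the minor. -/
noncomputable def proj (z : Fin r → A) : Fin r → A :=
  (minor g e x).det • z + (-1 : A) • ∑ p, dd (g p) x z • cramer g e x p

theorem dd_proj (z : Fin r → A) (p' : Fin c) : dd (g p') x (proj g e x z) = 0 := by
  simp only [proj, dd_add_right, dd_smul_right, dd_sum_right, dd_cramer, mul_ite, mul_zero,
    Finset.sum_ite_eq', Finset.mem_univ, if_true]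
  ring

/-- The multipliers, by Cramer's rule. -/
theorem lam_mul_det {h : ι → A} {lam : Fin c → A} (H : SingF g φ h x lam) (p : Fin c) :
    lam p * (minor g e x).det = dvF φ h x (cramer g e x p) := by
  rw [H.grad]
  simp [dd_cramer]

end Cramer

section Residue

variable {O : Type u} [CommRing O] [IsDomain O] [IsLocalRing O] [ValuationRing O] [Algebra k O]

local notation "κ" => IsLocalRing.ResidueField O
local notation "res" => IsScalarTower.toAlgHom k O (IsLocalRing.ResidueField O)

/-- The expansion of a differential along a line. -/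
theorem expand_dd (F : MvPolynomial (Fin r) k) (x w z : Fin r → A) (t : A) :
    ∃ R, dd F (x + t • w) z = dd F x z + t * (bd F x w z + t * R) := by
  choose R hR using fun l => expand_one x w (pderiv l F) t
  refine ⟨∑ l, R l * z l, ?_⟩
  rw [dd, dd, bd, Finset.mul_sum, ← Finset.sum_add_distrib, Finset.mul_sum, ← Finset.sum_add_distrib]
  exact Finset.sum_congr rfl fun l _ => by rw [hR l]; ring

omit [IsLocalRing O] [Algebra k O] in
theorem exists_dvd_all {α : Type*} (s : Finset α) (hs : s.Nonempty) (d : α → O) :
    ∃ l₀ ∈ s, ∀ l ∈ s, d l₀ ∣ d l := by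
  induction hs using Finset.Nonempty.cons_induction with
  | singleton a => exact ⟨a, by simp, by simp⟩
  | cons a s _ _ ih =>
    obtain ⟨l₀, hl₀, h⟩ := ih
    rcases ValuationRing.dvd_total (d a) (d l₀) with h' | h'
    · exact ⟨a, Finset.mem_cons_self _ _, fun l hl => (Finset.mem_cons.1 hl).elim (fun e => e ▸ dvd_refl _)
        fun hl => h'.trans (h l hl)⟩
    · exact ⟨l₀, Finset.mem_cons_of_mem hl₀, fun l hl => (Finset.mem_cons.1 hl).elim (fun e => e ▸ h')
        fun hl => h l hl⟩

theorem res_surjective : Function.Surjective (res) := IsLocalRing.residue_surjective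

/-- Two singular points with the same non-degenerate specialisation are equal. -/
theorem eq_of_sing (e : Fin c → Fin r) {h : ι → O} {x y : Fin r → O} {lam μ : Fin c → O}
    (hxy : ∀ l, res (x l) = res (y l)) (hdet : IsUnit (minor g e x).det)
    (hx : SingF g φ h x lam) (hy : SingF g φ h y μ)
    (hnd : NDF g φ (fun a => res (h a)) fun l => res (x l)) : x = y := by
  classical
  by_contra hne
  obtain ⟨l₁, hl₁⟩ := Function.ne_iff.1 hne
  obtain ⟨l₀, -, hdiv⟩ := exists_dvd_all Finset.univ ⟨l₁, Finset.mem_univ _⟩ fun l => y l - x l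
  set t := y l₀ - x l₀ with htdef
  choose w hw using fun l => hdiv l (Finset.mem_univ l)
  have ht : t ≠ 0 := fun h0 => hl₁ (by
    have := hw l₁
    rw [h0, zero_mul, sub_eq_zero] at this
    exact this.symm)
  have hw0 : w l₀ = 1 := mul_left_cancel₀ ht ((hw l₀).symm.trans (mul_one t).symm)
  have hyt : y = x + t • w := funext fun l => by
    rw [Pi.add_apply, Pi.smul_apply, smul_eq_mul, ← hw l]; ring
  have hrt : res t = 0 := by rw [htdef, map_sub, hxy, sub_self]
  -- first and second order
  choose Rg hRg using fun p => expand_two x w (g p) t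
  choose Rf hRf using fun a => expand_two x w (φ a) t
  have hg1 : ∀ p, dd (g p) x w + t * (qd (g p) x w + t * Rg p) = 0 := fun p => by
    have h1 := hy.zero_g p
    rw [hyt, hRg, hx.zero_g] at h1
    refine (mul_eq_zero.1 (?_ : t * _ = 0)).resolve_left ht
    linear_combination h1
  have hf1 : dvF φ h x w + t * ∑ a, h a * (qd (φ a) x w + t * Rf a) = 0 := by
    have h1 := hy.zero_f
    rw [evF, hyt] at h1
    simp only [hRf, mul_add, Finset.sum_add_distrib] at h1
    have h0 : ∑ a, h a * aeval x (φ a) = 0 := hx.zero_f
    refine (mul_eq_zero.1 (?_ : t * _ = 0)).resolve_left ht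
    simp only [dvF, mul_add, Finset.sum_add_distrib, Finset.mul_sum] at h1 ⊢
    rw [h0, zero_add] at h1
    calc _ = (∑ a, h a * (t * dd (φ a) x w)) +
          ((∑ a, h a * (t ^ 2 * qd (φ a) x w)) + ∑ a, h a * (t ^ 2 * (t * Rf a))) := by
          simp only [← Finset.sum_add_distrib]
          exact Finset.sum_congr rfl fun a _ => by ring
      _ = 0 := h1
  have hq : res (qForm g φ h x lam w) = 0 := by
    have h2 : qForm g φ h x lam w + t * ((∑ a, h a * Rf a) - ∑ p, lam p * Rg p) = 0 := by
      refine (mul_eq_zero.1 (?_ : t * _ = 0)).resolve_left ht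
      have h3 : ∑ p, lam p * (dd (g p) x w + t * (qd (g p) x w + t * Rg p)) = 0 :=
        Finset.sum_eq_zero fun p _ => by rw [hg1, mul_zero]
      have e1 : t * (qForm g φ h x lam w + t * ((∑ a, h a * Rf a) - ∑ p, lam p * Rg p)) =
          (dvF φ h x w + t * ∑ a, h a * (qd (φ a) x w + t * Rf a)) -
            (dvF φ h x w + t * ∑ p, lam p * (qd (g p) x w + t * Rg p)) := by
        have c1 : ∀ a, h a * (t * Rf a) = t * (h a * Rf a) := fun a => by ring
        have c2 : ∀ p, lam p * (t * Rg p) = t * (lam p * Rg p) := fun p => by ring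
        simp only [qForm, mul_add, Finset.sum_add_distrib, c1, c2, ← Finset.mul_sum]
        ring
      have e2 : dvF φ h x w + t * ∑ p, lam p * (qd (g p) x w + t * Rg p) = 0 := by
        rw [hx.grad w, Finset.mul_sum, ← Finset.sum_add_distrib]
        exact (Finset.sum_congr rfl fun p _ => by ring).trans h3
      rw [e1, hf1, e2, sub_zero]
    have h4 := congrArg res h2
    rwa [map_add, map_mul, hrt, zero_mul, add_zero, map_zero] at h4
  -- multipliers
  have hpol : ∀ z, ∃ R, ∑ p, (lam p - μ p) * dd (g p) x z + t * (bForm g φ h x μ w z + t * R) = 0 := by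
    intro z
    choose Sg hSg using fun p => expand_dd (g p) x w z t
    choose Sf hSf using fun a => expand_dd (φ a) x w z t
    refine ⟨(∑ a, h a * Sf a) - ∑ p, μ p * Sg p, ?_⟩
    have h1 := hy.grad z
    rw [dvF, hyt] at h1
    simp only [hSf, hSg, mul_add, Finset.sum_add_distrib] at h1
    have h0 : ∑ a, h a * dd (φ a) x z = ∑ p, lam p * dd (g p) x z := hx.grad z
    simp only [sub_mul, Finset.sum_sub_distrib, bForm, mul_add, mul_sub, Finset.mul_sum]
    have e1 : ∀ a, h a * (t * bd (φ a) x w z) = t * (h a * bd (φ a) x w z) := fun a => by ring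
    have e2 : ∀ p, μ p * (t * bd (g p) x w z) = t * (μ p * bd (g p) x w z) := fun p => by ring
    have e3 : ∀ a, h a * (t * (t * Sf a)) = t * (t * (h a * Sf a)) := fun a => by ring
    have e4 : ∀ p, μ p * (t * (t * Sg p)) = t * (t * (μ p * Sg p)) := fun p => by ring
    simp only [e1, e2, e3, e4] at h1
    linear_combination h1 - h0
  have hμ : ∀ p, ∃ ν, lam p - μ p = t * ν := by
    intro p
    obtain ⟨R, hR⟩ := hpol (cramer g e x p)
    simp only [dd_cramer, mul_ite, mul_zero, Finset.sum_ite_eq, Finset.mem_univ, if_true] at hR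
    obtain ⟨v, hv⟩ := hdet.exists_right_inv
    exact ⟨-(v * (bForm g φ h x μ w (cramer g e x p) + t * R)),
      by linear_combination v * hR - (lam p - μ p) * hv⟩
  choose ν hν using hμ
  have hres : (fun p => res (μ p)) = fun p => res (lam p) := funext fun p => by
    have := congrArg res (hν p)
    rw [map_sub, map_mul, hrt, zero_mul, sub_eq_zero] at this
    exact this.symm
  have hxres := hx.map_of_surjective g φ res h x lam res_surjective
  have htan : ∀ p, dd (g p) (fun l => res (x l)) (fun l => res (w l)) = 0 := fun p => by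
    have := congrArg res (hg1 p)
    rwa [map_add, map_mul, hrt, zero_mul, add_zero, map_zero, map_dd] at this
  have := hnd (fun p => res (lam p)) (fun l => res (w l)) hxres.grad ⟨htan, by rw [← map_qForm]; exact hq,
    fun z' hz' => by
      choose z hz using fun l => res_surjective (O := O) (k := k) (z' l)
      obtain rfl : (fun l => res (z l)) = z' := funext hz
      obtain ⟨R, hR⟩ := hpol z
      have h5 : t * (∑ p, ν p * dd (g p) x z + (bForm g φ h x μ w z + t * R)) = 0 := by
        rw [mul_add, Finset.mul_sum, ← hR]
        congr 1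
        exact Finset.sum_congr rfl fun p _ => by rw [hν p]; ring
      have h6 := congrArg res ((mul_eq_zero.1 h5).resolve_left ht)
      simp only [map_add, map_sum, map_mul, map_dd, hz', mul_zero, Finset.sum_const_zero, zero_add, hrt,
        zero_mul, add_zero, map_zero, map_bForm, hres] at h6
      exact h6⟩
  have h7 := congrFun this l₀
  simp only [hw0, map_one, Pi.zero_apply] at h7
  exact one_ne_zero h7

/-- A degenerate singular point specialises to a degenerate one. -/
theorem not_degenerate (e : Fin c → Fin r) {h : ι → O} {x : Fin r → O} {lam : Fin c → O} {w : Fin r → O}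
    {l₀ : Fin r} (hw0 : w l₀ = 1) (hdet : IsUnit (minor g e x).det) (hx : SingF g φ h x lam)
    (hw : DegenAt g φ h x lam w) : ¬ NDF g φ (fun a => res (h a)) fun l => res (x l) := by
  intro hnd
  have hxres := hx.map_of_surjective g φ res h x lam res_surjective
  have := hnd (fun p => res (lam p)) (fun l => res (w l)) hxres.grad
    ⟨fun p => by rw [← map_dd, hw.tan, map_zero], by rw [← map_qForm, hw.quad, map_zero], fun z' hz' => by
      choose z hz using fun l => res_surjective (O := O) (k := k) (z' l)
      obtain rfl : (fun l => res (z l)) = z' := funext hz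
      have h1 := congrArg res (hw.polar (proj g e x z) (dd_proj g e x z))
      have h2 : (fun l => res (proj g e x z l)) = res (minor g e x).det • fun l => res (z l) := by
        funext l
        simp only [proj, Pi.add_apply, Pi.smul_apply, Finset.sum_apply, smul_eq_mul, map_add, map_mul, map_sum,
          map_dd, hz', zero_mul, Finset.sum_const_zero, mul_zero, add_zero]
      rw [map_zero, map_bForm, h2] at h1
      simp only [bForm, bd_smul_right] at h1
      have h3 : res (minor g e x).det * bForm g φ (fun a => res (h a)) (fun l => res (x l))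
          (fun p => res (lam p)) (fun l => res (w l)) (fun l => res (z l)) = 0 := by
        rw [← h1, bForm, mul_sub, Finset.mul_sum, Finset.mul_sum]
        congr 1 <;> exact Finset.sum_congr rfl fun _ _ => by ring
      exact (mul_eq_zero.1 h3).resolve_left (hdet.map res).ne_zero⟩
  have h7 := congrFun this l₀
  simp only [hw0, map_one, Pi.zero_apply] at h7
  exact one_ne_zero h7

end Residue

end Groth.SGA7.Lef
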