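import Groth.Agent.PlaneCurve.Weierstrass
import Groth.Agent.SGA7.DualVar.Bertini
import Groth.Agent.SGA7.Lef.Series
import Groth.Agent.SGA7.Lef.Datum

/-!
# Non-degenerate quadratic parts, read on vectors

A quadratic form defines a smooth quadric if and only if no non-zero vector is an isotropic vector
of the polar form and a zero of the form.
-/

set_option autoImplicit false
set_option linter.style.haveILetI false

universe u

open CategoryTheory AlgebraicGeometry MvPolynomial
open Groth.SGA7.DualVar

namespace Groth.SGA7.Lef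

variable {k : Type u} [Field k]

/-- A homogeneous polynomial along a line through the origin. -/
theorem line_zero_of_isHomogeneous {m e : ℕ} {p : MvPolynomial (Fin m) k} (hp : p.IsHomogeneous e)
    (w : Fin m → k) : line (k := k) (0 : Fin m → k) w p = Polynomial.X ^ e * Polynomial.C (eval w p) := by
  conv_lhs => rw [p.as_sum]
  conv_rhs => rw [p.as_sum]
  rw [map_sum, map_sum, map_sum, Finset.mul_sum]
  refine Finset.sum_congr rfl fun d hd => ?_
  have hdeg : (∑ l ∈ d.support, d l) = e := by
    have := hp (mem_support_iff.1 hd)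
    simpa [Finsupp.weight_apply, Finsupp.sum] using this
  rw [line, aeval_monomial, eval_monomial, Finsupp.prod, Finsupp.prod]
  simp only [Pi.zero_apply, map_zero, zero_add, mul_pow, Finset.prod_mul_distrib,
    Finset.prod_pow_eq_pow_sum, hdeg, map_mul, map_prod, map_pow, Polynomial.algebraMap_eq]
  ring

theorem bd_zero_of_isHomogeneous_two {m : ℕ} {p : MvPolynomial (Fin m) k} (hp : p.IsHomogeneous 2)
    (v z : Fin m → k) : bd p 0 v z = dd p v z := by
  refine Finset.sum_congr rfl fun l _ => ?_
  rw [← coeff_line_one, line_zero_of_isHomogeneous (hp.pderiv (i := l)), ← aeval_eq_eval]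
  simp

/-- The differential of a polynomial in a point derivation. -/
theorem pDer_apply {m : ℕ} {c : MvPolynomial (Fin m) k →ₐ[k] k} (w : Fin m → k) :
    (ddL (fun l => c (X l)) w : MvPolynomial (Fin m) k →ₗ[k] k) ∈ pDer c := by
  intro p q
  have hc : ∀ q, c q = aeval (fun l => c (X l)) q := fun q =>
    AlgHom.congr_fun (algHom_ext (f := c) (g := aeval fun l => c (X l)) fun l => by simp) q
  change dd (p * q) _ w = c p * dd q _ w + c q * dd p _ w
  rw [dd_mul, hc p, hc q]
  ring

theorem dd_of_mem_pDer {m : ℕ} {c : MvPolynomial (Fin m) k →ₐ[k] k} {D : MvPolynomial (Fin m) k →ₗ[k] k}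
    (hD : D ∈ pDer c) (p : MvPolynomial (Fin m) k) :
    D p = dd p (fun l => c (X l)) fun l => D (X l) := by
  have hc : ∀ q, c q = aeval (fun l => c (X l)) q := fun q =>
    AlgHom.congr_fun (algHom_ext (f := c) (g := aeval fun l => c (X l)) fun l => by simp) q
  induction p using MvPolynomial.induction_on with
  | C t =>
    have h1 : D 1 = 0 := by
      have := hD 1 1
      simp only [mul_one, map_one, one_mul] at this
      exact left_eq_add.1 this
    rw [dd_C, show (C t : MvPolynomial (Fin m) k) = t • 1 by rw [smul_eq_C_mul, mul_one], map_smul, h1, smul_zero]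
  | add p q hp hq => rw [map_add, hp, hq, dd_add]
  | mul_X p l hp =>
    rw [mem_pDer.1 hD, hp, dd_mul, dd_X, hc p, aeval_X]
    ring

variable [IsAlgClosed k]

omit [IsAlgClosed k] in
theorem form_eq_zero_of_vanishes [Infinite k] {m e : ℕ} (Q : LefPen.Form m k e) (j : Fin (m + 1))
    (h : ∀ b : Fin m → k, eval (ins j b) Q.1 = 0) : Q.1 = 0 := by
  have hX : (MvPolynomial.X j : MvPolynomial (Fin (m + 1)) k) * Q.1 = 0 := MvPolynomial.funext fun v => by
    rw [map_zero, map_mul, eval_X]
    rcases eq_or_ne (v j) 0 with hv | hv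
    · rw [hv, zero_mul]
    · have h1 := h fun l => (v j)⁻¹ * v (j.succAbove l)
      rw [exists_ins_eq hv, DualVar.eval_smul ((mem_homogeneousSubmodule _ _).1 Q.2)] at h1
      rw [(mul_eq_zero.1 h1).resolve_left (pow_ne_zero _ (inv_ne_zero hv)), mul_zero]
  exact (mul_eq_zero.1 hX).resolve_left (X_ne_zero _)

/-- Non-degeneracy of a quadratic form, read on vectors. -/
theorem nondegQuad_iff {m : ℕ} (Q : LefPen.Form m k 2) :
    LefPen.NondegQuad k Q ↔ ∀ v : Fin (m + 1) → k, eval v Q.1 = 0 → (∀ z, dd Q.1 v z = 0) → v = 0 := by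
  classical
  have hQ := (mem_homogeneousSubmodule _ _).1 Q.2
  letI : ((LefPen.hypIdeal Q).subscheme).Over (Spec (CommRingCat.of k)) :=
    ⟨(LefPen.hypIdeal Q).subschemeι ≫ CohB1.ProjSpace.toSpec m k⟩
  have hsm := PlaneCurve.smooth_hyp_iff (k := k) (G := Q) rfl
  constructor
  · rintro ⟨hne, hor⟩ v hv hd
    by_contra hv0
    obtain ⟨j, hj⟩ := Function.ne_iff.1 hv0
    rcases Nat.eq_zero_or_pos m with rfl | hm
    · refine hne (form_eq_zero_of_vanishes Q j fun b => ?_)
      have h1 : v = v j • ins j b := funext fun l => by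
        rw [show l = j from Fin.ext (by omega)]; simp [ins]
      rw [h1, DualVar.eval_smul hQ] at hv
      exact (mul_eq_zero.1 hv).resolve_left (pow_ne_zero _ hj)
    · replace hor := hor.resolve_left hm.ne'
      have hsmj := hsm.1 hor j
      rw [affEq_eq] at hsmj
      haveI : Algebra.Smooth k (MvPolynomial (Fin m) k) := ⟨inferInstance, inferInstance⟩
      let a : Fin m → k := fun l => (v j)⁻¹ * v (j.succAbove l)
      obtain ⟨u, hu, hu0⟩ := exists_annihilator_of_smooth_quotient (dehomog j Q.1) (aeval a)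
        (by rw [aeval_eq_eval, eval_dehomog, exists_ins_eq hj, DualVar.eval_smul hQ, hv, mul_zero])
        (fun D hD => by
          rw [dd_of_mem_pDer hD, ← dAt_eq_dd]
          simp only [aeval_X]
          rw [dAt_dehomog, exists_ins_eq hj, DualVar.dAt_smul hQ, dAt_eq_dd, hd, mul_zero])
      refine hne (form_eq_zero_of_vanishes Q j fun b => ?_)
      have h0 : dehomog j Q.1 = 0 := (mul_eq_zero.1 hu0).resolve_left fun h => hu (by rw [h, map_zero])
      rw [← eval_dehomog, h0, map_zero]
  · intro h
    refine ⟨fun h0 => ?_, ?_⟩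
    · have := h (Pi.single 0 1) (by rw [h0, map_zero]) fun z => by rw [h0, dd_zero]
      simpa using congrFun this 0
    refine Or.inr (hsm.2 fun j => ?_)
    rw [affEq_eq]
    haveI : Algebra.Smooth k (MvPolynomial (Fin m) k) := ⟨inferInstance, inferInstance⟩
    obtain ⟨r, z, hr⟩ := exists_functional (k := k) (dehomog j Q.1) fun c hc => by
      by_contra hcon
      push Not at hcon
      let a : Fin m → k := fun l => c (X l)
      have hca : ∀ q, c q = eval a q := fun q => by
        rw [← aeval_eq_eval]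
        exact AlgHom.congr_fun (algHom_ext (f := c) (g := aeval a) fun l => by simp [a]) q
      have hd : ∀ w : Fin m → k, dd (dehomog j Q.1) a w = 0 := fun w => hcon _ (pDer_apply w)
      have hv : eval (ins j a) Q.1 = 0 := by rw [← eval_dehomog, ← hca, hc]
      refine ins_ne_zero j a (h _ hv fun z => ?_)
      rw [← dAt_eq_dd, decompose_coord j a z, map_add, map_smul, euler hQ, hv, mul_zero, smul_zero,
        add_zero, ← dAt_dehomog, dAt_eq_dd, hd]
    haveI : Algebra.FormallySmooth k (MvPolynomial (Fin m) k ⧸ Ideal.span {dehomog j Q.1}) :=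
      formallySmooth_quotient (dehomog j Q.1) z r hr
    exact ⟨inferInstance, Algebra.FinitePresentation.of_finiteType.1 inferInstance⟩

omit [IsAlgClosed k] in
theorem truncTotal_eq_quadPart {m : ℕ} {Q : MvPowerSeries (Fin (m + 1)) k} {Q₂ : LefPen.Form m k 2}
    (hQ : LefPen.StartsInDegTwo k Q) (h2 : LefPen.IsQuadPart k Q Q₂) :
    MvPowerSeries.truncTotal 3 Q = Q₂.1 := by
  ext e
  rcases lt_trichotomy e.degree 2 with h | h | h
  · rw [MvPowerSeries.coeff_truncTotal _ (by omega), hQ e h,
      ((mem_homogeneousSubmodule _ _).1 Q₂.2).coeff_eq_zero (by omega)]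
  · rw [MvPowerSeries.coeff_truncTotal _ (by omega), h2 e h]
  · rw [((mem_homogeneousSubmodule _ _).1 Q₂.2).coeff_eq_zero (by omega)]
    exact MvPowerSeries.coeff_truncTotal_eq_zero _ (by omega)

/-- Non-degeneracy of the quadratic part of a series. -/
theorem nondegQuad_iff_ndser {m : ℕ} {Q : MvPowerSeries (Fin (m + 1)) k} {Q₂ : LefPen.Form m k 2}
    (hQ : LefPen.StartsInDegTwo k Q) (h2 : LefPen.IsQuadPart k Q Q₂) :
    LefPen.NondegQuad k Q₂ ↔ NDser Q := by
  have hh := (mem_homogeneousSubmodule _ _).1 Q₂.2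
  rw [nondegQuad_iff]
  have e : ∀ v, q2 Q v = eval v Q₂.1 := fun v => by
    rw [q2, truncTotal_eq_quadPart hQ h2, qd_zero_of_isHomogeneous_two hh, aeval_eq_eval]
  refine forall_congr' fun v => ?_
  rw [e]
  refine imp_congr_right fun hv => imp_congr_left (forall_congr' fun z => ?_)
  simp only [← bd_zero_of_isHomogeneous_two hh, q2, truncTotal_eq_quadPart hQ h2, qd_add_right]
  have hq : qd Q₂.1 0 v = eval v Q₂.1 := by rw [qd_zero_of_isHomogeneous_two hh, aeval_eq_eval]
  exact ⟨fun h => by rw [h, add_zero, hq], fun h => by linear_combination h - hq⟩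

omit [IsAlgClosed k] in
/-- A series with non-degenerate quadratic part has one as a form. -/
theorem exists_quadPart {m : ℕ} (Q : MvPowerSeries (Fin (m + 1)) k) :
    ∃ Q₂ : LefPen.Form m k 2, LefPen.IsQuadPart k Q Q₂ := by
  refine ⟨⟨homogeneousComponent 2 (MvPowerSeries.truncTotal 3 Q),
    (mem_homogeneousSubmodule _ _).2 (homogeneousComponent_isHomogeneous _ _)⟩, fun e he => ?_⟩
  rw [coeff_homogeneousComponent, if_pos he, MvPowerSeries.coeff_truncTotal _ (by omega)]

end Groth.SGA7.Lef
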